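import Cfsg.Agent.Bead29.Blocks
import Cfsg.Agent.Lib.BlocksCore.FirstMain
import Cfsg.Agent.Lib.BlocksCore.WeakOrth
import Cfsg.Prelude.Def_CaseTheorems

/-!
# Defect groups of blocks of the symmetric groups

A defect group is a Sylow subgroup of the symmetric group on the points it moves.
-/

set_option autoImplicit false

namespace Cfsg.Agent.Bead29

open Finset Function
open Cfsg.Agent.BlocksCore Cfsg.Agent.BlocksDefect

variable {n p : ℕ} {M : Ideal Cfsg.AlgInt}

/-- The points moved by a subgroup. -/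
def moved (D : Subgroup (Equiv.Perm (Fin n))) : Set (Fin n) := {x | ∃ d ∈ D, d x ≠ x}

theorem pow_apply_eq {α : Type*} {z d : Equiv.Perm α} {x : α} (hc : d * z = z * d) (h : z x = d x)
    (k : ℕ) : (z ^ k) x = (d ^ k) x := by
  induction k with
  | zero => simp
  | succ k ih =>
    have hck : d ^ k * z = z * d ^ k := (Commute.pow_left hc k).eq
    have := congrArg (fun f : Equiv.Perm α => f x) hck
    simp only [Equiv.Perm.mul_apply] at this
    rw [pow_succ', Equiv.Perm.mul_apply, ih, ← this, h, pow_succ, Equiv.Perm.mul_apply]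

/-- The subgroup of the centralizer of `D` preserving the orbits of `D`. -/
def orbitCent (D : Subgroup (Equiv.Perm (Fin n))) : Subgroup (Equiv.Perm (Fin n)) where
  carrier := {z | z ∈ Subgroup.centralizer (D : Set (Equiv.Perm (Fin n))) ∧ ∀ x, ∃ d ∈ D, z x = d x}
  one_mem' := ⟨Subgroup.one_mem _, fun x => ⟨1, D.one_mem, rfl⟩⟩
  mul_mem' := by
    intro a b ha hb
    refine ⟨Subgroup.mul_mem _ ha.1 hb.1, fun x => ?_⟩
    obtain ⟨d, hd, hd'⟩ := hb.2 x
    obtain ⟨e, he, he'⟩ := ha.2 (b x)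
    exact ⟨e * d, D.mul_mem he hd, by
      rw [Equiv.Perm.mul_apply, he', hd', Equiv.Perm.mul_apply]⟩
  inv_mem' := by
    intro a ha
    refine ⟨Subgroup.inv_mem _ ha.1, fun x => ?_⟩
    obtain ⟨d, hd, hd'⟩ := ha.2 (a⁻¹ x)
    refine ⟨d⁻¹, D.inv_mem hd, ?_⟩
    have hd'' : x = d (a⁻¹ x) := by simpa using hd'
    apply d.injective
    rw [← hd'']
    simp

theorem isPGroup_orbitCent [Fact p.Prime] {D : Subgroup (Equiv.Perm (Fin n))} (hD : IsPGroup p D) :
    IsPGroup p (orbitCent D) := by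
  obtain ⟨m, hm⟩ := IsPGroup.iff_card.mp hD
  rintro ⟨z, hz, hzx⟩
  refine ⟨m, Subtype.ext (Equiv.ext fun x => ?_)⟩
  obtain ⟨d, hd, hdx⟩ := hzx x
  show (z ^ p ^ m) x = x
  rw [pow_apply_eq (Subgroup.mem_centralizer_iff.mp hz d hd) hdx, ← hm]
  have := congrArg Subtype.val (pow_card_eq_one' (G := D) (x := ⟨d, hd⟩))
  simp only [SubmonoidClass.coe_pow, OneMemClass.coe_one] at this
  rw [this]
  rfl

theorem orbitCent_le [Fact p.Prime] (hM : Cfsg.IsPModular p M)
    {B : Set (Cfsg.IrrCharacter (Equiv.Perm (Fin n)))} (hB : Cfsg.IsPBlock M B)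
    {D : Subgroup (Equiv.Perm (Fin n))} (hD : Cfsg.IsDefectGroup p M B D) :
    orbitCent D ≤ D := by
  classical
  have hDp := isPGroup_of_isDefectGroup hD
  obtain ⟨b, hb, hbD, -⟩ := exists_inducing_normalizer hM hDp hB hD
  set Nm := Subgroup.normalizer (D : Set (Equiv.Perm (Fin n))) with hNm
  have hle : orbitCent D ≤ Nm := fun z hz => (Subgroup.centralizer_le_normalizer _) hz.1
  have : ((orbitCent D).subgroupOf Nm).Normal := by
    refine ⟨?_⟩
    rintro ⟨a, ha⟩ hmem ⟨g, hg⟩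
    simp only [Subgroup.mem_subgroupOf] at hmem ⊢
    obtain ⟨hac, hax⟩ := hmem
    refine ⟨?_, fun x => ?_⟩
    · rw [Subgroup.mem_centralizer_iff]
      intro d hd
      have hd' : g⁻¹ * d * g ∈ D := by
        have := (Subgroup.mem_normalizer_iff.mp (Subgroup.inv_mem _ hg) d).mp hd
        simpa using this
      have h := Subgroup.mem_centralizer_iff.mp hac _ hd'
      show d * (g * a * g⁻¹) = g * a * g⁻¹ * d
      calc d * (g * a * g⁻¹) = g * ((g⁻¹ * d * g) * a) * g⁻¹ := by group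
        _ = g * (a * (g⁻¹ * d * g)) * g⁻¹ := by rw [h]
        _ = g * a * g⁻¹ * d := by group
    · obtain ⟨d, hd, hdx⟩ := hax (g⁻¹ x)
      refine ⟨g * d * g⁻¹, (Subgroup.mem_normalizer_iff.mp hg d).mp hd, ?_⟩
      show (g * a * g⁻¹) x = (g * d * g⁻¹) x
      simpa [Equiv.Perm.mul_apply] using congrArg g hdx
  have hp2 : IsPGroup p ((orbitCent D).subgroupOf Nm) :=
    (isPGroup_orbitCent hDp).of_equiv (Subgroup.subgroupOfEquivOfLe hle).symm
  have h := le_defectGroup ((orbitCent D).subgroupOf Nm) hM hp2 hb hbD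
  intro z hz
  exact h (show (⟨z, hle hz⟩ : Nm) ∈ (orbitCent D).subgroupOf Nm from hz)

/-- An element moving exactly one orbit. -/
theorem exists_orbit_element [Fact p.Prime] {D : Subgroup (Equiv.Perm (Fin n))} (hD : IsPGroup p D)
    {x : Fin n} (hx : x ∈ moved D) :
    ∃ a ∈ orbitCent D, ∀ y, a y ≠ y ↔ ∃ d ∈ D, y = d x := by
  classical
  let O := MulAction.orbit D x
  let φ : D →* Equiv.Perm O := MulAction.toPermHom D O
  have hmemO : ∀ y, y ∈ O ↔ ∃ d ∈ D, y = d x := fun y =>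
    ⟨fun ⟨d, hd⟩ => ⟨(d : Equiv.Perm (Fin n)), d.2, hd.symm⟩, fun ⟨d, hd, h⟩ => ⟨⟨d, hd⟩, h.symm⟩⟩
  have hP : IsPGroup p φ.range := hD.of_surjective φ.rangeRestrict φ.rangeRestrict_surjective
  have : Nontrivial φ.range := by
    obtain ⟨d, hd, hdx⟩ := hx
    refine ⟨⟨φ.rangeRestrict ⟨d, hd⟩, 1, fun h => hdx ?_⟩⟩
    have h2 := congrArg (fun e : φ.range => (((e : Equiv.Perm O) ⟨x, MulAction.mem_orbit_self x⟩ : O) : Fin n)) h
    exact h2
  have := hP.center_nontrivial
  obtain ⟨⟨⟨z, hz⟩, hzc⟩, hne⟩ := exists_ne (1 : Subgroup.center φ.range)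
  have hcomm : ∀ d : D, φ d * z = z * φ d := fun d =>
    congrArg Subtype.val (Subgroup.mem_center_iff.mp hzc (φ.rangeRestrict d))
  have hzne : z ≠ 1 := fun h => hne (Subtype.ext (Subtype.ext h))
  have hfpf : ∀ o : O, z o ≠ o := by
    intro o ho
    refine hzne (Equiv.ext fun o' => ?_)
    obtain ⟨d, rfl⟩ := MulAction.exists_smul_eq D o o'
    have := congrArg (fun f : Equiv.Perm O => f o) (hcomm d)
    simp only [Equiv.Perm.mul_apply] at this
    rw [ho] at this
    exact this.symm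
  let a : Equiv.Perm (Fin n) := Equiv.Perm.ofSubtype (p := (· ∈ O)) z
  have ha_in : ∀ y (hy : y ∈ O), a y = z ⟨y, hy⟩ := fun y hy =>
    Equiv.Perm.ofSubtype_apply_of_mem z hy
  have ha_out : ∀ y, y ∉ O → a y = y := fun y hy =>
    Equiv.Perm.ofSubtype_apply_of_not_mem z hy
  refine ⟨a, ⟨?_, fun y => ?_⟩, fun y => ?_⟩
  · rw [Subgroup.mem_centralizer_iff]
    intro d hd
    refine Equiv.ext fun y => ?_
    simp only [Equiv.Perm.mul_apply]
    by_cases hy : y ∈ O
    · have hdy : d y ∈ O := MulAction.mem_orbit_of_mem_orbit (⟨d, hd⟩ : D) hy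
      rw [ha_in y hy, ha_in (d y) hdy]
      exact congrArg (fun f : Equiv.Perm O => ((f ⟨y, hy⟩ : O) : Fin n)) (hcomm ⟨d, hd⟩)
    · have hdy : d y ∉ O := fun h => hy (by
        have := MulAction.mem_orbit_of_mem_orbit (⟨d, hd⟩ : D)⁻¹ h
        simpa [Subgroup.smul_def] using this)
      rw [ha_out y hy, ha_out (d y) hdy]
  · by_cases hy : y ∈ O
    · obtain ⟨d, hd⟩ := hz
      refine ⟨d, d.2, ?_⟩
      rw [ha_in y hy, ← hd]
      rfl
    · exact ⟨1, D.one_mem, ha_out y hy⟩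
  · rw [← hmemO]
    refine ⟨fun h => by_contra fun hn => h (ha_out y hn), fun hy h => hfpf ⟨y, hy⟩ ?_⟩
    rw [ha_in y hy] at h
    exact Subtype.ext h

/-- The structure of defect groups. -/
theorem defect_structure [Fact p.Prime] (hM : Cfsg.IsPModular p M)
    {B : Set (Cfsg.IrrCharacter (Equiv.Perm (Fin n)))} (hB : Cfsg.IsPBlock M B)
    {D : Subgroup (Equiv.Perm (Fin n))} (hD : Cfsg.IsDefectGroup p M B D)
    {E : Subgroup (Equiv.Perm (Fin n))} (hE : IsPGroup p E) (hEs : ∀ e ∈ E, ∀ x, e x ≠ x → x ∈ moved D) :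
    ∃ g : Equiv.Perm (Fin n), E.map (MulAut.conj g).toMonoidHom ≤ D := by
  classical
  have hDp := isPGroup_of_isDefectGroup hD
  obtain ⟨g, hg, P, hP⟩ := hD
  have hDg : ∀ d ∈ D, d * g = g * d := by
    intro d hd
    rw [hP] at hd
    obtain ⟨⟨d', hd'⟩, -, rfl⟩ := hd
    exact mem_centralizer_singleton.mp hd'
  have := isPrime hM
  have hreg : ¬ p ∣ orderOf g := by
    by_contra hdvd
    refine hg.2.1 ?_
    rw [blockCoeff_eq_zero_of_dvd_orderOf hM hB hdvd]
    exact memLocalIdeal_zero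
  have hfix : ∀ x ∈ moved D, g x = x := by
    intro x hx
    obtain ⟨a, ha, hsupp⟩ := exists_orbit_element hDp hx
    have haD : a ∈ D := orbitCent_le hM hB ⟨g, hg, P, hP⟩ ha
    have hgx : a (g x) ≠ g x := by
      have h1 := congrArg (fun f : Equiv.Perm (Fin n) => f x) (hDg a haD)
      simp only [Equiv.Perm.mul_apply] at h1
      rw [h1]
      exact g.injective.ne ((hsupp x).mpr ⟨1, D.one_mem, rfl⟩)
    obtain ⟨d, hd, hdx⟩ := (hsupp _).mp hgx
    obtain ⟨m, hm⟩ := IsPGroup.iff_card.mp hDp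
    have h2 : (g ^ p ^ m) x = x := by
      rw [pow_apply_eq (hDg d hd) hdx, ← hm]
      have := congrArg Subtype.val (pow_card_eq_one' (G := D) (x := ⟨d, hd⟩))
      simp only [SubmonoidClass.coe_pow, OneMemClass.coe_one] at this
      rw [this]
      rfl
    obtain ⟨j, hj⟩ := exists_pow_eq_self_of_coprime (x := g) (n := p ^ m)
      (Nat.Coprime.pow_left m ((Fact.out : p.Prime).coprime_iff_not_dvd.mpr hreg))
    conv_lhs => rw [← hj]
    have h3 : (g ^ p ^ m) ∈ MulAction.stabilizer (Equiv.Perm (Fin n)) x := h2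
    exact pow_mem h3 j
  set S : Set (Fin n) := moved D with hS
  let R : Subgroup (Equiv.Perm (Fin n)) := fixingSubgroup (Equiv.Perm (Fin n)) Sᶜ
  have hR : ∀ e : Equiv.Perm (Fin n), e ∈ R ↔ ∀ x, x ∉ S → e x = x := by
    intro e
    simp [R, mem_fixingSubgroup_iff]
  have hRg : R ≤ Subgroup.centralizer ({g} : Set (Equiv.Perm (Fin n))) := by
    intro e he
    rw [mem_centralizer_singleton]
    refine Equiv.ext fun x => ?_
    simp only [Equiv.Perm.mul_apply]
    by_cases hx : x ∈ S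
    · rw [hfix x hx]
      by_cases hex : e x ∈ S
      · rw [hfix _ hex]
      · have := (hR e).mp he _ hex
        exact absurd (by rw [e.injective this]; exact hx) hex
    · rw [(hR e).mp he x hx]
      exact (hR e).mp he (g x) fun hgx => hx (by
        have := hfix _ hgx
        exact g.injective this ▸ hgx)
  have hDR : D ≤ R := fun d hd => (hR d).mpr fun x hx => by
    by_contra h
    exact hx ⟨d, hd, h⟩
  have hER : E ≤ R := fun e he => (hR e).mpr fun x hx => by
    by_contra h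
    exact hx (hEs e he x h)
  obtain ⟨Q, hQ⟩ := (hE.of_equiv (Subgroup.subgroupOfEquivOfLe hER).symm :
    IsPGroup p (E.subgroupOf R)).exists_le_sylow
  obtain ⟨Q', hQ'⟩ := (hDp.of_equiv (Subgroup.subgroupOfEquivOfLe hDR).symm :
    IsPGroup p (D.subgroupOf R)).exists_le_sylow
  have hQ'D : (Q' : Subgroup R).map R.subtype ≤ D := by
    set Dc := (P : Subgroup (Subgroup.centralizer ({g} : Set (Equiv.Perm (Fin n))))) with hDc
    set T := ((Q' : Subgroup R).map R.subtype).subgroupOf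
      (Subgroup.centralizer ({g} : Set (Equiv.Perm (Fin n)))) with hT
    have hle' : (Q' : Subgroup R).map R.subtype ≤
        Subgroup.centralizer ({g} : Set (Equiv.Perm (Fin n))) :=
      (Subgroup.map_subtype_le _).trans hRg
    have hTp : IsPGroup p T :=
      (Q'.isPGroup'.map _).of_equiv (Subgroup.subgroupOfEquivOfLe hle').symm
    have hPT : Dc ≤ T := by
      intro d hd
      have hdD : (d : Equiv.Perm (Fin n)) ∈ D := by rw [hP]; exact ⟨d, hd, rfl⟩
      exact ⟨⟨d, hDR hdD⟩, hQ' hdD, rfl⟩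
    have heq := P.is_maximal' hTp hPT
    intro e he
    have : (⟨e, hle' he⟩ : Subgroup.centralizer ({g} : Set (Equiv.Perm (Fin n)))) ∈ T := he
    rw [heq] at this
    rw [hP]
    exact ⟨_, this, rfl⟩
  obtain ⟨r, hr⟩ := MulAction.exists_smul_eq R Q Q'
  refine ⟨(r : Equiv.Perm (Fin n)), ?_⟩
  rintro _ ⟨e, he, rfl⟩
  refine hQ'D ⟨r * ⟨e, hER he⟩ * r⁻¹, ?_, rfl⟩
  rw [← hr]
  show r * ⟨e, hER he⟩ * r⁻¹ ∈ ((r • Q : Sylow p R) : Subgroup R)
  exact ⟨⟨e, hER he⟩, hQ he, rfl⟩

/-- The rank bound from the number of moved points. -/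
theorem le_of_moved [Fact p.Prime] (hM : Cfsg.IsPModular p M)
    {B : Set (Cfsg.IrrCharacter (Equiv.Perm (Fin n)))} (hB : Cfsg.IsPBlock M B)
    {D : Subgroup (Equiv.Perm (Fin n))} (hD : Cfsg.IsDefectGroup p M B D) {k s : ℕ}
    (hk : p * k ≤ Nat.card ↥(moved D)) (hs : Cfsg.SectionalPRankLE p s D) : k ≤ s := by
  classical
  have hp := (Fact.out : p.Prime)
  have : NeZero p := ⟨hp.pos.ne'⟩
  have hcard : Fintype.card (Fin k × ZMod p) ≤ Fintype.card ↥(moved D) := by
    rw [← Nat.card_eq_fintype_card (α := ↥(moved D))]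
    simpa [mul_comm] using hk
  obtain ⟨emb⟩ := Function.Embedding.nonempty_of_card_le hcard
  let ι : (Fin k × ZMod p) ↪ Fin n := emb.trans (Function.Embedding.subtype _)
  let τ : Multiplicative (Fin k → ZMod p) →* Equiv.Perm (Fin k × ZMod p) :=
    { toFun := fun f => Equiv.prodShear (Equiv.refl _) fun i => Equiv.addRight (f.toAdd i)
      map_one' := by ext x <;> simp
      map_mul' := fun f g => by ext x <;> simp [add_comm, add_left_comm] }
  let ψ : Multiplicative (Fin k → ZMod p) →* Equiv.Perm (Fin n) :=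
    (Equiv.Perm.viaEmbeddingHom ι).comp τ
  have hτ : Injective τ := by
    intro f g h
    refine Multiplicative.toAdd.injective (funext fun i => ?_)
    have := congrArg (fun e : Equiv.Perm (Fin k × ZMod p) => (e (i, 0)).2) h
    simpa [τ] using this
  have hψ : Injective ψ := (Equiv.Perm.viaEmbeddingHom_injective ι).comp hτ
  have hexp : ∀ f : Multiplicative (Fin k → ZMod p), f ^ p = 1 := fun f => by
    refine Multiplicative.toAdd.injective (funext fun i => ?_)
    simp
  have hE : IsPGroup p ψ.range := fun ⟨e, f, hf⟩ => ⟨1, Subtype.ext (by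
    simp [← hf, ← map_pow, hexp])⟩
  obtain ⟨g, hg⟩ := defect_structure hM hB hD hE (by
    rintro _ ⟨f, rfl⟩ x hx
    by_contra hn
    refine hx (Equiv.Perm.viaEmbedding_apply_of_notMem _ ι x ?_)
    rintro ⟨y, rfl⟩
    exact hn (emb y).2)
  let ψ' : Multiplicative (Fin k → ZMod p) →* ↥D :=
    ((MulAut.conj g).toMonoidHom.comp ψ).codRestrict D fun f =>
      hg ⟨ψ f, ⟨f, rfl⟩, rfl⟩
  let q : Multiplicative (Fin k → ZMod p) →*
      ↥(⊤ : Subgroup ↥D) ⧸ (⊥ : Subgroup ↥(⊤ : Subgroup ↥D)) :=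
    (QuotientGroup.mk' _).comp (Subgroup.topEquiv.symm.toMonoidHom.comp ψ')
  have hq : Injective q := by
    rw [← MonoidHom.ker_eq_bot_iff, eq_bot_iff]
    intro f hf
    rw [MonoidHom.mem_ker] at hf
    have h1 : Subgroup.topEquiv.symm (ψ' f) = 1 := by
      simpa [q, QuotientGroup.eq_one_iff, Subgroup.mem_bot] using hf
    have h2 : ψ' f = 1 := by
      simpa using h1
    have h3 : MulAut.conj g (ψ f) = 1 := congrArg Subtype.val h2
    rw [map_eq_one_iff _ (MulAut.conj g).injective] at h3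
    exact hψ (by rw [h3, map_one])
  have h := hs ⊤ ⊥ q.range ⟨⟨fun a b => by
      obtain ⟨f, hf⟩ := a.2
      obtain ⟨f', hf'⟩ := b.2
      apply Subtype.ext
      rw [Subgroup.coe_mul, Subgroup.coe_mul, ← hf, ← hf', ← map_mul, mul_comm, map_mul]⟩⟩
    (by rintro _ ⟨f, rfl⟩; rw [← map_pow, hexp, map_one])
  rw [← Nat.card_congr (MonoidHom.ofInjective hq).toEquiv] at h
  simp only [Nat.card_eq_fintype_card, Fintype.card_multiplicative, Fintype.card_pi,
    ZMod.card, Finset.prod_const, Finset.card_univ, Fintype.card_fin] at h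
  exact (Nat.pow_le_pow_iff_right hp.one_lt).mp h

theorem p_le_moved [Fact p.Prime] {D : Subgroup (Equiv.Perm (Fin n))} (hD : IsPGroup p D)
    (h1 : D ≠ ⊥) : p ≤ Nat.card ↥(moved D) := by
  classical
  have hp := (Fact.out : p.Prime)
  obtain ⟨m, hm⟩ := IsPGroup.iff_card.mp hD
  have hm0 : m ≠ 0 := fun h => h1 ((Subgroup.card_eq_one (H := D)).mp (by rw [hm, h, pow_zero]))
  obtain ⟨d, hd⟩ := exists_prime_orderOf_dvd_card' p (G := D) (hm ▸ dvd_pow_self p hm0)
  have hd' : orderOf (d : Equiv.Perm (Fin n)) = p := by rw [Subgroup.orderOf_coe, hd]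
  obtain ⟨j, hj⟩ := Equiv.Perm.cycleType_prime_order (σ := (d : Equiv.Perm (Fin n)))
    (by rw [hd']; exact hp)
  have hsupp : p ≤ (d : Equiv.Perm (Fin n)).support.card := by
    rw [← Equiv.Perm.sum_cycleType, hj, Multiset.sum_replicate, smul_eq_mul, hd']
    exact Nat.le_mul_of_pos_left p (Nat.succ_pos j)
  refine hsupp.trans ?_
  rw [← Nat.card_eq_finsetCard]
  exact Nat.card_le_card_of_injective
    (fun x => (⟨x.1, ⟨(d : Equiv.Perm (Fin n)), d.2, Equiv.Perm.mem_support.mp x.2⟩⟩ : ↥(moved D)))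
    fun a b e => Subtype.ext (congrArg (fun z : ↥(moved D) => (z : Fin n)) e)

end Cfsg.Agent.Bead29
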