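import Cfsg.Agent.Bead29.Ops
import Cfsg.Agent.S4198

/-!
# Counting configurations: partitions and tuples of partitions
-/

set_option autoImplicit false

namespace Cfsg.Agent.Bead29

open Finset Function

variable {N : ℕ}

/-- The number of partitions. -/
def partCount (n : ℕ) : ℕ := Fintype.card (Nat.Partition n)

/-- The multisets of positive numbers with a given sum. -/
def pm (n : ℕ) : Finset (Multiset ℕ) :=
  (Finset.univ : Finset (Nat.Partition n)).map ⟨Nat.Partition.parts, fun _ _ h => Nat.Partition.ext h⟩

theorem mem_pm {n : ℕ} {μ : Multiset ℕ} : μ ∈ pm n ↔ μ.sum = n ∧ ∀ a ∈ μ, 0 < a := by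
  unfold pm
  rw [Finset.mem_map]
  constructor
  · rintro ⟨P, -, rfl⟩
    exact ⟨P.parts_sum, fun a ha => P.parts_pos ha⟩
  · rintro ⟨h1, h2⟩
    exact ⟨⟨μ, @fun i hi => h2 i hi, h1⟩, mem_univ _, rfl⟩

theorem card_pm (n : ℕ) : (pm n).card = partCount n := by
  simp [pm, partCount]

theorem partCount_succ_le (n : ℕ) (hn : 1 ≤ n) : partCount (n + 1) ≤ 2 * partCount n := by
  have := Cfsg.Agent.S4198.card_partition_succ_le n hn
  simpa [partCount, Nat.card_eq_fintype_card] using this

theorem partCount_zero : partCount 0 = 1 := by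
  simp [partCount]

theorem partCount_one : partCount 1 = 1 := by
  simp [partCount]

/-- Monotone tuples of a given sum. -/
def mono (c e : ℕ) : Finset (Fin c → ℕ) := (slice c e).filter Monotone

/-- Configurations: strictly increasing tuples of a given sum. -/
def cfg (N E : ℕ) : Finset (Fin N → ℕ) := (slice N E).filter StrictMono

theorem mem_cfg {E : ℕ} {b : Fin N → ℕ} : b ∈ cfg N E ↔ deg b = E ∧ StrictMono b := by
  simp [cfg, mem_slice]

theorem strictMono_le {b : Fin N → ℕ} (hb : StrictMono b) (i : Fin N) : (i : ℕ) ≤ b i := by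
  obtain ⟨i, hi⟩ := i
  induction i with
  | zero => exact Nat.zero_le _
  | succ m ih =>
    have h1 := ih (by omega)
    have h2 : b ⟨m, by omega⟩ < b ⟨m + 1, hi⟩ := hb (Fin.mk_lt_mk.mpr (by omega))
    simp only at h1
    show m + 1 ≤ b ⟨m + 1, hi⟩
    omega

theorem card_cfg_eq_card_mono (N e : ℕ) : (cfg N (base N + e)).card = (mono N e).card := by
  refine Finset.card_bij' (fun b _ i => b i - i) (fun g _ i => g i + i) ?_ ?_ ?_ ?_
  · intro b hb
    obtain ⟨hd, hs⟩ := mem_cfg.mp hb
    simp only [mono, mem_filter, mem_slice]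
    refine ⟨?_, fun i l hil => ?_⟩
    · have : deg (fun i : Fin N => b i - i) + base N = deg b := by
        unfold deg base
        rw [← Finset.sum_add_distrib]
        refine Finset.sum_congr rfl fun i _ => ?_
        have := strictMono_le hs i
        omega
      omega
    · have h1 := strictMono_le hs i
      suffices h : ∀ (d : ℕ) (i l : Fin N), (l : ℕ) = i + d → b i + d ≤ b l by
        have := h ((l : ℕ) - i) i l (by have : (i : ℕ) ≤ l := hil; omega)
        have : (i : ℕ) ≤ l := hil
        simp only []
        omega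
      intro d
      induction d with
      | zero => intro i l h; rw [Fin.ext (a := l) (b := i) (by omega)]; simp
      | succ d ih =>
        intro i l h
        have hl : (i : ℕ) + d < N := by omega
        have h1 := ih i ⟨(i : ℕ) + d, hl⟩ rfl
        have h2 : b ⟨(i : ℕ) + d, hl⟩ < b l := hs (Fin.mk_lt_mk.mpr (by omega) : _ < l)
        omega
  · intro g hg
    simp only [mono, mem_filter, mem_slice] at hg
    rw [mem_cfg]
    refine ⟨?_, fun i l hil => ?_⟩
    · have : deg (fun i : Fin N => g i + i) = deg g + base N := by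
        unfold deg base; rw [Finset.sum_add_distrib]
      omega
    · have h1 : g i ≤ g l := hg.2 hil.le
      have h2 : (i : ℕ) < l := hil
      show g i + i < g l + l
      omega
  · intro b hb
    funext i
    have := strictMono_le (mem_cfg.mp hb).2 i
    simp only []
    omega
  · intro g _
    funext i
    simp only []
    omega

theorem card_mono {c e : ℕ} (hec : e ≤ c) : (mono c e).card = partCount e := by
  classical
  have hval : ∀ g ∈ mono c e,
      ((Finset.univ.val.map g).filter (0 < ·)).sum = e := by
    intro g hg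
    simp only [mono, mem_filter, mem_slice] at hg
    rw [← hg.1]
    have h1 : (Finset.univ.val.map g).sum = deg g := rfl
    rw [← h1]
    have h2 := Multiset.filter_add_not (p := (0 < ·)) (Finset.univ.val.map g)
    have h3 : (((Finset.univ.val.map g).filter fun a => ¬ 0 < a)).sum = 0 :=
      Multiset.sum_eq_zero fun a ha => by have := (Multiset.mem_filter.mp ha).2; omega
    conv_rhs => rw [← h2, Multiset.sum_add, h3, add_zero]
  have hrep : ∀ g : Fin c → ℕ, (Finset.univ.val.map g).filter (0 < ·) +
      Multiset.replicate (c - Multiset.card ((Finset.univ.val.map g).filter (0 < ·))) 0 =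
      Finset.univ.val.map g := by
    intro g
    conv_rhs => rw [← Multiset.filter_add_not (p := (0 < ·)) (Finset.univ.val.map g)]
    congr 1
    symm
    rw [Multiset.eq_replicate]
    refine ⟨?_, fun a ha => by have := (Multiset.mem_filter.mp ha).2; omega⟩
    have := congrArg Multiset.card
      (Multiset.filter_add_not (p := (0 < ·)) (Finset.univ.val.map g))
    simp only [Multiset.card_add, Multiset.card_map, Finset.card_val, card_univ,
      Fintype.card_fin] at this
    omega
  unfold partCount
  rw [← Finset.card_univ]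
  refine Finset.card_bij (fun g hg => (⟨(Finset.univ.val.map g).filter (0 < ·),
    @fun a ha => (Multiset.mem_filter.mp ha).2, hval g hg⟩ : Nat.Partition e))
    (fun g hg => mem_univ _) ?_ ?_
  · intro g hg g' hg' h
    simp only [Nat.Partition.mk.injEq] at h
    have hm : (List.ofFn g : Multiset ℕ) = (List.ofFn g' : Multiset ℕ) := by
      have h1 := hrep g
      have h2 := hrep g'
      rw [h] at h1
      have h3 := h1.symm.trans h2
      simpa [List.ofFn_eq_map, Fin.univ_val_map] using h3
    simp only [mono, mem_filter] at hg hg'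
    have hp := (Multiset.coe_eq_coe.mp hm).eq_of_pairwise' (List.sortedLE_ofFn_iff.mpr hg.2).pairwise
      (List.sortedLE_ofFn_iff.mpr hg'.2).pairwise
    exact List.ofFn_injective hp
  · intro P _
    have hlen : Multiset.card P.parts ≤ c := by
      have h1 : Multiset.card P.parts • 1 ≤ P.parts.sum :=
        Multiset.card_nsmul_le_sum fun a ha => P.parts_pos ha
      rw [P.parts_sum, smul_eq_mul, mul_one] at h1
      omega
    set s : Multiset ℕ := P.parts + Multiset.replicate (c - Multiset.card P.parts) 0 with hs
    have hsl : (s.sort (· ≤ ·)).length = c := by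
      rw [Multiset.length_sort, hs, Multiset.card_add, Multiset.card_replicate]; omega
    let g : Fin c → ℕ := fun i => (s.sort (· ≤ ·)).get (i.cast hsl.symm)
    have hg : Finset.univ.val.map g = s := by
      rw [Fin.univ_val_map]
      have : List.ofFn g = s.sort (· ≤ ·) := by
        apply List.ext_getElem (by simp [hsl])
        intro i h1 h2
        simp [g]
      rw [this, Multiset.sort_eq]
    refine ⟨g, ?_, ?_⟩
    · simp only [mono, mem_filter, mem_slice]
      refine ⟨?_, fun i l hil => ?_⟩
      · show (Finset.univ.val.map g).sum = e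
        rw [hg, hs, Multiset.sum_add, P.parts_sum, Multiset.sum_replicate, smul_zero, add_zero]
      · exact (Multiset.pairwise_sort s (· ≤ ·)).sortedLE.monotone_get (by simpa using hil)
    · apply Nat.Partition.ext
      show (Finset.univ.val.map g).filter (0 < ·) = P.parts
      rw [hg, hs, Multiset.filter_add, Multiset.filter_eq_self.mpr fun a ha => P.parts_pos ha,
        Multiset.filter_eq_nil.mpr fun a ha => by rw [Multiset.eq_of_mem_replicate ha]; simp,
        add_zero]

/-- The number of `k`-tuples of partitions of total size `w`. -/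
def pp (k w : ℕ) : ℕ := ∑ e ∈ slice k w, ∏ r, partCount (e r)

theorem pp_zero (w : ℕ) : pp 0 w = if w = 0 then 1 else 0 := by
  rcases w with _ | w <;> simp [pp, slice]

theorem pp_succ (k w : ℕ) :
    pp (k + 1) w = ∑ a ∈ range (w + 1), partCount a * pp k (w - a) := by
  unfold pp
  simp only [Finset.mul_sum]
  rw [Finset.sum_sigma']
  refine Finset.sum_bij' (fun e _ => ⟨e 0, Fin.tail e⟩) (fun x _ => Fin.cons x.1 x.2)
    ?_ ?_ ?_ ?_ ?_
  · intro e he
    simp only [mem_slice, deg] at he
    rw [Fin.sum_univ_succ] at he
    have e' : ∑ i : Fin k, e i.succ = ∑ i, Fin.tail e i := rfl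
    simp only [mem_sigma, mem_range, mem_slice, deg]
    omega
  · rintro ⟨a, e⟩ hx
    simp only [mem_sigma, mem_range, mem_slice, deg] at hx
    simp only [mem_slice, deg, Fin.sum_cons]
    omega
  · intro e _
    exact Fin.cons_self_tail e
  · rintro ⟨a, e⟩ _
    simp
  · intro e _
    rw [Fin.prod_univ_succ]
    rfl

theorem pp_zero_right (k : ℕ) : pp k 0 = 1 := by
  induction k with
  | zero => simp [pp_zero]
  | succ k ih => simp [pp_succ, ih, partCount_zero]

theorem pp_one_right (k : ℕ) : pp k 1 = k := by
  induction k with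
  | zero => simp [pp_zero]
  | succ k ih =>
    rw [pp_succ, Finset.sum_range_succ, Finset.sum_range_one]
    simp [ih, pp_zero_right, partCount_zero, partCount_one]

theorem pp_succ_le (k w : ℕ) : pp (k + 1) (w + 1) ≤ pp k (w + 1) + 2 * pp (k + 1) w := by
  rw [pp_succ k (w + 1), pp_succ k w, Finset.sum_range_succ', Finset.mul_sum]
  simp only [partCount_zero, one_mul, Nat.sub_zero, Nat.add_sub_add_right]
  rw [add_comm]
  refine Nat.add_le_add_left (Finset.sum_le_sum fun a _ => ?_) _
  rw [← mul_assoc]
  refine Nat.mul_le_mul_right _ ?_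
  rcases a with _ | a
  · simp [partCount_zero, partCount_one]
  · exact partCount_succ_le (a + 1) (by omega)

theorem pp_le (k w : ℕ) : pp k (w + 1) ≤ k * (k + 1) ^ w := by
  induction k generalizing w with
  | zero => simp [pp_zero]
  | succ k ihk =>
    induction w with
    | zero => simp [pp_one_right]
    | succ w ihw =>
      refine (pp_succ_le k (w + 1)).trans ?_
      have h1 := ihk (w + 1)
      have h2 : (k + 1) ^ w ≤ (k + 1 + 1) ^ w := Nat.pow_le_pow_left (by omega) w
      have h3 : k * (k + 1) ^ (w + 1) ≤ k * (k + 1) * (k + 1 + 1) ^ w := by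
        rw [pow_succ, show k * ((k + 1) ^ w * (k + 1)) = k * (k + 1) * (k + 1) ^ w by ring]
        exact Nat.mul_le_mul_left _ h2
      calc pp k (w + 1 + 1) + 2 * pp (k + 1) (w + 1)
          ≤ k * (k + 1) * (k + 1 + 1) ^ w + 2 * ((k + 1) * (k + 1 + 1) ^ w) :=
            Nat.add_le_add (h1.trans h3) (Nat.mul_le_mul_left _ ihw)
        _ = (k + 1) * (k + 1 + 1) ^ (w + 1) := by ring

theorem pp_lt_pow {p w : ℕ} (hp : 2 ≤ p) (hw : 1 ≤ w) : pp (p - 1) w < p ^ w := by
  obtain ⟨v, rfl⟩ : ∃ v, w = v + 1 := ⟨w - 1, by omega⟩
  refine (pp_le (p - 1) v).trans_lt ?_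
  rw [show p - 1 + 1 = p by omega, pow_succ, mul_comm]
  exact Nat.mul_lt_mul_of_pos_left (by omega) (Nat.pow_pos (by omega))

end Cfsg.Agent.Bead29
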