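import Cfsg.Agent.Bead29.Conj
import Cfsg.Agent.Bead29.Counting

/-!
# Counting symmetrical configurations and the inequalities for alternating groups
-/

set_option autoImplicit false

namespace Cfsg.Agent.Bead29

open Finset Function

variable {N : ℕ}

/-- The quotients of the entries of a given residue. -/
def run (p : ℕ) (b : Fin N → ℕ) (r : Fin p) : Finset ℕ :=
  (Finset.univ.filter fun i => b i % p = (r : ℕ)).image fun i => b i / p

theorem mem_run {p : ℕ} {b : Fin N → ℕ} {r : Fin p} {q : ℕ} :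
    q ∈ run p b r ↔ ∃ i, b i = (r : ℕ) + p * q := by
  simp only [run, mem_image, mem_filter, mem_univ, true_and]
  constructor
  · rintro ⟨i, hi, rfl⟩
    exact ⟨i, by rw [← hi, Nat.mod_add_div]⟩
  · rintro ⟨i, hi⟩
    refine ⟨i, ?_, ?_⟩
    · rw [hi, Nat.add_mul_mod_self_left, Nat.mod_eq_of_lt r.2]
    · rw [hi, Nat.add_mul_div_left _ _ r.pos, Nat.div_eq_of_lt r.2, zero_add]

theorem card_run {p : ℕ} {b : Fin N → ℕ} (hb : Injective b) (r : Fin p) :
    (run p b r).card = cnt p b r := by
  refine card_image_of_injOn fun i hi l hl e => hb ?_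
  simp only [coe_filter, mem_univ, true_and, Set.mem_setOf_eq] at hi hl
  have e' : b i / p = b l / p := e
  rw [← Nat.mod_add_div (b i) p, ← Nat.mod_add_div (b l) p, hi, hl, e']

theorem base_le_run {p : ℕ} {b : Fin N → ℕ} (hb : Injective b) (r : Fin p) :
    base (cnt p b r) ≤ ∑ q ∈ run p b r, q := by
  rw [← card_run hb r, base_eq_sum_range]
  exact sum_range_card_le _

theorem deg_eq_sum_run {p : ℕ} (hp : 0 < p) {b : Fin N → ℕ} (hb : Injective b) :
    deg b = ∑ r : Fin p, (cnt p b r * (r : ℕ) + p * ∑ q ∈ run p b r, q) := by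
  unfold deg
  rw [← Finset.sum_fiberwise (s := Finset.univ) (fun i => (⟨b i % p, Nat.mod_lt _ hp⟩ : Fin p))]
  refine Finset.sum_congr rfl fun r _ => ?_
  have hfib : (Finset.univ.filter fun i => (⟨b i % p, Nat.mod_lt _ hp⟩ : Fin p) = r) =
      Finset.univ.filter fun i => b i % p = (r : ℕ) := by
    refine Finset.filter_congr fun i _ => ?_
    simp [Fin.ext_iff]
  rw [hfib, run, Finset.sum_image, Finset.mul_sum, cnt, ← smul_eq_mul, ← Finset.sum_const,
    ← Finset.sum_add_distrib]
  · refine Finset.sum_congr rfl fun i hi => ?_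
    rw [← (Finset.mem_filter.mp hi).2, Nat.mod_add_div]
  · intro i hi l hl e
    simp only [coe_filter, mem_univ, true_and, Set.mem_setOf_eq] at hi hl
    have e' : b i / p = b l / p := e
    exact hb (by rw [← Nat.mod_add_div (b i) p, ← Nat.mod_add_div (b l) p, hi, hl, e'])

/-- Complement and reflection of a set inside `range L`. -/
theorem sum_reflect {L : ℕ} {T U : Finset ℕ} (hT : ∀ q ∈ T, q < L)
    (hU : ∀ q, q ∈ U ↔ q < L ∧ L - 1 - q ∉ T) :
    T.card + U.card = L ∧
      (∑ q ∈ U, q) + base T.card = (∑ q ∈ T, q) + base U.card := by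
  have hTs : T ⊆ range L := fun q hq => mem_range.mpr (hT q hq)
  have hU' : U = (range L \ T).image fun q => L - 1 - q := by
    ext q
    rw [hU, mem_image]
    constructor
    · rintro ⟨hq, hn⟩
      exact ⟨L - 1 - q, mem_sdiff.mpr ⟨mem_range.mpr (by omega), hn⟩, by omega⟩
    · rintro ⟨x, hx, rfl⟩
      rw [mem_sdiff, mem_range] at hx
      exact ⟨by omega, by rw [show L - 1 - (L - 1 - x) = x by omega]; exact hx.2⟩
  have hinj : Set.InjOn (fun q => L - 1 - q) ↑(range L \ T) := by
    intro x hx y hy e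
    simp only [coe_sdiff, Set.mem_sdiff, mem_coe, mem_range] at hx hy
    have e' : L - 1 - x = L - 1 - y := e
    omega
  have hc : T.card + U.card = L := by
    rw [hU', card_image_of_injOn hinj, card_sdiff_of_subset hTs, card_range]
    have := card_le_card hTs
    rw [card_range] at this
    omega
  refine ⟨hc, ?_⟩
  have hs : (∑ q ∈ U, q) + ∑ q ∈ range L \ T, q = U.card * (L - 1) := by
    rw [hU', Finset.sum_image hinj, card_image_of_injOn hinj, ← Finset.sum_add_distrib,
      ← smul_eq_mul, ← Finset.sum_const]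
    refine Finset.sum_congr rfl fun x hx => ?_
    rw [mem_sdiff, mem_range] at hx
    omega
  have hsplit : (∑ q ∈ range L \ T, q) + ∑ q ∈ T, q = base L := by
    rw [base_eq_sum_range, Finset.sum_sdiff hTs]
  have h2 : ∀ k, base k * 2 + k = k * k := by
    intro k
    rw [base_eq_sum_range, Finset.sum_range_id_mul_two]
    rcases k with _ | k
    · simp
    · rw [Nat.add_sub_cancel]; ring
  have hL := h2 L
  have hTc := h2 T.card
  have hUc := h2 U.card
  have hm : U.card * (L - 1) + U.card = U.card * L := by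
    rcases L with _ | L
    · have : U.card = 0 := by omega
      simp [this]
    · rw [Nat.add_sub_cancel]; ring
  rw [← hc] at hL
  have hm' : U.card * L = U.card * T.card + U.card * U.card := by rw [← hc]; ring
  have hL' : (T.card + U.card) * (T.card + U.card) =
      T.card * T.card + 2 * (U.card * T.card) + U.card * U.card := by ring
  rw [hc] at hL hL'
  omega

/-- The lower half of the runners, middle one included. -/
def loHalf (p : ℕ) : Finset (Fin p) := Finset.univ.filter fun r => r ≤ Fin.rev r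

/-- Symmetrical tuples. -/
def symSlice (p w : ℕ) : Finset (Fin p → ℕ) := (slice p w).filter fun e => ∀ r, e (Fin.rev r) = e r

/-- Number of symmetrical configurations of weight `w`. -/
def saCount (p w : ℕ) : ℕ := ∑ e ∈ symSlice p w, ∏ r ∈ loHalf p, partCount (e r)

theorem sym_reflect {p : ℕ} {L : ℕ} (hL : 2 * N = p * L) {b : Fin N → ℕ} (hS : Sym b)
    (r : Fin p) :
    (∀ q ∈ run p b r, q < L) ∧
      ∀ q, q ∈ run p b (Fin.rev r) ↔ q < L ∧ L - 1 - q ∉ run p b r := by
  have hlt : ∀ (r : Fin p) q, q ∈ run p b r → q < L := by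
    intro r q hq
    obtain ⟨i, hi⟩ := mem_run.mp hq
    have := hS.1 i
    rw [hi, hL] at this
    exact Nat.lt_of_mul_lt_mul_left (a := p) (by omega)
  refine ⟨hlt r, fun q => ?_⟩
  have hr := r.2
  have key : q < L → ((r.rev : ℕ) + p * q < 2 * N ∧
      2 * N - 1 - ((r.rev : ℕ) + p * q) = (r : ℕ) + p * (L - 1 - q)) := by
    intro hq
    obtain ⟨d, hd⟩ : ∃ d, L = q + 1 + d := ⟨L - (q + 1), by omega⟩
    have e1 : p * L = p * q + p + p * d := by rw [hd]; ring
    rw [show L - 1 - q = d by omega, hL, e1, Fin.val_rev]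
    omega
  constructor
  · intro h
    have hq := hlt _ q h
    refine ⟨hq, fun h' => ?_⟩
    obtain ⟨k1, k2⟩ := key hq
    obtain ⟨i, hi⟩ := mem_run.mp h
    obtain ⟨l, hl⟩ := mem_run.mp h'
    exact (hS.2 _ k1).mp ⟨i, hi⟩ ⟨l, by rw [k2, hl]⟩
  · rintro ⟨hq, hn⟩
    obtain ⟨k1, k2⟩ := key hq
    refine mem_run.mpr ((hS.2 _ k1).mpr fun h => hn (mem_run.mpr ?_))
    rwa [k2] at h

theorem card_sym_le {p : ℕ} (hp : 0 < p) (hpN : p ∣ N) (c : Fin p → ℕ) {w : ℕ}
    (hw : ∀ r, w ≤ c r) {F : Finset (Fin N → ℕ)} (hF : F ⊆ cfgK N (baseK c + p * w) c)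
    (hsym : ∀ b ∈ F, Sym b) : F.card ≤ saCount p w := by
  classical
  obtain ⟨k, hk⟩ := hpN
  have hL : 2 * N = p * (2 * k) := by rw [hk]; ring
  set U := (symSlice p w).biUnion fun e =>
    Fintype.piFinset fun r : ↥(loHalf p) => sets (c r) (base (c r) + e r) with hU
  have hUc : U.card ≤ saCount p w := by
    refine card_biUnion_le.trans (Finset.sum_le_sum fun e he => ?_)
    rw [Fintype.card_piFinset, ← Finset.prod_coe_sort (loHalf p) (fun r => partCount (e r))]
    refine le_of_eq (Finset.prod_congr rfl fun r _ => card_sets ?_)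
    have h1 := Finset.single_le_sum (f := e) (fun l _ => Nat.zero_le _) (mem_univ (r : Fin p))
    have h2 : ∑ l, e l = w := mem_slice.mp (mem_filter.mp he).1
    have := hw r
    omega
  refine le_trans (Finset.card_le_card_of_injOn
    (fun b (r : ↥(loHalf p)) => run p b r) ?_ ?_) hUc
  · intro b hb
    obtain ⟨⟨hd, hs⟩, hc⟩ := mem_cfgK.mp (hF hb)
    set e : Fin p → ℕ := fun r => (∑ q ∈ run p b r, q) - base (c r) with he
    have hle : ∀ r, base (c r) ≤ ∑ q ∈ run p b r, q := fun r => hc ▸ base_le_run hs.injective r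
    refine mem_biUnion.mpr ⟨e, mem_filter.mpr ⟨mem_slice.mpr ?_, fun r => ?_⟩,
      Fintype.mem_piFinset.mpr fun r => mem_sets.mpr ⟨?_, ?_⟩⟩
    · have h := deg_eq_sum_run hp hs.injective
      rw [hd, hc] at h
      have h2 : ∑ r : Fin p, (c r * (r : ℕ) + p * ∑ q ∈ run p b r, q) =
          baseK c + p * ∑ r : Fin p, e r := by
        rw [baseK, Finset.mul_sum, ← Finset.sum_add_distrib]
        refine Finset.sum_congr rfl fun r _ => ?_
        have := Nat.mul_le_mul_left p (hle r)
        simp only [he, Nat.mul_sub]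
        omega
      rw [h2] at h
      exact Nat.eq_of_mul_eq_mul_left hp (by show p * ∑ r : Fin p, e r = p * w; omega)
    · obtain ⟨hlt, hmem⟩ := sym_reflect hL (hsym b hb) r
      obtain ⟨-, h⟩ := sum_reflect hlt hmem
      rw [card_run hs.injective, card_run hs.injective, hc] at h
      have := hle r
      have := hle r.rev
      simp only [he]
      omega
    · rw [card_run hs.injective, hc]
    · simp only [he]
      have := hle r
      omega
  · intro b hb b' hb' hbb
    obtain ⟨⟨-, hs⟩, -⟩ := mem_cfgK.mp (hF hb)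
    obtain ⟨⟨-, hs'⟩, -⟩ := mem_cfgK.mp (hF hb')
    have hrun : ∀ r : Fin p, run p b r = run p b' r := by
      intro r
      by_cases hr : r ∈ loHalf p
      · exact congrFun hbb ⟨r, hr⟩
      · have hr' : r.rev ∈ loHalf p := by
          simp only [loHalf, mem_filter, mem_univ, true_and, not_le, Fin.rev_rev] at hr ⊢
          exact hr.le
        have e : run p b r.rev = run p b' r.rev := congrFun hbb ⟨r.rev, hr'⟩
        ext q
        have h1 := (sym_reflect hL (hsym b hb) r.rev).2 q
        have h2 := (sym_reflect hL (hsym b' hb') r.rev).2 q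
        rw [Fin.rev_rev] at h1 h2
        rw [h1, h2, e]
    refine (hs.range_inj hs').mp (Set.ext fun x => ?_)
    have : ∀ b : Fin N → ℕ, x ∈ Set.range b ↔ x / p ∈ run p b ⟨x % p, Nat.mod_lt _ hp⟩ := fun b => by
      rw [mem_run]; simp [Nat.mod_add_div]
    rw [this, this, hrun]

theorem partCount_two : partCount 2 = 2 := by rw [← card_mono (le_refl 2)]; decide +kernel

theorem partCount_three : partCount 3 = 3 := by rw [← card_mono (le_refl 3)]; decide +kernel

theorem partCount_le_pow : ∀ n, partCount (n + 1) ≤ 2 ^ n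
  | 0 => by simp [partCount_one]
  | n + 1 => by
    have h := partCount_succ_le (n + 1) (by omega)
    have := partCount_le_pow n
    rw [pow_succ]
    omega

theorem partCount_lt_pow : ∀ n, partCount (n + 3) < 2 ^ (n + 2)
  | 0 => by simp [partCount_three]
  | n + 1 => by
    have h := partCount_succ_le (n + 3) (by omega)
    have := partCount_lt_pow n
    rw [pow_succ]
    show partCount (n + 4) < _
    have e : partCount (n + 3 + 1) = partCount (n + 4) := rfl
    omega

theorem pp_one (w : ℕ) : pp 1 w = partCount w := by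
  rw [pp_succ, Finset.sum_eq_single w]
  · simp [pp_zero]
  · intro a ha h
    rw [mem_range] at ha
    rw [pp_zero, if_neg (by omega), mul_zero]
  · simp

theorem saCount_two_odd (v : ℕ) : saCount 2 (2 * v + 1) = 0 := by
  refine Finset.sum_eq_zero fun e he => ?_
  obtain ⟨h1, h2⟩ := mem_filter.mp he
  have h : e 0 + e 1 = 2 * v + 1 := by
    have := mem_slice.mp h1
    rwa [deg, Fin.sum_univ_two] at this
  have : e 1 = e 0 := h2 0
  omega

theorem saCount_two_even (v : ℕ) : saCount 2 (2 * v) ≤ partCount v := by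
  have hlo : loHalf 2 = {0} := by decide +kernel
  have hsub : symSlice 2 (2 * v) ⊆ {fun _ => v} := by
    intro e he
    obtain ⟨h1, h2⟩ := mem_filter.mp he
    have h : e 0 + e 1 = 2 * v := by
      have := mem_slice.mp h1
      rwa [deg, Fin.sum_univ_two] at this
    have : e 1 = e 0 := h2 0
    rw [mem_singleton]
    funext r
    fin_cases r <;> simp <;> omega
  refine (Finset.sum_le_sum_of_subset hsub).trans (le_of_eq ?_)
  rw [Finset.sum_singleton, hlo, Finset.prod_singleton]

theorem lt_two (w : ℕ) (hw : 3 ≤ w) :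
    pp (2 - 1) w + saCount 2 w < 2 ^ (2 * (w / 2)) := by
  rw [show 2 - 1 = 1 from rfl, pp_one]
  obtain ⟨n, rfl⟩ : ∃ n, w = n + 3 := ⟨w - 3, by omega⟩
  have h1 := partCount_lt_pow n
  obtain ⟨v, hv⟩ := Nat.even_or_odd' (n + 3)
  rcases hv with hv | hv
  · rw [hv] at h1 ⊢
    have h2 := saCount_two_even v
    have h3 := partCount_le_pow (v - 1)
    rw [show v - 1 + 1 = v by omega] at h3
    have h4 : 2 ^ (v - 1) ≤ 2 ^ (n + 2) := Nat.pow_le_pow_right two_pos (by omega)
    have h5 : 2 ^ (n + 2) + 2 ^ (n + 2) = 2 ^ (2 * (2 * v / 2)) := by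
      rw [show 2 * (2 * v / 2) = n + 2 + 1 by omega, pow_succ]; ring
    omega
  · rw [hv] at h1 ⊢
    rw [saCount_two_odd, add_zero, show 2 * ((2 * v + 1) / 2) = n + 2 by omega]
    exact h1

/-- The count of symmetrical configurations for `p = 2 * h + 1`. -/
def saBound (h w : ℕ) : ℕ := ∑ a ∈ range (w / 2 + 1), pp h a * partCount (w - 2 * a)

set_option maxHeartbeats 400000 in
theorem saCount_le (h w : ℕ) : saCount (2 * h + 1) w ≤ saBound h w := by
  classical
  set f : (Fin (2 * h + 1) → ℕ) → (Fin h → ℕ) := fun e => e ∘ Fin.castLE (by omega) with hf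
  have hlo : loHalf (2 * h + 1) =
      (Finset.univ : Finset (Fin (h + 1))).image (Fin.castLE (by omega)) := by
    ext r
    simp only [loHalf, mem_filter, mem_univ, true_and, mem_image, Fin.le_def, Fin.val_rev]
    constructor
    · intro hr; exact ⟨⟨r, by omega⟩, Fin.ext rfl⟩
    · rintro ⟨x, rfl⟩; simp; omega
  have hwe : ∀ e ∈ symSlice (2 * h + 1) w,
      2 * (∑ i, f e i) + e ⟨h, by omega⟩ = w := by
    intro e he
    obtain ⟨h1, h2⟩ := mem_filter.mp he
    have hsum : ∑ i, e i = w := mem_slice.mp h1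
    rw [← Finset.sum_add_sum_compl (loHalf (2 * h + 1))] at hsum
    have hhi : (loHalf (2 * h + 1))ᶜ =
        (Finset.univ : Finset (Fin h)).image (fun i => Fin.rev (Fin.castLE (by omega) i)) := by
      ext r
      simp only [loHalf, mem_compl, mem_filter, mem_univ, true_and, mem_image, Fin.le_def,
        Fin.val_rev, not_le]
      constructor
      · intro hr
        exact ⟨⟨2 * h - r, by omega⟩, Fin.ext (by simp [Fin.val_rev]; omega)⟩
      · rintro ⟨x, rfl⟩; simp [Fin.val_rev]; omega
    rw [hhi, hlo, Finset.sum_image (fun _ _ _ _ e => Fin.castLE_injective _ e),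
      Finset.sum_image (fun _ _ _ _ e => Fin.castLE_injective _ (Fin.rev_injective e)),
      Fin.sum_univ_castSucc] at hsum
    simp only [h2] at hsum
    have e3 : e ⟨h, by omega⟩ = e (Fin.castLE (by omega) (Fin.last h)) := rfl
    have e4 : ∑ i : Fin h, e (Fin.castLE (by omega) i.castSucc) = ∑ i, f e i :=
      Finset.sum_congr rfl fun i _ => rfl
    have e5 : ∑ i : Fin h, e (Fin.castLE (by omega) i) = ∑ i, f e i := rfl
    omega
  have hterm : ∀ e : Fin (2 * h + 1) → ℕ, ∏ r ∈ loHalf (2 * h + 1), partCount (e r) =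
      (∏ i, partCount (f e i)) * partCount (e ⟨h, by omega⟩) := by
    intro e
    rw [hlo, Finset.prod_image (fun _ _ _ _ e => Fin.castLE_injective _ e),
      Fin.prod_univ_castSucc]
    rfl
  set T := (range (w / 2 + 1)).sigma fun a => slice h a with hT
  set φ : (Fin (2 * h + 1) → ℕ) → (Σ _ : ℕ, Fin h → ℕ) := fun e => ⟨∑ i, f e i, f e⟩ with hφ
  have hinj : Set.InjOn φ ↑(symSlice (2 * h + 1) w) := by
    intro e he e' he' hee
    simp only [hφ, Sigma.mk.injEq] at hee
    have hf' := eq_of_heq hee.2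
    have hmid : e ⟨h, by omega⟩ = e' ⟨h, by omega⟩ := by
      have := hwe e he
      have := hwe e' he'
      have := hee.1
      omega
    have hs := (mem_filter.mp he).2
    have hs' := (mem_filter.mp he').2
    funext r
    rcases lt_trichotomy (r : ℕ) h with hr | hr | hr
    · exact congrFun hf' ⟨r, hr⟩
    · rw [show r = ⟨h, by omega⟩ from Fin.ext hr]; exact hmid
    · rw [← hs r, ← hs' r]
      have hlt : (Fin.rev r : ℕ) < h := by rw [Fin.val_rev]; omega
      exact congrFun hf' ⟨(Fin.rev r : ℕ), hlt⟩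
  have himg : (symSlice (2 * h + 1) w).image φ ⊆ T := by
    intro x hx
    obtain ⟨e, he, rfl⟩ := mem_image.mp hx
    have := hwe e he
    exact mem_sigma.mpr ⟨mem_range.mpr (by simp only [hφ]; omega), mem_slice.mpr rfl⟩
  set g : (Σ _ : ℕ, Fin h → ℕ) → ℕ :=
    fun x => (∏ i, partCount (x.2 i)) * partCount (w - 2 * x.1) with hg
  have e1 : saCount (2 * h + 1) w = ∑ e ∈ symSlice (2 * h + 1) w, g (φ e) := by
    refine Finset.sum_congr rfl fun e he => ?_
    have h' : e ⟨h, by omega⟩ = w - 2 * ∑ i, f e i := by have := hwe e he; omega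
    rw [hterm, h']
  have e2 : ∑ e ∈ symSlice (2 * h + 1) w, g (φ e) ≤ ∑ x ∈ T, g x := by
    rw [← Finset.sum_image (f := g) hinj]
    exact Finset.sum_le_sum_of_subset himg
  have e3 : ∑ x ∈ T, g x = saBound h w := by
    rw [hT, Finset.sum_sigma, saBound]
    refine Finset.sum_congr rfl fun a _ => ?_
    rw [pp, Finset.sum_mul]
  omega

/-- A bound for `saBound`. -/
def saBound' (h w : ℕ) : ℕ := ∑ a ∈ range (w / 2 + 1), (h + 1) ^ a * partCount (w - 2 * a)

theorem pp_le_pow (k : ℕ) : ∀ w, pp k w ≤ (k + 1) ^ w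
  | 0 => by simp [pp_zero_right]
  | w + 1 => (pp_le k w).trans (by rw [pow_succ']; exact Nat.mul_le_mul_right _ (by omega))

theorem saBound'_succ (h w : ℕ) :
    saBound' h (w + 2) = partCount (w + 2) + (h + 1) * saBound' h w := by
  unfold saBound'
  rw [show (w + 2) / 2 + 1 = w / 2 + 1 + 1 by omega, Finset.sum_range_succ', Finset.mul_sum,
    add_comm]
  simp only [pow_zero, one_mul, Nat.mul_zero, Nat.sub_zero]
  congr 1
  refine Finset.sum_congr rfl fun a _ => ?_
  rw [pow_succ, show w + 2 - 2 * (a + 1) = w - 2 * a by omega]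
  ring

theorem saBound'_lt {h : ℕ} (hh : 1 ≤ h) : ∀ n, saBound' h (n + 3) < (2 * h + 1) ^ (n + 2)
  | 0 => by
    rw [saBound'_succ]
    simp [saBound', partCount_three, partCount_one]
    nlinarith
  | 1 => by
    rw [saBound'_succ, saBound'_succ h 0]
    simp [saBound', partCount_zero, partCount_two]
    have := partCount_le_pow 3
    nlinarith [Nat.zero_le (h * h * h), Nat.mul_le_mul hh hh]
  | n + 2 => by
    rw [saBound'_succ]
    have ih := saBound'_lt hh n
    have h1 := partCount_le_pow (n + 4)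
    have h2 : 2 ^ (n + 2) ≤ (2 * h + 1) ^ (n + 2) := Nat.pow_le_pow_left (by omega) _
    rw [show n + 4 + 1 = n + 3 + 2 by omega, show 2 ^ (n + 4) = 4 * 2 ^ (n + 2) by ring] at h1
    rw [show (2 * h + 1) ^ (n + 2 + 2) = (2 * h + 1) * (2 * h + 1) * (2 * h + 1) ^ (n + 2) by ring]
    have h3 : (h + 1) * saBound' h (n + 3) + (h + 1) ≤ (h + 1) * (2 * h + 1) ^ (n + 2) := by
      rw [← Nat.mul_succ]; exact Nat.mul_le_mul_left _ ih
    have h4 : (4 + (h + 1)) * (2 * h + 1) ^ (n + 2) ≤
        (2 * h + 1) * (2 * h + 1) * (2 * h + 1) ^ (n + 2) :=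
      Nat.mul_le_mul_right _ (by nlinarith)
    rw [add_mul] at h4
    omega

theorem lt_odd_big (h w : ℕ) (hh : 1 ≤ h) (hw : 3 ≤ w) :
    pp (2 * h) w + saCount (2 * h + 1) w < (2 * h + 1) ^ w := by
  obtain ⟨n, rfl⟩ : ∃ n, w = n + 3 := ⟨w - 3, by omega⟩
  have h1 := saCount_le h (n + 3)
  have h2 : saBound h (n + 3) ≤ saBound' h (n + 3) :=
    Finset.sum_le_sum fun a _ => Nat.mul_le_mul_right _ (pp_le_pow h a)
  have h3 := saBound'_lt hh n
  have h4 := pp_le (2 * h) (n + 2)
  rw [show (2 * h + 1) ^ (n + 3) = (2 * h) * (2 * h + 1) ^ (n + 2) + (2 * h + 1) ^ (n + 2) by ring]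
  show pp (2 * h) (n + 2 + 1) + _ < _
  omega

theorem two_mul_pp_two : ∀ k, 2 * pp k 2 = k * (k + 3)
  | 0 => by simp [pp_zero]
  | k + 1 => by
    have ih := two_mul_pp_two k
    rw [pp_succ, Finset.sum_range_succ, Finset.sum_range_succ, Finset.sum_range_one]
    simp only [partCount_zero, partCount_one, partCount_two, one_mul, Nat.sub_zero,
      show 2 - 1 = 1 from rfl, Nat.sub_self, pp_one_right, pp_zero_right]
    rw [show (k + 1) * (k + 1 + 3) = k * (k + 3) + 2 * k + 4 by ring]
    omega

theorem lt_odd_small (h w : ℕ) (hh : 1 ≤ h) (hw : w ≤ 2) :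
    pp (2 * h) w + saCount (2 * h + 1) w < (2 * h + 1) ^ 2 := by
  have h1 := saCount_le h w
  rcases w with _ | _ | _ | w
  · simp [pp_zero_right, saBound, partCount_zero] at h1 ⊢
    nlinarith
  · simp [pp_one_right, saBound, partCount_one, pp_zero_right] at h1 ⊢
    nlinarith
  · have h2 := two_mul_pp_two (2 * h)
    simp [saBound, Finset.sum_range_succ, partCount_zero, partCount_two, pp_zero_right,
      pp_one_right] at h1
    nlinarith
  · omega

end Cfsg.Agent.Bead29
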