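import Cfsg.Agent.Bead29.Blocks
import Cfsg.Agent.Bead29.Defect
import Cfsg.Agent.Bead29.SymCount
import Cfsg.Agent.BC87.CoveringBlock
import Cfsg.Agent.Lib.BlocksDefect.CoveredDefect
import Cfsg.Agent.Lib.CharCore.Linear
import Cfsg.Agent.Lib.CharCore.CliffordDegree
import Cfsg.Agent.Lib.BlocksDefect.Covering
import Cfsg.Agent.BlkChar.FreeAbelian.Counts

/-!
# Blocks of the alternating groups

The `p`-regular rank of a block is at most that of the covering block of the symmetric group plus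
the number of sign-invariant characters in the latter.
-/

set_option autoImplicit false

namespace Cfsg.Agent.Bead29

open Finset Function
open Cfsg.Agent.BlocksCore Cfsg.Agent.BlocksDefect
open scoped ComplexConjugate

/-- A block with a cyclic defect group has `p`-regular rank at most `p - 1`. -/
theorem blockRank_le_of_cyclic {G : Type*} [Group G] [Finite G] {p : ℕ} [Fact p.Prime]
    {M : Ideal Cfsg.AlgInt} (hM : Cfsg.IsPModular p M) {B : Set (Cfsg.IrrCharacter G)}
    (hB : Cfsg.IsPBlock M B) {P : Subgroup G} (hPD : Cfsg.IsDefectGroup p M B P) (hP1 : P ≠ ⊥)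
    (hcyc : IsCyclic P) : Cfsg.blockRank p B ≤ p - 1 := by
  classical
  have := Fintype.ofFinite G
  have := BlocksCore.isPrime hM
  have hab : ∀ x ∈ P, ∀ y ∈ P, x * y = y * x := fun a ha b hb => by
    letI := IsCyclic.commGroup (α := P)
    exact congrArg Subtype.val (mul_comm (⟨a, ha⟩ : P) ⟨b, hb⟩)
  have hPC : P ≤ Subgroup.centralizer (P : Set G) :=
    fun u hu => Subgroup.mem_centralizer_iff.mpr fun q hq => hab q hq u hu
  obtain ⟨c, hc⟩ : ∃ c : Set (Cfsg.IrrCharacter (Subgroup.centralizer (P : Set G))),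
      Cfsg.IsInducedBlock M (Subgroup.centralizer (P : Set G)) c B := by
    refine (exists_inducing_iff hM (isPGroup_of_isDefectGroup hPD) hPC le_rfl
      (Subgroup.centralizer_le_normalizer _) hB).mpr ?_
    obtain ⟨g, hg, Q, hQ⟩ := hPD
    refine ⟨g, Subgroup.mem_centralizer_iff.mpr fun d hd => ?_, hg.2.1⟩
    rw [SetLike.mem_coe, hQ] at hd
    obtain ⟨⟨d', hd'⟩, -, rfl⟩ := hd
    exact mem_centralizer_singleton.mp hd'
  have hmax := BC85.isMaximal_of_induced hM hPD hab hc
  have hfree : ∀ g : G, g ∈ BC85.stabT P c → ∀ x : G, x ∈ P → x ≠ 1 → g * x * g⁻¹ = x →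
      g ∈ Subgroup.centralizer ((P : Subgroup G) : Set G) := fun g hg x hx hx1 hfix =>
    BC85.free_of_cyclic hM hmax hcyc hg hx hx1 hfix
  have : ((Subgroup.centralizer (P : Set G)).subgroupOf (BC85.stabT P c)).Normal := by
    refine ⟨?_⟩
    rintro ⟨a, ha⟩ hmem ⟨g, hg⟩
    simp only [Subgroup.mem_subgroupOf] at hmem ⊢
    have hgN := (BC85.mem_stabT_iff.mp hg).1
    rw [Subgroup.mem_centralizer_iff] at hmem ⊢
    intro d hd
    have hd' : g⁻¹ * d * g ∈ P := by
      have := (Subgroup.mem_normalizer_iff.mp (Subgroup.inv_mem _ hgN) d).mp hd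
      simpa using this
    have h := hmem _ hd'
    show d * (g * a * g⁻¹) = g * a * g⁻¹ * d
    calc d * (g * a * g⁻¹) = g * ((g⁻¹ * d * g) * a) * g⁻¹ := by group
      _ = g * (a * (g⁻¹ * d * g)) * g⁻¹ := by rw [h]
      _ = g * a * g⁻¹ * d := by group
  obtain ⟨-, hdvd⟩ := BC85.cyclic_inertia hM hmax hcyc hP1
  refine (BlkChar.FreeAbelian.Counts.card_bound hM hmax hab hfree hB hP1).1.trans ?_
  exact Nat.le_of_dvd (by have := (Fact.out : p.Prime).two_le; omega) hdvd

variable {N n p : ℕ} {M : Ideal Cfsg.AlgInt}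

/-- The sign as a complex linear character. -/
noncomputable def sgnHom (n : ℕ) : Equiv.Perm (Fin n) →* ℂˣ :=
  (Units.map (Int.castRingHom ℂ : ℤ →* ℂ)).comp Equiv.Perm.sign

theorem sgnHom_apply (σ : Equiv.Perm (Fin n)) :
    (sgnHom n σ : ℂ) = (((Equiv.Perm.sign σ : ℤˣ) : ℤ) : ℂ) := rfl

/-- Fixed by the sign twist. -/
def SelfTwist (χ : Cfsg.IrrCharacter (Equiv.Perm (Fin n))) : Prop :=
  ∀ σ, (sgnHom n σ : ℂ) * (χ : Equiv.Perm (Fin n) → ℂ) σ = (χ : Equiv.Perm (Fin n) → ℂ) σ

theorem sgnHom_conj (σ : Equiv.Perm (Fin n)) : conj (sgnHom n σ : ℂ) = (sgnHom n σ : ℂ) := by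
  rw [sgnHom_apply]; simp

theorem classInner_restrict (hn : 2 ≤ n) (φ ψ : Equiv.Perm (Fin n) → ℂ) :
    Cfsg.classInner (fun a : alternatingGroup (Fin n) => φ a) (fun a => ψ a) =
      Cfsg.classInner φ ψ + Cfsg.classInner φ (fun σ => (sgnHom n σ : ℂ) * ψ σ) := by
  classical
  have : Nontrivial (Fin n) := Fin.nontrivial_iff_two_le.mpr hn
  have hcard : (Nat.card (Equiv.Perm (Fin n)) : ℂ) = 2 * Nat.card (alternatingGroup (Fin n)) := by
    rw [← Subgroup.card_mul_index (alternatingGroup (Fin n)), alternatingGroup.index_eq_two]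
    push_cast; ring
  have hA : (Nat.card (alternatingGroup (Fin n)) : ℂ) ≠ 0 :=
    Nat.cast_ne_zero.mpr Nat.card_pos.ne'
  have hsum : ∑ a : alternatingGroup (Fin n), φ a * conj (ψ a) =
      ∑ σ ∈ Finset.univ.filter (fun σ => Equiv.Perm.sign σ = 1), φ σ * conj (ψ σ) :=
    (Finset.sum_subtype _ (fun σ => by simp [Equiv.Perm.mem_alternatingGroup])
      (fun σ => φ σ * conj (ψ σ))).symm
  simp only [Cfsg.classInner]
  rw [hsum, hcard, Finset.sum_filter, ← mul_add, ← Finset.sum_add_distrib]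
  have e : ∑ σ, (φ σ * conj (ψ σ) + φ σ * conj ((sgnHom n σ : ℂ) * ψ σ)) =
      2 * ∑ σ, if Equiv.Perm.sign σ = 1 then φ σ * conj (ψ σ) else 0 := by
    rw [Finset.mul_sum]
    refine Finset.sum_congr rfl fun σ _ => ?_
    rw [map_mul, sgnHom_conj, sgnHom_apply]
    rcases Int.units_eq_one_or (Equiv.Perm.sign σ) with h | h <;> simp [h]
    ring
  rw [e, mul_inv, ← mul_assoc]
  field_simp

open scoped Classical in
theorem classInner_twist_self (χ : Cfsg.IrrCharacter (Equiv.Perm (Fin n))) :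
    Cfsg.classInner (χ : Equiv.Perm (Fin n) → ℂ)
      (fun σ => (sgnHom n σ : ℂ) * (χ : Equiv.Perm (Fin n) → ℂ) σ) =
      if SelfTwist χ then 1 else 0 := by
  classical
  split_ifs with h
  · rw [show (fun σ => (sgnHom n σ : ℂ) * (χ : Equiv.Perm (Fin n) → ℂ) σ) =
      (χ : Equiv.Perm (Fin n) → ℂ) from funext h]
    exact CharCore.classInner_irr_self χ
  · exact CharCore.classInner_irr_of_ne
      (ψ := ⟨_, CharCore.isIrrCharacter_hom_mul (sgnHom n) χ.2⟩)
      fun e => h fun σ => (congrFun (congrArg Subtype.val e) σ).symm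

/-- The structure of the restriction to the alternating group. -/
theorem restrict_structure (hn : 2 ≤ n) (χ : Cfsg.IrrCharacter (Equiv.Perm (Fin n)))
    {θ : Cfsg.IrrCharacter (alternatingGroup (Fin n))}
    (h : Cfsg.classInner (fun a : alternatingGroup (Fin n) => (χ : Equiv.Perm (Fin n) → ℂ) a)
      (θ : alternatingGroup (Fin n) → ℂ) ≠ 0) :
    (¬ SelfTwist χ → (fun a : alternatingGroup (Fin n) => (χ : Equiv.Perm (Fin n) → ℂ) a) = θ) ∧
      (SelfTwist χ → ∀ θ' : Cfsg.IrrCharacter (alternatingGroup (Fin n)), θ' ≠ θ →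
        Cfsg.classInner (fun a : alternatingGroup (Fin n) => (χ : Equiv.Perm (Fin n) → ℂ) a)
          (θ' : alternatingGroup (Fin n) → ℂ) ≠ 0 →
        (fun a : alternatingGroup (Fin n) => (χ : Equiv.Perm (Fin n) → ℂ) a) =
          (θ : alternatingGroup (Fin n) → ℂ) + θ') := by
  classical
  set r : alternatingGroup (Fin n) → ℂ := fun a => (χ : Equiv.Perm (Fin n) → ℂ) a with hr
  have hchar : Cfsg.IsCharacter (alternatingGroup (Fin n)) r :=
    CharCore.isCharacter_restrict (CharCore.irr_isCharacter χ) _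
  obtain ⟨m, hm⟩ := CharCore.IsCharacter.exists_sum hchar
  have hmθ : ∀ η : Cfsg.IrrCharacter (alternatingGroup (Fin n)), Cfsg.classInner r (η : alternatingGroup (Fin n) → ℂ) = m η := fun η => by
    rw [hm]; exact CharCore.classInner_sum_all _ η
  have hnorm : ((∑ η, m η * m η : ℕ) : ℂ) = 1 + if SelfTwist χ then 1 else 0 := by
    rw [← classInner_twist_self, ← CharCore.classInner_irr_self χ, ← classInner_restrict hn]
    show _ = Cfsg.classInner r r
    rw [hm, CharCore.classInner_sum_sum]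
    simp
  have hθ1 : 1 ≤ m θ := Nat.one_le_iff_ne_zero.mpr fun h0 => h (by rw [hmθ, h0, Nat.cast_zero])
  refine ⟨fun hns => ?_, fun hs θ' hne h' => ?_⟩
  · rw [if_neg hns, add_zero] at hnorm
    have hn1 : ∑ η, m η * m η = 1 := by exact_mod_cast hnorm
    rw [← Finset.add_sum_erase _ _ (mem_univ θ)] at hn1
    have h11 : 1 ≤ m θ * m θ := Nat.one_le_iff_ne_zero.mpr (by positivity)
    have hrest : ∀ η ≠ θ, m η = 0 := fun η hη => by
      have := Finset.single_le_sum (f := fun η => m η * m η) (fun _ _ => Nat.zero_le _)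
        (mem_erase.mpr ⟨hη, mem_univ η⟩)
      exact Nat.mul_self_inj.mp (show m η * m η = 0 * 0 by omega)
    have hθ : m θ = 1 := Nat.mul_self_inj.mp (show m θ * m θ = 1 * 1 by omega)
    rw [hm, Finset.sum_eq_single θ (fun η _ hη => by rw [hrest η hη]; simp) (by simp), hθ]
    simp
  · rw [if_pos hs] at hnorm
    have hn2 : ∑ η, m η * m η = 2 := by
      have : ((∑ η, m η * m η : ℕ) : ℂ) = ((2 : ℕ) : ℂ) := by rw [hnorm]; norm_num
      exact_mod_cast this
    have hθ'1 : 1 ≤ m θ' := Nat.one_le_iff_ne_zero.mpr fun h0 => h' (by rw [hmθ, h0, Nat.cast_zero])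
    rw [← Finset.add_sum_erase _ _ (mem_univ θ),
      ← Finset.add_sum_erase _ _ (mem_erase.mpr ⟨hne, mem_univ θ'⟩)] at hn2
    have h11 := Nat.mul_le_mul hθ1 hθ1
    have h22 := Nat.mul_le_mul hθ'1 hθ'1
    have hrest : ∀ η ≠ θ, η ≠ θ' → m η = 0 := fun η hη hη' => by
      have := Finset.single_le_sum (f := fun η => m η * m η) (fun _ _ => Nat.zero_le _)
        (mem_erase.mpr ⟨hη', mem_erase.mpr ⟨hη, mem_univ η⟩⟩)
      exact Nat.mul_self_inj.mp (show m η * m η = 0 * 0 by omega)
    have hθ : m θ = 1 := Nat.mul_self_inj.mp (show m θ * m θ = 1 * 1 by omega)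
    have hθ' : m θ' = 1 := Nat.mul_self_inj.mp (show m θ' * m θ' = 1 * 1 by omega)
    rw [hm, Finset.sum_eq_add θ θ' (Ne.symm hne)
      (fun η _ hη => by rw [hrest η hη.1 hη.2]; simp) (by simp) (by simp), hθ, hθ']
    simp

theorem isPRegular_coe {G : Type*} [Group G] (H : Subgroup G) (a : H) :
    Cfsg.IsPRegular p (a : G) ↔ Cfsg.IsPRegular p a := by
  unfold Cfsg.IsPRegular
  rw [Subgroup.orderOf_coe]

/-- The rank of a block of the alternating group. -/
theorem blockRank_alt_le [Fact p.Prime] (hM : Cfsg.IsPModular p M) (hn : 2 ≤ n)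
    {B : Set (Cfsg.IrrCharacter (alternatingGroup (Fin n)))} (hB : Cfsg.IsPBlock M B)
    {C : Set (Cfsg.IrrCharacter (Equiv.Perm (Fin n)))} (hC : Cfsg.IsPBlock M C)
    (hcov : ∃ χ ∈ C, ∃ θ ∈ B, Cfsg.classInner
      (fun a : alternatingGroup (Fin n) => (χ : Equiv.Perm (Fin n) → ℂ) a)
      (θ : alternatingGroup (Fin n) → ℂ) ≠ 0)
    (hN : n + n ≤ N) (hpN : p ∣ N) (hNw : p * n + n ≤ N)
    {χ₀ : Cfsg.IrrCharacter (Equiv.Perm (Fin n))} (hχ₀ : χ₀ ∈ C)
    {b : Fin N → ℕ} (hb : b ∈ cfg N (base N + n))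
    (eb : (χ₀ : Equiv.Perm (Fin n) → ℂ) = chr n b) {w : ℕ}
    (hw : deg b = baseK (cnt p b) + p * w) :
    Cfsg.blockRank p B ≤ pp (p - 1) w + saCount p w := by
  classical
  have hp := (Fact.out : p.Prime)
  have := BlocksCore.isPrime hM
  have : Finite (Cfsg.IrrCharacter (Equiv.Perm (Fin n))) := BlocksCore.finite_irr
  have := Fintype.ofFinite (Cfsg.IrrCharacter (Equiv.Perm (Fin n)))
  set SS : Finset (Cfsg.IrrCharacter (Equiv.Perm (Fin n))) :=
    Finset.univ.filter (fun χ => χ ∈ C ∧ SelfTwist χ) with hSS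
  have hpick : ∀ χ : Cfsg.IrrCharacter (Equiv.Perm (Fin n)),
      ∃ θ : Cfsg.IrrCharacter (alternatingGroup (Fin n)), Cfsg.classInner
        (fun a : alternatingGroup (Fin n) => (χ : Equiv.Perm (Fin n) → ℂ) a)
        (θ : alternatingGroup (Fin n) → ℂ) ≠ 0 := by
    intro χ
    have hchar : Cfsg.IsCharacter (alternatingGroup (Fin n))
        (fun a : alternatingGroup (Fin n) => (χ : Equiv.Perm (Fin n) → ℂ) a) :=
      CharCore.isCharacter_restrict (CharCore.irr_isCharacter χ) _
    by_contra hno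
    push Not at hno
    have h := congrFun (CharCore.IsCharacter.eq_sum_classInner hchar) 1
    simp only [hno, zero_smul, Finset.sum_const_zero, Pi.zero_apply, OneMemClass.coe_one] at h
    exact CharCore.irr_apply_one_ne_zero χ h
  choose θ0 hθ0 using hpick
  let Rm : (Equiv.Perm (Fin n) → ℂ) →ₗ[ℂ] (alternatingGroup (Fin n) → ℂ) :=
    { toFun := fun f a => f a, map_add' := fun _ _ => rfl, map_smul' := fun _ _ => rfl }
  have hRm : ∀ f : Equiv.Perm (Fin n) → ℂ, Rm (Cfsg.pRegularPart p f) =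
      Cfsg.pRegularPart p (fun a : alternatingGroup (Fin n) => f a) := by
    intro f
    funext a
    show Cfsg.pRegularPart p f (a : Equiv.Perm (Fin n)) = _
    simp [Cfsg.pRegularPart, isPRegular_coe]
  set W1 := (Submodule.span ℂ ((fun χ : Cfsg.IrrCharacter (Equiv.Perm (Fin n)) =>
    Cfsg.pRegularPart p (χ : Equiv.Perm (Fin n) → ℂ)) '' C)).map Rm with hW1
  set W2 : Submodule ℂ (alternatingGroup (Fin n) → ℂ) := Submodule.span ℂ
    ((SS.image fun χ => Cfsg.pRegularPart p (θ0 χ : alternatingGroup (Fin n) → ℂ) :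
      Finset _) : Set _) with hW2
  have hle : Submodule.span ℂ ((fun θ : Cfsg.IrrCharacter (alternatingGroup (Fin n)) =>
      Cfsg.pRegularPart p (θ : alternatingGroup (Fin n) → ℂ)) '' B) ≤ W1 ⊔ W2 := by
    rw [Submodule.span_le]
    rintro _ ⟨θ, hθ, rfl⟩
    obtain ⟨χ, hχ, hov⟩ := BC87.CoveringBlock.exists_over_of_covers hM hC hB hcov hθ
    obtain ⟨hns, hs⟩ := restrict_structure hn χ (θ := θ) hov
    have hmem1 : Cfsg.pRegularPart p (fun a : alternatingGroup (Fin n) =>
        (χ : Equiv.Perm (Fin n) → ℂ) a) ∈ W1 :=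
      ⟨_, Submodule.subset_span ⟨χ, hχ, rfl⟩, hRm _⟩
    show Cfsg.pRegularPart p (θ : alternatingGroup (Fin n) → ℂ) ∈ W1 ⊔ W2
    by_cases hsχ : SelfTwist χ
    · have hmem2 : Cfsg.pRegularPart p (θ0 χ : alternatingGroup (Fin n) → ℂ) ∈ W2 :=
        Submodule.subset_span (mem_image_of_mem _ (mem_filter.mpr ⟨mem_univ χ, hχ, hsχ⟩))
      by_cases he : θ0 χ = θ
      · rw [← he]; exact Submodule.mem_sup_right hmem2
      · have h := hs hsχ (θ0 χ) he (hθ0 χ)
        have e : Cfsg.pRegularPart p (θ : alternatingGroup (Fin n) → ℂ) =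
            Cfsg.pRegularPart p (fun a : alternatingGroup (Fin n) =>
              (χ : Equiv.Perm (Fin n) → ℂ) a) -
            Cfsg.pRegularPart p (θ0 χ : alternatingGroup (Fin n) → ℂ) := by
          rw [h]; funext a
          simp only [Cfsg.pRegularPart, Pi.add_apply, Pi.sub_apply]
          split_ifs <;> ring
        rw [e]
        exact Submodule.sub_mem _ (Submodule.mem_sup_left hmem1) (Submodule.mem_sup_right hmem2)
    · rw [← hns hsχ]
      exact Submodule.mem_sup_left hmem1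
  have hS : SS.card ≤ saCount p w := by
    choose cf hcf ecf using fun χ : Cfsg.IrrCharacter (Equiv.Perm (Fin n)) => exists_chr_eq hN χ
    have hd := (mem_cfg.mp hb).1
    have hw' : ∀ r, w ≤ cnt p b r := by
      have hwn : p * w ≤ n := by
        obtain ⟨w', hw1, hw2, -⟩ := exists_X_ne_zero (n := n) hp.pos (mem_cfg.mp hb).2 hd
        rw [deg_coreOf hp.pos] at hw1
        omega
      have := fun r => le_cnt (n := n) hp.pos hNw (mem_cfg.mp hb).2.injective hd.le r
      intro r
      have h1 := this r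
      have h2 : w ≤ p * w := Nat.le_mul_of_pos_left w hp.pos
      omega
    refine le_trans ?_ (card_sym_le hp.pos hpN (cnt p b) hw'
      (F := SS.image cf) ?_ ?_)
    · refine le_of_eq (card_image_of_injOn fun x _ y _ e => Subtype.ext ?_).symm
      rw [ecf x, ecf y, e]
    · intro x hx
      obtain ⟨χ, hχ, rfl⟩ := mem_image.mp hx
      refine mem_cfgK.mpr ⟨⟨?_, (mem_cfg.mp (hcf χ)).2⟩, ?_⟩
      · rw [(mem_cfg.mp (hcf χ)).1, ← hd, hw]
      · exact cnt_eq_of_mem hM hC (mem_filter.mp hχ).2.1 hχ₀ (hcf χ) hb (ecf χ) eb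
    · intro x hx
      obtain ⟨χ, hχ, rfl⟩ := mem_image.mp hx
      refine sym_of_coeff (hcf χ) (contentPoly_twist (hcf χ) (hcf χ) fun σ => ?_)
      have h := (mem_filter.mp hχ).2.2 σ
      rw [ecf χ, sgnHom_apply] at h
      simp only [chr] at h
      exact_mod_cast h.symm
  calc Cfsg.blockRank p B ≤ Module.finrank ℂ ↥(W1 ⊔ W2) := Submodule.finrank_mono hle
    _ ≤ Module.finrank ℂ ↥W1 + Module.finrank ℂ ↥W2 :=
        Submodule.finrank_add_le_finrank_add_finrank W1 W2
    _ ≤ pp (p - 1) w + saCount p w := by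
      refine Nat.add_le_add ((Submodule.finrank_map_le _ _).trans ?_) ?_
      · exact blockRank_le hM hC hχ₀ hNw hb eb hw
      · exact ((finrank_span_finset_le_card _).trans Finset.card_image_le).trans hS

/-- An elementary abelian group of even permutations on the moved points bounds the sectional rank. -/
theorem card_le_of_alt [Fact p.Prime] (hM : Cfsg.IsPModular p M)
    {C : Set (Cfsg.IrrCharacter (Equiv.Perm (Fin n)))} (hC : Cfsg.IsPBlock M C)
    {P : Subgroup (Equiv.Perm (Fin n))} (hP : Cfsg.IsDefectGroup p M C P)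
    {D : Subgroup (alternatingGroup (Fin n))}
    (hPD : P ⊓ alternatingGroup (Fin n) = D.map (alternatingGroup (Fin n)).subtype)
    {s : ℕ} (hs : Cfsg.SectionalPRankLE p s D) {V : Type*} [CommGroup V] [Finite V]
    (hV : ∀ v : V, v ^ p = 1) (ψ : V →* Equiv.Perm (Fin n)) (hψ : Injective ψ)
    (hev : ∀ v, Equiv.Perm.sign (ψ v) = 1) (hmov : ∀ v x, ψ v x ≠ x → x ∈ moved P) :
    Nat.card V ≤ p ^ s := by
  classical
  have hE : IsPGroup p ψ.range := fun ⟨e, f, hf⟩ => ⟨1, Subtype.ext (by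
    simp [← hf, ← map_pow, hV])⟩
  obtain ⟨g, hg⟩ := defect_structure hM hC hP hE (by rintro _ ⟨f, rfl⟩ x hx; exact hmov f x hx)
  let φ : V →* Equiv.Perm (Fin n) := (MulAut.conj g).toMonoidHom.comp ψ
  have hφ : ∀ v, φ v ∈ D.map (alternatingGroup (Fin n)).subtype := fun v => by
    rw [← hPD]
    refine ⟨hg ⟨ψ v, ⟨v, rfl⟩, rfl⟩, ?_⟩
    show φ v ∈ alternatingGroup (Fin n)
    exact (inferInstance : (alternatingGroup (Fin n)).Normal).conj_mem _
      (Equiv.Perm.mem_alternatingGroup.mpr (hev v)) g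
  let ψ' : V →* ↥D :=
    ((Subgroup.equivMapOfInjective D _ (alternatingGroup (Fin n)).subtype_injective).symm :
      ↥(D.map (alternatingGroup (Fin n)).subtype) →* ↥D).comp (φ.codRestrict _ hφ)
  have hψ' : Injective ψ' := by
    intro a b e
    have e1 := (Subgroup.equivMapOfInjective D _
      (alternatingGroup (Fin n)).subtype_injective).symm.injective e
    exact hψ ((MulAut.conj g).injective (congrArg Subtype.val e1))
  let q : V →* ↥(⊤ : Subgroup ↥D) ⧸ (⊥ : Subgroup ↥(⊤ : Subgroup ↥D)) :=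
    (QuotientGroup.mk' _).comp (Subgroup.topEquiv.symm.toMonoidHom.comp ψ')
  have hq : Injective q := by
    rw [← MonoidHom.ker_eq_bot_iff, eq_bot_iff]
    intro f hf
    rw [MonoidHom.mem_ker] at hf
    have h1 : Subgroup.topEquiv.symm (ψ' f) = 1 := by
      simpa [q, QuotientGroup.eq_one_iff, Subgroup.mem_bot] using hf
    have h2 : ψ' f = 1 := by
      simpa using h1
    exact hψ' (by rw [h2, map_one])
  have h := hs ⊤ ⊥ q.range ⟨⟨fun a b => by
      obtain ⟨f, hf⟩ := a.2
      obtain ⟨f', hf'⟩ := b.2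
      apply Subtype.ext
      rw [Subgroup.coe_mul, Subgroup.coe_mul, ← hf, ← hf', ← map_mul, mul_comm, map_mul]⟩⟩
    (by rintro _ ⟨f, rfl⟩; rw [← map_pow, hV, map_one])
  rwa [← Nat.card_congr (MonoidHom.ofInjective hq).toEquiv] at h

theorem le_of_moved_odd [Fact p.Prime] (hodd : p ≠ 2) (hM : Cfsg.IsPModular p M)
    {C : Set (Cfsg.IrrCharacter (Equiv.Perm (Fin n)))} (hC : Cfsg.IsPBlock M C)
    {P : Subgroup (Equiv.Perm (Fin n))} (hP : Cfsg.IsDefectGroup p M C P)
    {D : Subgroup (alternatingGroup (Fin n))}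
    (hPD : P ⊓ alternatingGroup (Fin n) = D.map (alternatingGroup (Fin n)).subtype)
    {s k : ℕ} (hs : Cfsg.SectionalPRankLE p s D) (hk : p * k ≤ Nat.card ↥(moved P)) : k ≤ s := by
  classical
  have hp := (Fact.out : p.Prime)
  have : NeZero p := ⟨hp.pos.ne'⟩
  have hcard : Fintype.card (Fin k × ZMod p) ≤ Fintype.card ↥(moved P) := by
    rw [← Nat.card_eq_fintype_card (α := ↥(moved P))]
    simpa [mul_comm] using hk
  obtain ⟨emb⟩ := Function.Embedding.nonempty_of_card_le hcard
  let ι : (Fin k × ZMod p) ↪ Fin n := emb.trans (Function.Embedding.subtype _)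
  let τ : Multiplicative (Fin k → ZMod p) →* Equiv.Perm (Fin k × ZMod p) :=
    { toFun := fun f => Equiv.prodShear (Equiv.refl _) fun i => Equiv.addRight (f.toAdd i)
      map_one' := by ext x <;> simp
      map_mul' := fun f g => by ext x <;> simp [add_comm, add_left_comm] }
  let ψ : Multiplicative (Fin k → ZMod p) →* Equiv.Perm (Fin n) :=
    (Equiv.Perm.viaEmbeddingHom ι).comp τ
  have hτ : Injective τ := by
    intro f g h
    refine Multiplicative.toAdd.injective (funext fun i => ?_)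
    have := congrArg (fun e : Equiv.Perm (Fin k × ZMod p) => (e (i, 0)).2) h
    simpa [τ] using this
  have hexp : ∀ f : Multiplicative (Fin k → ZMod p), f ^ p = 1 := fun f => by
    refine Multiplicative.toAdd.injective (funext fun i => ?_)
    simp
  have hodd' : Odd p := hp.odd_of_ne_two hodd
  have h := card_le_of_alt hM hC hP hPD hs hexp ψ
    ((Equiv.Perm.viaEmbeddingHom_injective ι).comp hτ) (fun v => by
      have h1 : Equiv.Perm.sign (ψ v) ^ p = 1 := by rw [← map_pow, ← map_pow, hexp, map_one, map_one]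
      rcases Int.units_eq_one_or (Equiv.Perm.sign (ψ v)) with h | h
      · exact h
      · rw [h, hodd'.neg_one_pow] at h1; exact absurd h1 (by decide))
    (fun f x hx => by
      by_contra hn
      refine hx (Equiv.Perm.viaEmbedding_apply_of_notMem _ ι x ?_)
      rintro ⟨y, rfl⟩
      exact hn (emb y).2)
  simp only [Nat.card_eq_fintype_card, Fintype.card_multiplicative, Fintype.card_pi,
    ZMod.card, Finset.prod_const, Finset.card_univ, Fintype.card_fin] at h
  exact (Nat.pow_le_pow_iff_right hp.one_lt).mp h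

theorem klein_add_self : ∀ v : ZMod 2 × ZMod 2, v + v = 0 := by decide +kernel

theorem klein_sign : ∀ v : ZMod 2 × ZMod 2, Equiv.Perm.sign (Equiv.addRight v) = 1 := by
  decide +kernel

theorem le_of_moved_two (hM : Cfsg.IsPModular 2 M)
    {C : Set (Cfsg.IrrCharacter (Equiv.Perm (Fin n)))} (hC : Cfsg.IsPBlock M C)
    {P : Subgroup (Equiv.Perm (Fin n))} (hP : Cfsg.IsDefectGroup 2 M C P)
    {D : Subgroup (alternatingGroup (Fin n))}
    (hPD : P ⊓ alternatingGroup (Fin n) = D.map (alternatingGroup (Fin n)).subtype)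
    {s k : ℕ} (hs : Cfsg.SectionalPRankLE 2 s D) (hk : 4 * k ≤ Nat.card ↥(moved P)) :
    2 * k ≤ s := by
  classical
  have : Fact (Nat.Prime 2) := ⟨Nat.prime_two⟩
  have hcard : Fintype.card (Fin k × (ZMod 2 × ZMod 2)) ≤ Fintype.card ↥(moved P) := by
    rw [← Nat.card_eq_fintype_card (α := ↥(moved P))]
    simpa [mul_comm] using hk
  obtain ⟨emb⟩ := Function.Embedding.nonempty_of_card_le hcard
  let ι : (Fin k × (ZMod 2 × ZMod 2)) ↪ Fin n := emb.trans (Function.Embedding.subtype _)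
  let τ : Multiplicative (Fin k → ZMod 2 × ZMod 2) →* Equiv.Perm (Fin k × (ZMod 2 × ZMod 2)) :=
    { toFun := fun f => Equiv.prodCongrRight fun i => Equiv.addRight (f.toAdd i)
      map_one' := by ext x <;> simp
      map_mul' := fun f g => by ext x <;> simp [add_comm, add_left_comm] }
  let ψ : Multiplicative (Fin k → ZMod 2 × ZMod 2) →* Equiv.Perm (Fin n) :=
    (Equiv.Perm.viaEmbeddingHom ι).comp τ
  have hτ : Injective τ := by
    intro f g h
    refine Multiplicative.toAdd.injective (funext fun i => ?_)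
    have := congrArg (fun e : Equiv.Perm (Fin k × (ZMod 2 × ZMod 2)) => (e (i, 0)).2) h
    simpa [τ] using this
  have hexp : ∀ f : Multiplicative (Fin k → ZMod 2 × ZMod 2), f ^ 2 = 1 := fun f => by
    refine Multiplicative.toAdd.injective (funext fun i => ?_)
    rw [pow_two]
    exact klein_add_self _
  have hev : ∀ f, Equiv.Perm.sign (ψ f) = 1 := fun f => by
    show Equiv.Perm.sign (Equiv.Perm.viaEmbedding (τ f) ι) = 1
    rw [Equiv.Perm.viaEmbedding, Equiv.Perm.sign_extendDomain]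
    show Equiv.Perm.sign (Equiv.prodCongrRight fun i => Equiv.addRight (f.toAdd i)) = 1
    rw [Equiv.Perm.sign_prodCongrRight]
    simp [klein_sign]
  have h := card_le_of_alt hM hC hP hPD hs hexp ψ
    ((Equiv.Perm.viaEmbeddingHom_injective ι).comp hτ) hev
    (fun f x hx => by
      by_contra hn
      refine hx (Equiv.Perm.viaEmbedding_apply_of_notMem _ ι x ?_)
      rintro ⟨y, rfl⟩
      exact hn (emb y).2)
  simp only [Nat.card_eq_fintype_card, Fintype.card_multiplicative, Fintype.card_pi,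
    Fintype.card_prod, ZMod.card, Finset.prod_const, Finset.card_univ, Fintype.card_fin] at h
  rw [show (2 * 2) ^ k = 2 ^ (2 * k) by rw [pow_mul]; norm_num] at h
  exact (Nat.pow_le_pow_iff_right (by norm_num)).mp h

end Cfsg.Agent.Bead29
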