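import Cfsg.Agent.Bead29.Single

/-!
# Heights in blocks of the alternating groups
-/

set_option autoImplicit false

namespace Cfsg.Agent.Bead29

open Finset Function
open Cfsg.Agent.BlocksCore Cfsg.Agent.BlocksDefect

variable {N n p : ℕ} {M : Ideal Cfsg.AlgInt}

local notation "A[" m "]" => alternatingGroup (Fin m)

/-- The degree of a constituent. -/
theorem degree_constituent (hn : 2 ≤ n) (χ : Cfsg.IrrCharacter (Equiv.Perm (Fin n)))
    {θ : Cfsg.IrrCharacter A[n]}
    (h : Cfsg.classInner (fun a : A[n] => (χ : Equiv.Perm (Fin n) → ℂ) a) (θ : A[n] → ℂ) ≠ 0) :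
    (¬ SelfTwist χ → Cfsg.charDegree (χ : Equiv.Perm (Fin n) → ℂ) =
        Cfsg.charDegree (θ : A[n] → ℂ)) ∧
      (SelfTwist χ → Cfsg.charDegree (χ : Equiv.Perm (Fin n) → ℂ) =
        2 * Cfsg.charDegree (θ : A[n] → ℂ)) := by
  classical
  have : Nontrivial (Fin n) := Fin.nontrivial_iff_two_le.mpr hn
  obtain ⟨hns, hs⟩ := restrict_structure hn χ h
  refine ⟨fun hn' => ?_, fun hS => ?_⟩
  · have e := congrFun (hns hn') 1
    simp only [OneMemClass.coe_one, irr_one_eq] at e
    exact_mod_cast e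
  -- Frobenius reciprocity bounds the degree of `χ`
  have hle : ∀ η : Cfsg.IrrCharacter A[n],
      Cfsg.classInner (fun a : A[n] => (χ : Equiv.Perm (Fin n) → ℂ) a) (η : A[n] → ℂ) ≠ 0 →
      Cfsg.charDegree (χ : Equiv.Perm (Fin n) → ℂ) ≤ 2 * Cfsg.charDegree (η : A[n] → ℂ) := by
    intro η hη
    have : Finite (Cfsg.IrrCharacter (Equiv.Perm (Fin n))) := BlocksCore.finite_irr
    have hI := CharInd.isCharacter_indFun A[n] (CharCore.irr_isCharacter η)
    choose m hm using fun ψ : Cfsg.IrrCharacter (Equiv.Perm (Fin n)) =>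
      CharCore.IsCharacter.exists_classInner_irr_eq_natCast hI ψ
    have hm1 : 1 ≤ m χ := Nat.one_le_iff_ne_zero.mpr fun h0 => hη (by
      have e := hm χ
      rw [CharInd.classInner_indFun_left A[n] _ (CharCore.irr_isClassFunction χ), h0,
        Nat.cast_zero] at e
      rw [← CharCore.conj_classInner, e, map_zero])
    have h1 := congrFun (CharCore.IsCharacter.eq_sum_classInner hI) 1
    simp only [Finset.sum_apply, Pi.smul_apply, smul_eq_mul, hm, CharInd.indFun_apply_one,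
      alternatingGroup.index_eq_two, irr_one_eq] at h1
    have h2 : 2 * Cfsg.charDegree (η : A[n] → ℂ) =
        ∑ ψ, m ψ * Cfsg.charDegree (ψ : Equiv.Perm (Fin n) → ℂ) := by exact_mod_cast h1
    rw [h2]
    refine le_trans (Nat.le_mul_of_pos_left _ hm1) ?_
    exact Finset.single_le_sum (f := fun ψ => m ψ * Cfsg.charDegree (ψ : Equiv.Perm (Fin n) → ℂ))
      (fun _ _ => Nat.zero_le _) (mem_univ χ)
  -- a second constituent
  obtain ⟨θ', hne, h'⟩ : ∃ θ' : Cfsg.IrrCharacter A[n], θ' ≠ θ ∧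
      Cfsg.classInner (fun a : A[n] => (χ : Equiv.Perm (Fin n) → ℂ) a) (θ' : A[n] → ℂ) ≠ 0 := by
    by_contra hno
    push Not at hno
    have hchar : Cfsg.IsCharacter A[n] (fun a : A[n] => (χ : Equiv.Perm (Fin n) → ℂ) a) :=
      CharCore.isCharacter_restrict (CharCore.irr_isCharacter χ) _
    obtain ⟨m, hm⟩ := CharCore.IsCharacter.exists_classInner_irr_eq_natCast hchar θ
    have e := CharCore.IsCharacter.eq_sum_classInner hchar
    rw [Finset.sum_eq_single θ (fun η _ hη => by rw [hno η hη, zero_smul]) (by simp), hm] at e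
    have hnorm := classInner_restrict hn (χ : Equiv.Perm (Fin n) → ℂ) (χ : Equiv.Perm (Fin n) → ℂ)
    rw [classInner_twist_self, if_pos hS, CharCore.classInner_irr_self, e,
      CharCore.classInner_smul_left, CharCore.classInner_smul_right, CharCore.classInner_irr_self,
      map_natCast, mul_one] at hnorm
    have h2 : m * m = 2 := by
      have : ((m * m : ℕ) : ℂ) = ((2 : ℕ) : ℂ) := by push_cast; rw [hnorm]; norm_num
      exact_mod_cast this
    rcases m with _ | _ | m
    · simp at h2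
    · simp at h2
    · have := Nat.mul_le_mul (show 2 ≤ m + 1 + 1 by omega) (show 2 ≤ m + 1 + 1 by omega)
      omega
  have e := congrFun (hs hS θ' hne h') 1
  simp only [OneMemClass.coe_one, Pi.add_apply, irr_one_eq] at e
  have e' : Cfsg.charDegree (χ : Equiv.Perm (Fin n) → ℂ) =
      Cfsg.charDegree (θ : A[n] → ℂ) + Cfsg.charDegree (θ' : A[n] → ℂ) := by exact_mod_cast e
  have h1 := hle θ h
  have h2 := hle θ' h'
  omega

/-- Each character of a covering block lies over the covered block. -/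
theorem exists_under (hM : Cfsg.IsPModular p M) [Fact p.Prime]
    {B : Set (Cfsg.IrrCharacter A[n])} (hB : Cfsg.IsPBlock M B)
    {C : Set (Cfsg.IrrCharacter (Equiv.Perm (Fin n)))} (hC : Cfsg.IsPBlock M C)
    {χ₀ : Cfsg.IrrCharacter (Equiv.Perm (Fin n))} (hχ₀ : χ₀ ∈ C)
    {θ₀ : Cfsg.IrrCharacter A[n]} (hθ₀ : θ₀ ∈ B)
    (h₀ : Cfsg.classInner (fun a : A[n] => (χ₀ : Equiv.Perm (Fin n) → ℂ) a) (θ₀ : A[n] → ℂ) ≠ 0)
    {χ : Cfsg.IrrCharacter (Equiv.Perm (Fin n))} (hχ : χ ∈ C) :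
    ∃ θ ∈ B, Cfsg.classInner (fun a : A[n] => (χ : Equiv.Perm (Fin n) → ℂ) a) (θ : A[n] → ℂ) ≠ 0 := by
  classical
  have := BlocksCore.isPrime hM
  obtain ⟨θ', hθ'⟩ := exists_constituent_irr (N := A[n]) χ
  have h0 : θ₀ ∈ orbitSet (G := Equiv.Perm (Fin n)) B :=
    ⟨1, by rwa [show conjIrr (1 : Equiv.Perm (Fin n)) θ₀ = θ₀ from Subtype.ext (conjFun_one _)]⟩
  obtain ⟨g, hg⟩ := (orbitSet_iff_of_sameBlock hM hB (sameBlock_of_mem hC hχ₀ hχ) h₀ hθ').mp h0
  exact ⟨_, hg, isConstituent_conjIrr hθ' g⟩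

open scoped Classical in
/-- The loss of height on restriction. -/
noncomputable def dlt (p : ℕ) (χ : Cfsg.IrrCharacter (Equiv.Perm (Fin n))) : ℤ :=
  if p = 2 ∧ SelfTwist χ then 1 else 0

theorem val_constituent (hp : p.Prime) (hn : 2 ≤ n)
    (χ : Cfsg.IrrCharacter (Equiv.Perm (Fin n))) {θ : Cfsg.IrrCharacter A[n]}
    (h : Cfsg.classInner (fun a : A[n] => (χ : Equiv.Perm (Fin n) → ℂ) a) (θ : A[n] → ℂ) ≠ 0) :
    vp p (Cfsg.charDegree (θ : A[n] → ℂ)) =
      vp p (Cfsg.charDegree (χ : Equiv.Perm (Fin n) → ℂ)) - dlt p χ := by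
  classical
  have hθ0 : Cfsg.charDegree (θ : A[n] → ℂ) ≠ 0 := fun h0 =>
    irr_one_ne_zero θ (by rw [irr_one_eq, h0, Nat.cast_zero])
  obtain ⟨h1, h2⟩ := degree_constituent hn χ h
  unfold dlt
  by_cases hS : SelfTwist χ
  · rw [h2 hS, vp_mul two_ne_zero hθ0]
    by_cases hp2 : p = 2
    · subst hp2
      rw [if_pos ⟨rfl, hS⟩]
      have : vp 2 2 = 1 := by
        rw [show (2 : ℕ) = 2 * 1 from rfl, vp_p_mul hp (by norm_num), vp_one]; rfl
      omega
    · rw [if_neg fun h => hp2 h.1]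
      have : vp p 2 = 0 := vp_eq_zero_of_not_dvd fun hd => hp2
        ((Nat.prime_dvd_prime_iff_eq hp Nat.prime_two).mp hd)
      omega
  · rw [h1 hS, if_neg fun h => hS h.2, sub_zero]

/-- A symmetrical configuration has equal excesses. -/
theorem sym_exc (hp : 0 < p) (hpN : p ∣ N) {b : Fin N → ℕ} (hs : StrictMono b) (hS : Sym b)
    (r : Fin p) : exc p b r.rev = exc p b r := by
  obtain ⟨k, hk⟩ := hpN
  have hL : 2 * N = p * (2 * k) := by rw [hk]; ring
  obtain ⟨hlt, hmem⟩ := sym_reflect hL hS r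
  obtain ⟨-, h⟩ := sum_reflect hlt hmem
  rw [card_run hs.injective, card_run hs.injective] at h
  have h0 := sum_run_eq hs.injective r
  have h1 := sum_run_eq hs.injective r.rev
  omega

theorem sym_of_selfTwist {χ : Cfsg.IrrCharacter (Equiv.Perm (Fin n))} {b : Fin N → ℕ}
    (hb : b ∈ cfg N (base N + n)) (eb : (χ : Equiv.Perm (Fin n) → ℂ) = chr n b)
    (hS : SelfTwist χ) : Sym b := by
  refine sym_of_coeff hb (contentPoly_twist hb hb fun σ => ?_)
  have h := hS σ
  rw [eb, sgnHom_apply] at h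
  simp only [chr] at h
  exact_mod_cast h.symm

theorem vp_two_lt : ∀ m : ℕ, 1 ≤ m → vp 2 m.factorial < (m : ℤ) := by
  intro m
  induction m using Nat.strong_induction_on with
  | _ m ih =>
    intro hm
    rw [show m = m % 2 + 2 * (m / 2) from (Nat.mod_add_div m 2).symm,
      vp_factorial_mul_add Nat.prime_two _ _ (Nat.mod_lt _ two_pos)]
    rcases Nat.eq_zero_or_pos (m / 2) with h0 | h0
    · rw [h0, Nat.factorial_zero, vp_one]
      push_cast
      omega
    · have := ih (m / 2) (by omega) h0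
      omega

/-- A symmetrical configuration has positive height for `p = 2`. -/
theorem ht_pos_of_sym (hpN : 2 ∣ N) {w : ℕ} (hw1 : 1 ≤ w) {b : Fin N → ℕ} (hs : StrictMono b)
    (hS : Sym b) (hw : ∑ r, exc 2 b r = w) : 1 ≤ ht 2 w b := by
  have he := sym_exc two_pos hpN hs hS (0 : Fin 2)
  rw [show Fin.rev (0 : Fin 2) = 1 from rfl] at he
  rw [Fin.sum_univ_two, he] at hw
  have h1 : ∀ r : Fin 2, -vp 2 (exc 2 b r).factorial ≤ hv 2 (run 2 b r) := fun r =>
    hv_ge (by rw [card_run hs.injective r]; exact sum_run_eq hs.injective r)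
  have h2 := vp_factorial_mul_add (p := 2) Nat.prime_two (exc 2 b 0) 0 two_pos
  have h3 := vp_two_lt (exc 2 b 0) (by omega)
  have h4 := h1 0
  have h5 := h1 1
  rw [he] at h5
  unfold ht
  rw [Fin.sum_univ_two, show w = 0 + 2 * exc 2 b 0 by omega, h2]
  omega

/-- In weight `2` for `p = 2`, a configuration has height zero or is the only one of its kind. -/
theorem weight_two_cases {b : Fin N → ℕ} (hb : Injective b) (hc : ∀ r, 2 ≤ cnt 2 b r)
    (hw : ∑ r, exc 2 b r = 2) :
    ht 2 2 b = 0 ∨ (ht 2 2 b = 1 ∧ ∀ r, run 2 b r = rowSet (cnt 2 b r) 1) := by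
  classical
  have hp : Nat.Prime 2 := Nat.prime_two
  have hv2 : vp 2 (Nat.factorial 2) = 1 := by
    rw [Nat.factorial_two, show (2 : ℕ) = 2 * 1 from rfl, vp_p_mul hp (by norm_num), vp_one]; rfl
  have hrun : ∀ r, run 2 b r ∈ sets (cnt 2 b r) (base (cnt 2 b r) + exc 2 b r) := fun r =>
    mem_sets.mpr ⟨card_run hb r, sum_run_eq hb r⟩
  have hexc0 : ∀ r, exc 2 b r = 0 → hv 2 (run 2 b r) = 0 := fun r h =>
    hv_eq_zero hp (by rw [card_run hb r]; exact sum_run_eq hb r) (by omega)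
  have htwo : ∀ r, exc 2 b r = 2 → hv 2 (run 2 b r) = -1 := by
    intro r h
    set c := cnt 2 b r with hcdef
    have hc2 : 2 ≤ c := hc r
    have hsub : ({rowSet c 2, colSet c 2} : Finset (Finset ℕ)) = sets c (base c + 2) := by
      refine Finset.eq_of_subset_of_card_le ?_ ?_
      · intro T hT
        simp only [mem_insert, mem_singleton] at hT
        rcases hT with rfl | rfl
        · exact mem_sets.mpr ⟨card_rowSet (by omega), sum_rowSet (by omega)⟩
        · exact mem_sets.mpr ⟨card_colSet _ _, sum_colSet hc2⟩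
      · rw [card_sets hc2, partCount_two, card_pair]
        intro e
        have hm : c - 1 + 2 ∈ colSet c 2 := by rw [← e]; simp [rowSet]
        simp [colSet] at hm
        omega
    have hm := hrun r
    rw [h, ← hsub] at hm
    simp only [mem_insert, mem_singleton] at hm
    rcases hm with e | e
    · rw [e, hv_rowSet, hv2]
    · rw [e, show c = c - 2 + 2 by omega, hv_colSet, hv2]
  rw [Fin.sum_univ_two] at hw
  rcases (show (exc 2 b 0 = 0 ∧ exc 2 b 1 = 2) ∨ (exc 2 b 0 = 2 ∧ exc 2 b 1 = 0) ∨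
      (exc 2 b 0 = 1 ∧ exc 2 b 1 = 1) by omega) with ⟨h0, h1⟩ | ⟨h0, h1⟩ | ⟨h0, h1⟩
  · left; rw [ht, Fin.sum_univ_two, hexc0 0 h0, htwo 1 h1, hv2]; rfl
  · left; rw [ht, Fin.sum_univ_two, htwo 0 h0, hexc0 1 h1, hv2]; rfl
  · right
    have hone : ∀ r : Fin 2, exc 2 b r = 1 := fun r => by fin_cases r <;> assumption
    refine ⟨?_, fun r => ?_⟩
    · rw [ht, Fin.sum_univ_two, hv_eq_zero hp (by rw [card_run hb 0]; exact sum_run_eq hb 0) (by omega),
        hv_eq_zero hp (by rw [card_run hb 1]; exact sum_run_eq hb 1) (by omega), hv2]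
      rfl
    · have hcr := hc r
      have hcard : (sets (cnt 2 b r) (base (cnt 2 b r) + 1)).card ≤ 1 := by
        rw [card_sets (by omega), partCount_one]
      refine Finset.card_le_one.mp hcard _ ?_ _ (mem_sets.mpr ⟨card_rowSet (by omega), sum_rowSet (by omega)⟩)
      have := hrun r
      rwa [hone r] at this

/-- In weight `2` for `p = 2`, height one forces sign invariance. -/
theorem selfTwist_of_ht_one (hN : n + n ≤ N) (hpN : 2 * n + n ≤ N)
    {χ : Cfsg.IrrCharacter (Equiv.Perm (Fin n))} {b : Fin N → ℕ}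
    (hb : b ∈ cfg N (base N + n)) (eb : (χ : Equiv.Perm (Fin n) → ℂ) = chr n b)
    (hw : ∑ r, exc 2 b r = 2) (hn4 : 2 ≤ n) (h1 : ht 2 2 b = 1) : SelfTwist χ := by
  classical
  have : Fact (Nat.Prime 2) := ⟨Nat.prime_two⟩
  obtain ⟨b', hb', eb'⟩ :=
    exists_chr_eq hN ⟨_, CharCore.isIrrCharacter_hom_mul (sgnHom n) χ.2⟩
  have hX : ∀ σ : Equiv.Perm (Fin n),
      X N (typ σ) b' = (((Equiv.Perm.sign σ : ℤˣ) : ℤ) : ℚ) * X N (typ σ) b := fun σ => by
    have h := congrFun eb' σ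
    simp only [sgnHom_apply, eb, chr] at h
    exact_mod_cast h.symm
  have hcnt : cnt 2 b' = cnt 2 b := by
    refine cnt_eq_of_kap (kap_eq_of_map_eq (mem_cfg.mp hb').2 (mem_cfg.mp hb).2 ?_)
    ext k
    rw [Polynomial.coeff_map, Polynomial.coeff_map, contentPoly_twist hb hb' hX k, map_mul, map_pow,
      map_neg, map_one, ZMod.neg_eq_self_mod_two, one_pow, one_mul]
  have hw' : ∑ r, exc 2 b' r = 2 := (sum_exc_eq two_pos hb hb' hcnt).trans hw
  have hc : ∀ r, 2 ≤ cnt 2 b r := fun r =>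
    le_trans hn4 (le_cnt (n := n) two_pos hpN (mem_cfg.mp hb).2.injective (mem_cfg.mp hb).1.le r)
  have hv := charDegree_val (p := 2) Nat.prime_two hb eb hw
  have hv' := charDegree_val (p := 2) Nat.prime_two hb' eb' hw'
  have hdeg : Cfsg.charDegree (fun σ => (sgnHom n σ : ℂ) * (χ : Equiv.Perm (Fin n) → ℂ) σ) =
      Cfsg.charDegree (χ : Equiv.Perm (Fin n) → ℂ) := by simp [Cfsg.charDegree]
  simp only [hdeg] at hv'
  have h1' : ht 2 2 b' = 1 := by omega
  have e := ((weight_two_cases (mem_cfg.mp hb).2.injective hc hw).resolve_left (by omega)).2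
  have e' := ((weight_two_cases (mem_cfg.mp hb').2.injective (by rwa [hcnt]) hw').resolve_left
    (by omega)).2
  have hbb : b' = b := by
    refine ((mem_cfg.mp hb').2.range_inj (mem_cfg.mp hb).2).mp (Set.ext fun v => ?_)
    have key : ∀ x : Fin N → ℕ, v ∈ Set.range x ↔
        v / 2 ∈ run 2 x ⟨v % 2, Nat.mod_lt _ two_pos⟩ := fun x => by
      rw [mem_run]; simp [Nat.mod_add_div]
    rw [key, key, e, e', hcnt]
  intro σ
  have h := congrFun eb' σ
  rw [hbb, ← eb] at h
  exact h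

end Cfsg.Agent.Bead29
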