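import Cfsg.Agent.Bead29.Runners

/-!
# The rank on the `p`-regular classes
-/

set_option autoImplicit false

namespace Cfsg.Agent.Bead29

open Finset Function

variable {N : ℕ}

theorem Hom.dn {A : Fn N} {E k : ℕ} (hA : Hom A (E + k)) : Hom (Bead29.dn k A) E := by
  intro b hb
  rw [dn_apply]
  refine Finset.sum_eq_zero fun i _ => hA _ fun he => hb ?_
  have := deg_update b i (b i + k)
  omega

theorem ip_comm (E : ℕ) (A B : Fn N) : ip E A B = ip E B A := by
  unfold ip
  congr 1
  exact Finset.sum_congr rfl fun b _ => mul_comm _ _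

theorem ip_smul_right (E : ℕ) (A : Fn N) (c : ℚ) (B : Fn N) : ip E A (c • B) = c * ip E A B := by
  unfold ip
  rw [← mul_div_assoc, Finset.mul_sum]
  congr 1
  refine Finset.sum_congr rfl fun b _ => ?_
  simp only [Pi.smul_apply, smul_eq_mul]; ring

theorem ip_zero_right (E : ℕ) (A : Fn N) : ip E A 0 = 0 := by simp [ip]

theorem ip_sum_right {ι : Type*} (E : ℕ) (A : Fn N) (s : Finset ι) (f : ι → Fn N) :
    ip E A (∑ i ∈ s, f i) = ∑ i ∈ s, ip E A (f i) := by
  simp only [ip, Finset.sum_apply, Finset.mul_sum, ← Finset.sum_div]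
  rw [Finset.sum_comm]

/-- Products of power sums over killed vectors are orthogonal when the multisets differ. -/
theorem ip_upM_ne {K : Set ℕ} {r r' : Fn N} {m m' : ℕ} (hA' : Alt r')
    (hh' : Hom r' (base N + m')) (hKr : Killed K r) (hKr' : Killed K r') (μ ν : Multiset ℕ)
    (hμ : ∀ a ∈ μ, a ∈ K ∧ 0 < a) (hν : ∀ a ∈ ν, a ∈ K ∧ 0 < a)
    (hdeg : m + μ.sum = m' + ν.sum) (hne : μ ≠ ν) (hN : m' + ν.sum + (m + μ.sum) ≤ N) :
    ip (base N + (m + μ.sum)) (upM μ r) (upM ν r') = 0 := by
  induction μ using Multiset.induction generalizing ν with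
  | empty =>
    obtain ⟨k, hk⟩ := Multiset.exists_mem_of_ne_zero (Ne.symm hne)
    have hsum := Multiset.sum_erase hk
    simp only [Multiset.sum_zero] at hdeg
    have hup : upM ν r' = up k (upM (ν.erase k) r') := by
      conv_lhs => rw [← Multiset.cons_erase hk, upM_cons]
    rw [upM_zero, ip_comm, hup,
      show base N + (m + (0 : Multiset ℕ).sum) = base N + (m' + (ν.erase k).sum) + k by
        simp only [Multiset.sum_zero]; omega, ip_up, hKr k (hν k hk).1, ip_zero_right]
  | cons k μ ih =>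
    have hk := hμ k (Multiset.mem_cons_self _ _)
    simp only [Multiset.sum_cons] at hdeg hN ⊢
    rw [upM_cons, show base N + (m + (k + μ.sum)) = base N + (m + μ.sum) + k by ring, ip_up,
      dn_upM hA' hh' hKr' hk.1 hk.2 ν (by omega)]
    by_cases hm : k ∈ ν
    · rw [if_pos hm, ip_smul_right]
      have hsum := Multiset.sum_erase hm
      rw [ih (ν.erase k) (fun a ha => hμ a (Multiset.mem_cons_of_mem ha))
        (fun a ha => hν a (Multiset.mem_of_mem_erase ha)) (by omega)
        (fun e => hne (by rw [e, Multiset.cons_erase hm])) (by omega), mul_zero]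
    · rw [if_neg hm, ip_zero_right]

/-- The projection to given runner counts. -/
def proj {p : ℕ} (c : Fin p → ℕ) : Fn N →ₗ[ℚ] Fn N where
  toFun A b := if cnt p b = c then A b else 0
  map_add' A B := by funext b; by_cases h : cnt p b = c <;> simp [h]
  map_smul' a A := by funext b; by_cases h : cnt p b = c <;> simp [h]

theorem proj_apply {p : ℕ} (c : Fin p → ℕ) (A : Fn N) (b : Fin N → ℕ) :
    proj c A b = if cnt p b = c then A b else 0 := rfl

theorem cnt_update_sub {p k : ℕ} (hk : p ∣ k) (b : Fin N → ℕ) (i : Fin N) (h : k ≤ b i) :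
    cnt p (update b i (b i - k)) = cnt p b := by
  refine cnt_update b i ?_
  obtain ⟨t, rfl⟩ := hk
  conv_rhs => rw [← Nat.sub_add_cancel h, Nat.add_mul_mod_self_left]

theorem cnt_update_add {p k : ℕ} (hk : p ∣ k) (b : Fin N → ℕ) (i : Fin N) :
    cnt p (update b i (b i + k)) = cnt p b := by
  refine cnt_update b i ?_
  obtain ⟨t, rfl⟩ := hk
  rw [Nat.add_mul_mod_self_left]

theorem up_proj {p k : ℕ} (hk : p ∣ k) (c : Fin p → ℕ) (A : Fn N) :
    up k (proj c A) = proj c (up k A) := by
  funext b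
  rw [up_apply, proj_apply]
  split_ifs with hb
  · rw [up_apply]
    refine Finset.sum_congr rfl fun i _ => ?_
    split_ifs with h
    · rw [proj_apply, cnt_update_sub hk b i h, if_pos hb]
    · rfl
  · refine Finset.sum_eq_zero fun i _ => ?_
    split_ifs with h
    · rw [proj_apply, cnt_update_sub hk b i h, if_neg hb]
    · rfl

theorem dn_proj {p k : ℕ} (hk : p ∣ k) (c : Fin p → ℕ) (A : Fn N) :
    dn k (proj c A) = proj c (dn k A) := by
  funext b
  rw [dn_apply, proj_apply]
  simp only [proj_apply, cnt_update_add hk]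
  split_ifs with hb
  · rw [dn_apply]
  · simp

theorem upM_proj {p : ℕ} {μ : Multiset ℕ} (hμ : ∀ a ∈ μ, p ∣ a) (c : Fin p → ℕ) (A : Fn N) :
    upM μ (proj c A) = proj c (upM μ A) := by
  induction μ using Multiset.induction with
  | empty => simp
  | cons k μ ih =>
    rw [upM_cons, ih (fun a ha => hμ a (Multiset.mem_cons_of_mem ha)),
      up_proj (hμ k (Multiset.mem_cons_self _ _)), upM_cons]

theorem Alt.proj {A : Fn N} (hA : Alt A) {p : ℕ} (c : Fin p → ℕ) : Alt (Bead29.proj c A) := by
  intro π b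
  rw [proj_apply, proj_apply, cnt_comp]
  split_ifs
  · exact hA π b
  · simp

theorem Hom.proj {A : Fn N} {E : ℕ} (hA : Hom A E) {p : ℕ} (c : Fin p → ℕ) :
    Hom (Bead29.proj c A) E := by
  intro b hb
  rw [proj_apply, hA b hb, ite_self]

/-- The regular cycle types. -/
def reg (p m : ℕ) : Finset (Multiset ℕ) := (pm m).filter fun μ => ∀ a ∈ μ, ¬ p ∣ a

/-- The span of the regular columns. -/
def regSpace (N : ℕ) {p : ℕ} (c : Fin p → ℕ) (m : ℕ) : Submodule ℚ (Fn N) :=
  Submodule.span ℚ ((fun ρ => proj c (upM ρ (vac N))) '' ↑(reg p m))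

/-- The span of all columns. -/
def allSpace (N : ℕ) {p : ℕ} (c : Fin p → ℕ) (m : ℕ) : Submodule ℚ (Fn N) :=
  Submodule.span ℚ ((fun μ => proj c (upM μ (vac N))) '' ↑(pm m))

instance (N : ℕ) {p : ℕ} (c : Fin p → ℕ) (m : ℕ) : Module.Finite ℚ ↥(regSpace N c m) :=
  Module.Finite.iff_fg.mpr (Submodule.fg_span ((Finset.finite_toSet _).image _))

instance (N : ℕ) {p : ℕ} (c : Fin p → ℕ) (m : ℕ) : Module.Finite ℚ ↥(allSpace N c m) :=
  Module.Finite.iff_fg.mpr (Submodule.fg_span ((Finset.finite_toSet _).image _))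

/-- The admissible steps. -/
def steps (p n : ℕ) : Set ℕ := {j | 0 < j ∧ p ∣ j ∧ j ≤ n}

/-- The functions with the properties of the regular columns. -/
def goodSpace (N : ℕ) {p : ℕ} (c : Fin p → ℕ) (m : ℕ) (K : Set ℕ) : Submodule ℚ (Fn N) where
  carrier := {A | Alt A ∧ Hom A (base N + m) ∧ Killed K A ∧ ∀ b, cnt p b ≠ c → A b = 0}
  zero_mem' := ⟨Alt.zero, fun _ _ => rfl, fun j _ => map_zero _, fun _ _ => rfl⟩
  add_mem' := by
    intro A B hA hB
    exact ⟨hA.1.add hB.1, fun b hb => by simp [hA.2.1 b hb, hB.2.1 b hb],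
      fun j hj => by rw [map_add, hA.2.2.1 j hj, hB.2.2.1 j hj, add_zero],
      fun b hb => by simp [hA.2.2.2 b hb, hB.2.2.2 b hb]⟩
  smul_mem' := by
    intro a A hA
    exact ⟨hA.1.smul a, fun b hb => by simp [hA.2.1 b hb],
      fun j hj => by rw [map_smul, hA.2.2.1 j hj, smul_zero],
      fun b hb => by simp [hA.2.2.2 b hb]⟩

theorem regSpace_le_good {p : ℕ} (c : Fin p → ℕ) {m n : ℕ} (hm : m ≤ n) (hN : n + n ≤ N) :
    regSpace N c m ≤ goodSpace N c m (steps p n) := by
  rw [regSpace, Submodule.span_le]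
  intro A hA
  obtain ⟨ρ, hρ, rfl⟩ := hA
  rw [Finset.mem_coe, reg, Finset.mem_filter, mem_pm] at hρ
  obtain ⟨⟨hs, hp⟩, hreg⟩ := hρ
  refine ⟨(vac_alt.upM ρ).proj c, ?_, fun j hj => ?_, fun b hb => by simp only [proj_apply]; rw [if_neg hb]⟩
  · have h := vac_hom.upM (A := vac N) ρ
    rw [hs] at h
    exact h.proj c
  · rw [dn_proj hj.2.1, dn_upM vac_alt vac_hom' vac_killed (show j ∈ {j | 0 < j} from hj.1) hj.1 ρ
      (by have := hj.2.2; omega), if_neg fun h => hreg j h hj.2.1, map_zero]

theorem regSpace_le_allSpace {p : ℕ} (c : Fin p → ℕ) (m : ℕ) :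
    regSpace N c m ≤ allSpace N c m :=
  Submodule.span_mono (Set.image_mono (Finset.coe_subset.mpr (Finset.filter_subset _ _)))

/-- The members of the span of all columns are determined on the configurations. -/
theorem allSpace_ext {p : ℕ} (c : Fin p → ℕ) {m : ℕ} {A : Fn N} (hA : A ∈ allSpace N c m)
    (h : ∀ b ∈ cfgK N (base N + m) c, A b = 0) : A = 0 := by
  have hgood : A ∈ goodSpace N c m ∅ := by
    refine Submodule.span_le.mpr ?_ hA
    intro B hB
    obtain ⟨μ, hμ, rfl⟩ := hB
    have hh := vac_hom.upM (A := vac N) μ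
    rw [(mem_pm.mp hμ).1] at hh
    exact ⟨(vac_alt.upM μ).proj c, hh.proj c, fun j hj => absurd hj (Set.notMem_empty j),
      fun b hb => by simp only [proj_apply]; rw [if_neg hb]⟩
  obtain ⟨hAlt, hHom, -, hsup⟩ := hgood
  funext b
  by_contra hne
  have hinj : Injective b := by
    by_contra hb
    exact hne (hAlt.eq_zero hb)
  have h1 := hAlt (Tuple.sort b) b
  have hd : deg b = base N + m := by
    by_contra hb
    exact hne (hHom b hb)
  have hc : cnt p b = c := by
    by_contra hb
    exact hne (hsup b hb)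
  rw [h _ (mem_cfgK.mpr ⟨⟨by rw [deg_comp_perm, hd], (Tuple.monotone_sort b).strictMono_of_injective
    (hinj.comp (Tuple.sort b).injective)⟩, by rw [cnt_comp, hc]⟩)] at h1
  rcases mul_eq_zero.mp h1.symm with h2 | h2
  · exact absurd h2 (by simp)
  · exact hne h2

theorem finrank_allSpace {p : ℕ} (c : Fin p → ℕ) {m : ℕ} (hN : m + m ≤ N) :
    Module.finrank ℚ ↥(allSpace N c m) = (cfgK N (base N + m) c).card := by
  classical
  let Φ : ↥(allSpace N c m) →ₗ[ℚ] (↥(cfgK N (base N + m) c) → ℚ) :=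
    { toFun := fun A b => (A : Fn N) b
      map_add' := fun A B => by funext b; rfl
      map_smul' := fun a A => by funext b; rfl }
  have hinj : Injective Φ := by
    rw [← LinearMap.ker_eq_bot, LinearMap.ker_eq_bot']
    intro A hA
    exact Subtype.ext (allSpace_ext c A.2 fun b hb => congrFun hA ⟨b, hb⟩)
  have hsurj : Surjective Φ := by
    intro f
    let A : Fn N := ∑ μ ∈ pm m, (∑ b : ↥(cfgK N (base N + m) c),
      f b * (X N μ b / (zW μ : ℚ))) • proj c (upM μ (vac N))
    refine ⟨⟨A, Submodule.sum_mem _ fun μ hμ => Submodule.smul_mem _ _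
      (Submodule.subset_span (Set.mem_image_of_mem _ (Finset.mem_coe.mpr hμ)))⟩, ?_⟩
    funext b
    show A b = f b
    obtain ⟨⟨hd, hs⟩, hc⟩ := mem_cfgK.mp b.2
    simp only [A, Finset.sum_apply, Pi.smul_apply, smul_eq_mul, proj_apply, hc, if_true,
      Finset.sum_mul]
    rw [Finset.sum_comm, Finset.sum_eq_single b]
    · rw [Finset.sum_congr rfl (g := fun μ => f b * (X N μ b * X N μ b / (zW μ : ℚ)))
        fun μ _ => by rw [X]; ring, ← Finset.mul_sum,
        row_orth hN (mem_cfg.mpr ⟨hd, hs⟩) (mem_cfg.mpr ⟨hd, hs⟩), if_pos rfl, mul_one]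
    · intro b' _ hne
      obtain ⟨⟨hd', hs'⟩, -⟩ := mem_cfgK.mp b'.2
      rw [Finset.sum_congr rfl (g := fun μ => f b' * (X N μ b' * X N μ b / (zW μ : ℚ)))
        fun μ _ => by rw [X, X]; ring, ← Finset.mul_sum,
        row_orth hN (mem_cfg.mpr ⟨hd', hs'⟩) (mem_cfg.mpr ⟨hd, hs⟩),
        if_neg fun e => hne (Subtype.ext e), mul_zero]
    · exact fun h => absurd (mem_univ _) h
  rw [(LinearEquiv.ofBijective Φ ⟨hinj, hsurj⟩).finrank_eq, Module.finrank_pi, Fintype.card_coe]

theorem card_cfgK_eq_sum {p n : ℕ} (hp : 0 < p) (c : Fin p → ℕ) (hN : n + n ≤ N) {m : ℕ}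
    (hm : m ≤ n) :
    (cfgK N (base N + m) c).card =
      ∑ e ∈ range (m / p + 1), partCount e * Module.finrank ℚ ↥(regSpace N c (m - p * e)) := by
  classical
  let B : ∀ e : ℕ, Module.Basis (Fin (Module.finrank ℚ ↥(regSpace N c (m - p * e)))) ℚ
      ↥(regSpace N c (m - p * e)) := fun e => Module.finBasis ℚ _
  let ι := Σ e : ↥(range (m / p + 1)), (↥(pm (e : ℕ)) ×
    Fin (Module.finrank ℚ ↥(regSpace N c (m - p * (e : ℕ)))))
  let F : ι → Fn N := fun x =>
    upM ((x.2.1 : Multiset ℕ).map (p * ·)) ((B (x.1 : ℕ) x.2.2 : ↥(regSpace N c _)) : Fn N)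
  have hcardι : Fintype.card ι =
      ∑ e ∈ range (m / p + 1), partCount e * Module.finrank ℚ ↥(regSpace N c (m - p * e)) := by
    rw [Fintype.card_sigma]
    simp only [Fintype.card_prod, Fintype.card_coe, card_pm, Fintype.card_fin]
    exact Finset.sum_coe_sort (range (m / p + 1))
      fun e => partCount e * Module.finrank ℚ ↥(regSpace N c (m - p * e))
  have hsum : ∀ ν : Multiset ℕ, (ν.map (p * ·)).sum = p * ν.sum := fun ν => by
    rw [Multiset.sum_map_mul_left, Multiset.map_id']
  have hpe : ∀ e : ↥(range (m / p + 1)), p * (e : ℕ) ≤ m := fun e => by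
    have := Finset.mem_range.mp e.2
    calc p * (e : ℕ) ≤ p * (m / p) := Nat.mul_le_mul_left p (by omega)
      _ ≤ m := Nat.mul_div_le m p
  have hsteps : ∀ x : ι, ∀ a ∈ (x.2.1 : Multiset ℕ).map (p * ·), a ∈ steps p n ∧ 0 < a := by
    rintro ⟨e, ν, i⟩ a ha
    obtain ⟨q, hq, rfl⟩ := Multiset.mem_map.mp ha
    simp only [] at hq
    obtain ⟨hs, hpos⟩ := mem_pm.mp ν.2
    have h1 := hpos q hq
    have h2 := Multiset.le_sum_of_mem hq
    have h4 : p * q ≤ p * (e : ℕ) := Nat.mul_le_mul_left p (by omega)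
    have := hpe e
    have h3 : 0 < p * q := Nat.mul_pos hp h1
    exact ⟨⟨h3, dvd_mul_right p q, by omega⟩, h3⟩
  have hB : ∀ e : ℕ, ∀ x : ↥(regSpace N c (m - p * e)),
      (x : Fn N) ∈ goodSpace N c (m - p * e) (steps p n) := fun e x =>
    regSpace_le_good c (show m - p * e ≤ n by omega) hN x.2
  -- independence
  have hind : LinearIndependent ℚ F := by
    rw [Fintype.linearIndependent_iff]
    intro g hg x₀
    obtain ⟨e, ν, i₀⟩ := x₀
    set x : ↥(regSpace N c (m - p * (e : ℕ))) := ∑ i, g ⟨e, ν, i⟩ • B (e : ℕ) i with hx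
    obtain ⟨hνs, hνp⟩ := mem_pm.mp ν.2
    set μ := (ν : Multiset ℕ).map (p * ·) with hμ
    have hμsum : μ.sum = p * (e : ℕ) := by rw [hμ, hsum, hνs]
    have hE : base N + (m - p * (e : ℕ)) + μ.sum = base N + m := by
      have := hpe e
      omega
    obtain ⟨hxA, hxH, hxK, -⟩ := hB e x
    have hpair : ∀ y : ι, ip (base N + m) (upM μ (x : Fn N)) (F y) =
        if h : y.1 = e ∧ (y.2.1 : Multiset ℕ) = ν then
          (zW μ : ℚ) * ip (base N + (m - p * (e : ℕ))) (x : Fn N)
            ((B (y.1 : ℕ) y.2.2 : ↥(regSpace N c _)) : Fn N) else 0 := by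
      rintro ⟨e', ν', i⟩
      obtain ⟨hA', hH', hK', -⟩ := hB e' (B (e' : ℕ) i)
      obtain ⟨hs', hp'⟩ := mem_pm.mp ν'.2
      have hμ'sum : ((ν' : Multiset ℕ).map (p * ·)).sum = p * (e' : ℕ) := by rw [hsum, hs']
      have h1 := hpe e
      have h2 := hpe e'
      by_cases h : e' = e ∧ (ν' : Multiset ℕ) = ν
      · rw [dif_pos h]
        obtain ⟨rfl, h'⟩ := h
        obtain rfl : ν' = ν := Subtype.ext h'
        have h3 := ip_upM (r := (x : Fn N)) hA' hH' hK' μ μ (hsteps ⟨e', ν', i⟩)
          (fun a ha => (hsteps ⟨e', ν', i⟩ a ha).2) rfl (by omega)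
        rw [if_pos rfl, hE] at h3
        exact h3
      · rw [dif_neg h]
        have hne : μ ≠ (ν' : Multiset ℕ).map (p * ·) := by
          intro he
          have h3 := Multiset.map_injective
            (fun a b hab => Nat.eq_of_mul_eq_mul_left hp hab) he
          refine h ⟨Subtype.ext ?_, h3.symm⟩
          rw [← hs', ← h3, hνs]
        have h3 := ip_upM_ne (r := (x : Fn N)) (m := m - p * (e : ℕ)) hA' hH' hxK hK' μ
          ((ν' : Multiset ℕ).map (p * ·)) (hsteps ⟨e, ν, i₀⟩) (hsteps ⟨e', ν', i⟩) (by omega) hne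
          (by omega)
        rwa [show base N + (m - p * (e : ℕ) + μ.sum) = base N + m by omega] at h3
    have h0 : ip (base N + m) (upM μ (x : Fn N)) (∑ y, g y • F y) = 0 := by
      rw [hg, ip_zero_right]
    rw [ip_sum_right, Finset.sum_congr rfl fun y _ => by rw [ip_smul_right, hpair y],
      Fintype.sum_sigma, Finset.sum_eq_single e (fun e' _ he' => Finset.sum_eq_zero fun y _ => by
        rw [dif_neg fun h => he' h.1, mul_zero]) (fun h => absurd (mem_univ e) h),
      Fintype.sum_prod_type, Finset.sum_eq_single ν (fun ν' _ hν' => Finset.sum_eq_zero fun i _ => by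
        rw [dif_neg fun h => hν' (Subtype.ext h.2), mul_zero]) (fun h => absurd (mem_univ ν) h)]
      at h0
    have h4 : (zW μ : ℚ) * ip (base N + (m - p * (e : ℕ))) (x : Fn N) (x : Fn N) = 0 := by
      rw [← h0]
      conv_lhs => rw [show ((x : ↥(regSpace N c _)) : Fn N) = ∑ i, g ⟨e, ν, i⟩ •
        ((B (e : ℕ) i : ↥(regSpace N c _)) : Fn N) by rw [hx]; simp, ip_sum_right, Finset.mul_sum]
      refine Finset.sum_congr rfl fun i _ => ?_
      rw [dif_pos ⟨rfl, rfl⟩, ip_smul_right]
      rw [show (∑ i, g ⟨e, ν, i⟩ • ((B (e : ℕ) i : ↥(regSpace N c _)) : Fn N)) = (x : Fn N) by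
        rw [hx]; simp]
      ring
    have hz : (zW μ : ℚ) ≠ 0 := by
      exact_mod_cast (zW_pos fun a ha => (hsteps ⟨e, ν, i₀⟩ a ha).2).ne'
    have h5 : ∑ b ∈ slice N (base N + (m - p * (e : ℕ))), (x : Fn N) b * (x : Fn N) b = 0 := by
      rcases div_eq_zero_iff.mp ((mul_eq_zero.mp h4).resolve_left hz) with h | h
      · exact h
      · exact absurd h (by exact_mod_cast Nat.factorial_ne_zero N)
    have hx0 : x = 0 := by
      apply Subtype.ext
      funext b
      by_cases hb : deg b = base N + (m - p * (e : ℕ))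
      · exact mul_self_eq_zero.mp ((Finset.sum_eq_zero_iff_of_nonneg
          fun b _ => mul_self_nonneg ((x : Fn N) b)).mp h5 b (mem_slice.mpr hb))
      · exact hxH b hb
    exact Fintype.linearIndependent_iff.mp (B (e : ℕ)).linearIndependent (fun i => g ⟨e, ν, i⟩)
      (by rw [← hx, hx0]) i₀
  -- spanning
  have hgen : ∀ (e : ↥(range (m / p + 1))) (ν : ↥(pm (e : ℕ))) (ρ : Multiset ℕ),
      ρ ∈ reg p (m - p * (e : ℕ)) →
      upM ((ν : Multiset ℕ).map (p * ·)) (proj c (upM ρ (vac N))) ∈ allSpace N c m := by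
    intro e ν ρ hρ
    obtain ⟨hρ, -⟩ := Finset.mem_filter.mp hρ
    obtain ⟨hs, hpos⟩ := mem_pm.mp hρ
    obtain ⟨hνs, hνp⟩ := mem_pm.mp ν.2
    rw [upM_proj (fun a ha => by
      obtain ⟨q, -, rfl⟩ := Multiset.mem_map.mp ha
      exact dvd_mul_right p q), ← upM_add]
    refine Submodule.subset_span (Set.mem_image_of_mem _ (Finset.mem_coe.mpr (mem_pm.mpr
      ⟨?_, ?_⟩)))
    · rw [Multiset.sum_add, hsum, hνs, hs]
      have := hpe e
      omega
    · intro a ha
      rcases Multiset.mem_add.mp ha with ha | ha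
      · obtain ⟨q, hq, rfl⟩ := Multiset.mem_map.mp ha
        exact Nat.mul_pos hp (hνp q hq)
      · exact hpos a ha
  have hspan : Submodule.span ℚ (Set.range F) = allSpace N c m := by
    apply le_antisymm
    · rw [Submodule.span_le]
      rintro _ ⟨⟨e, ν, i⟩, rfl⟩
      have hle : (regSpace N c (m - p * (e : ℕ))).map (upL ((ν : Multiset ℕ).map (p * ·))) ≤
          allSpace N c m := by
        rw [regSpace, Submodule.map_span, Submodule.span_le]
        rintro _ ⟨A, hA, rfl⟩
        obtain ⟨ρ, hρ, rfl⟩ := hA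
        exact hgen e ν ρ hρ
      exact hle ⟨_, (B (e : ℕ) i).2, rfl⟩
    · refine Submodule.span_le.mpr ?_
      intro A hA
      obtain ⟨μ, hμ, rfl⟩ := hA
      obtain ⟨hs, hpos⟩ := mem_pm.mp hμ
      set D := μ.filter (p ∣ ·)
      set ρ := μ.filter (fun a => ¬ p ∣ a) with hρ
      set ν := D.map (· / p) with hν
      have hD : D = ν.map (p * ·) := by
        rw [hν, Multiset.map_map]
        conv_lhs => rw [← Multiset.map_id' D]
        refine Multiset.map_congr rfl fun a ha => ?_
        exact (Nat.mul_div_cancel' (Multiset.mem_filter.mp ha).2).symm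
      have hsplit : μ = D + ρ := (Multiset.filter_add_not _ μ).symm
      have hsumμ : p * ν.sum + ρ.sum = m := by
        rw [← hsum ν, ← hD, ← Multiset.sum_add, ← hsplit, hs]
      have he : ν.sum ∈ range (m / p + 1) := by
        rw [Finset.mem_range, Nat.lt_succ_iff, Nat.le_div_iff_mul_le hp, mul_comm]
        omega
      have hνmem : ν ∈ pm ν.sum := mem_pm.mpr ⟨rfl, fun a ha => by
        obtain ⟨a', ha', rfl⟩ := Multiset.mem_map.mp ha
        obtain ⟨h1, h2⟩ := Multiset.mem_filter.mp ha'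
        exact Nat.div_pos (Nat.le_of_dvd (hpos a' h1) h2) hp⟩
      have hρmem : ρ ∈ reg p (m - p * ν.sum) := Finset.mem_filter.mpr ⟨mem_pm.mpr
        ⟨by omega, fun a ha => hpos a (Multiset.mem_filter.mp ha).1⟩,
        fun a ha => (Multiset.mem_filter.mp ha).2⟩
      have hAeq : proj c (upM μ (vac N)) = upL D (proj c (upM ρ (vac N))) := by
        show _ = upM D _
        rw [upM_proj (fun a ha => (Multiset.mem_filter.mp ha).2), ← upM_add, ← hsplit]
      show proj c (upM μ (vac N)) ∈ Submodule.span ℚ (Set.range F)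
      rw [hAeq]
      let r : ↥(regSpace N c (m - p * ν.sum)) := ⟨_, Submodule.subset_span
        (Set.mem_image_of_mem _ (Finset.mem_coe.mpr hρmem))⟩
      have hr : (r : Fn N) = ∑ i, (B ν.sum).repr r i • ((B ν.sum i : ↥(regSpace N c _)) : Fn N) := by
        have h := congrArg (Submodule.subtype _) ((B ν.sum).sum_repr r)
        rw [map_sum] at h
        exact h.symm.trans (Finset.sum_congr rfl fun i _ => by rw [map_smul]; rfl)
      rw [show proj c (upM ρ (vac N)) = (r : Fn N) from rfl, hr, map_sum]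
      refine Submodule.sum_mem _ fun i _ => ?_
      rw [map_smul]
      refine Submodule.smul_mem _ _ (Submodule.subset_span ⟨⟨⟨ν.sum, he⟩, ⟨ν, hνmem⟩, i⟩, ?_⟩)
      show upM (ν.map (p * ·)) _ = upM D _
      rw [hD]
  rw [← finrank_allSpace c (show m + m ≤ N by omega), ← hspan,
    finrank_span_eq_card hind, hcardι]

/-- The rank of the regular columns on the configurations of one weight. -/
theorem finrank_regSpace {p n : ℕ} (hp : 2 ≤ p) (hN : p * n + n ≤ N) {b : Fin N → ℕ}
    (hb : StrictMono b) (hd : deg b = base N + n) {w : ℕ}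
    (hw : deg b = baseK (cnt p b) + p * w) :
    Module.finrank ℚ ↥(regSpace N (cnt p b) n) = pp (p - 1) w := by
  set c := cnt p b with hc
  have hp0 : 0 < p := by omega
  have hN2 : n + n ≤ N := by
    have := Nat.le_mul_of_pos_left n hp0
    omega
  have hbase : base N ≤ baseK c := by
    rw [hc, ← deg_coreOf hp0]
    exact base_le_deg (coreOf_rs p hp0 b).injective
  suffices key : ∀ v ≤ w, ∀ m, baseK c + p * v = base N + m → m ≤ n →
      Module.finrank ℚ ↥(regSpace N c m) = pp (p - 1) v from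
    key w le_rfl n (by omega) le_rfl
  intro v
  induction v using Nat.strong_induction_on with
  | _ v ih =>
    intro hv m hm hmn
    have hsum := card_cfgK_eq_sum hp0 c hN2 hmn
    have hwc : ∀ r, v ≤ c r := fun r => by
      have h1 := le_cnt hp0 hN hb.injective hd.le r
      have h2 : v ≤ n := by
        have := Nat.le_mul_of_pos_left v hp0
        omega
      rw [← hc] at h1
      omega
    have hcount : (cfgK N (base N + m) c).card = pp p v := by
      rw [← hm]; exact card_cfgK hp0 c (by rw [hc]; exact sum_cnt hp0 b) v hwc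
    have hzero : ∀ e, v < e → p * e ≤ m →
        Module.finrank ℚ ↥(regSpace N c (m - p * e)) = 0 := by
      intro e he hem
      have h1 := Submodule.finrank_mono (regSpace_le_allSpace (N := N) c (m - p * e))
      rw [finrank_allSpace c (by omega)] at h1
      have h2 : cfgK N (base N + (m - p * e)) c = ∅ := by
        rw [Finset.eq_empty_iff_forall_notMem]
        intro x hx
        obtain ⟨⟨hdx, hsx⟩, hcx⟩ := mem_cfgK.mp hx
        obtain ⟨w', hw'⟩ := exists_weight_cnt (p := p) hp0 hsx
        rw [hcx] at hw'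
        have h3 : p * v < p * e := Nat.mul_lt_mul_of_pos_left he hp0
        omega
      rw [h2, Finset.card_empty] at h1
      omega
    have hvm : v ≤ m / p := by
      rw [Nat.le_div_iff_mul_le hp0, mul_comm]
      omega
    rw [hcount, ← Finset.sum_range_add_sum_Ico _ (show v + 1 ≤ m / p + 1 by omega),
      Finset.sum_eq_zero (s := Finset.Ico (v + 1) (m / p + 1)) (fun e he => by
        rw [Finset.mem_Ico] at he
        have h4 : p * e ≤ p * (m / p) := Nat.mul_le_mul_left p (by omega)
        have := Nat.mul_div_le m p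
        rw [hzero e (by omega) (by omega), mul_zero]), add_zero, Finset.sum_range_succ'] at hsum
    rw [show pp p v = pp (p - 1 + 1) v by rw [show p - 1 + 1 = p by omega], pp_succ,
      Finset.sum_range_succ'] at hsum
    simp only [partCount_zero, one_mul, Nat.sub_zero, mul_zero] at hsum
    rw [Finset.sum_congr rfl (g := fun e => partCount (e + 1) * pp (p - 1) (v - (e + 1)))
      (s₁ := range v) (f := fun e => partCount (e + 1) *
        Module.finrank ℚ ↥(regSpace N c (m - p * (e + 1)))) fun e he => by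
      rw [Finset.mem_range] at he
      have h5 : p * (e + 1) ≤ p * v := Nat.mul_le_mul_left p (by omega)
      rw [ih (v - (e + 1)) (by omega) (by omega) (m - p * (e + 1))
        (by rw [Nat.mul_sub]; omega) (by omega)]] at hsum
    have h0 : Module.finrank ℚ ↥(regSpace N c (m - p * 0)) =
        Module.finrank ℚ ↥(regSpace N c m) := by rw [Nat.mul_zero, Nat.sub_zero]
    omega

end Cfsg.Agent.Bead29
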