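import Cfsg.Agent.Bead29.Content
import Cfsg.Agent.Bead29.Rank
import Cfsg.Agent.Lib.BlocksDefect.Basic
import Cfsg.Agent.Lib.CharCore.Complete
import Cfsg.Prelude.Def_BlockRank

/-!
# Blocks of the symmetric groups

Characters in one block have the same runner counts; the `p`-regular rank of a block of weight `w` is
at most the number of `(p - 1)`-tuples of partitions of `w`.
-/

set_option autoImplicit false

namespace Cfsg.Agent.Bead29

open Finset Function
open Cfsg.Agent.BlocksCore Cfsg.Agent.BlocksDefect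

variable {N n p : ℕ} {M : Ideal Cfsg.AlgInt}

theorem typ_one (n : ℕ) : typ (1 : Equiv.Perm (Fin n)) = Multiset.replicate n 1 := by
  simp [typ, Equiv.Perm.parts_partition]

theorem chr_one_pos {b : Fin N → ℕ} (hb : b ∈ cfg N (base N + n)) :
    0 < X N (typ (1 : Equiv.Perm (Fin n))) b := by
  obtain ⟨hd, hs⟩ := mem_cfg.mp hb
  rw [typ_one]
  exact X_ones_pos hs hd

theorem isIrr_chr (hN : n + n ≤ N) {b : Fin N → ℕ} (hb : b ∈ cfg N (base N + n)) :
    Cfsg.IsIrrCharacter (Equiv.Perm (Fin n)) (chr n b) := by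
  refine CharCore.IsGeneralizedCharacter.isIrr_of_norm_one (isGeneralized_chr b)
    (by rw [classInner_chr hN hb hb, if_pos rfl]) ?_
  show 0 < ((X N (typ (1 : Equiv.Perm (Fin n))) b : ℚ) : ℂ).re
  rw [← Complex.ofReal_ratCast, Complex.ofReal_re]
  exact_mod_cast chr_one_pos hb

theorem exists_chr_eq (hN : n + n ≤ N) (ψ : Cfsg.IrrCharacter (Equiv.Perm (Fin n))) :
    ∃ b ∈ cfg N (base N + n), (ψ : Equiv.Perm (Fin n) → ℂ) = chr n b := by
  classical
  let f : ↥(cfg N (base N + n)) → Cfsg.IrrCharacter (Equiv.Perm (Fin n)) := fun b =>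
    ⟨chr n (b : Fin N → ℕ), isIrr_chr hN b.2⟩
  have hinj : Injective f := by
    intro b c h
    have h1 := classInner_chr hN b.2 c.2
    rw [show chr n (b : Fin N → ℕ) = chr n (c : Fin N → ℕ) from congrArg Subtype.val h,
      classInner_chr hN c.2 c.2, if_pos rfl] at h1
    by_contra hne
    rw [if_neg fun e => hne (Subtype.ext e)] at h1
    exact one_ne_zero h1
  have : Finite (Cfsg.IrrCharacter (Equiv.Perm (Fin n))) := Finite.of_equiv _ (Equiv.refl _)
  have hcard : Nat.card (Cfsg.IrrCharacter (Equiv.Perm (Fin n))) ≤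
      Nat.card ↥(cfg N (base N + n)) := by
    rw [CharCore.card_irr]
    refine (Cfsg.Agent.S4198.card_conjClasses_perm n).trans ?_
    rw [Nat.card_eq_fintype_card, Nat.card_eq_fintype_card, Fintype.card_coe,
      card_cfg_pm (show n ≤ N by omega), card_pm]
    rfl
  obtain ⟨b, hb⟩ := (hinj.bijective_of_nat_card_le hcard).2 ψ
  exact ⟨b, b.2, (congrArg Subtype.val hb).symm⟩

theorem natCast_eq_iff_mod {r : Fin p} (a : ℕ) : (a : ZMod p) = ((r : ℕ) : ZMod p) ↔ a % p = r := by
  rw [ZMod.natCast_eq_natCast_iff', Nat.mod_eq_of_lt r.2]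

theorem cnt_eq_of_kap {b c : Fin N → ℕ} (h : kap p b = kap p c) : cnt p b = cnt p c := by
  classical
  have key : ∀ (b : Fin N → ℕ) (r : Fin p),
      cnt p b r = (kap p b).count ((r : ℕ) : ZMod p) := by
    intro b r
    rw [kap, Multiset.count_map, ← Finset.filter_val, Finset.card_val, cnt]
    congr 1
    refine Finset.filter_congr fun i _ => ?_
    rw [eq_comm (a := ((r : ℕ) : ZMod p)), natCast_eq_iff_mod]
  funext r
  rw [key, key, h]

/-- Characters in the same block have the same runner counts. -/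
theorem cnt_eq_of_mem [Fact p.Prime] (hM : Cfsg.IsPModular p M)
    {B : Set (Cfsg.IrrCharacter (Equiv.Perm (Fin n)))} (hB : Cfsg.IsPBlock M B)
    {χ ψ : Cfsg.IrrCharacter (Equiv.Perm (Fin n))} (hχ : χ ∈ B) (hψ : ψ ∈ B) {b c : Fin N → ℕ}
    (hb : b ∈ cfg N (base N + n)) (hc : c ∈ cfg N (base N + n))
    (eb : (χ : Equiv.Perm (Fin n) → ℂ) = chr n b) (ec : (ψ : Equiv.Perm (Fin n) → ℂ) = chr n c) :
    cnt p b = cnt p c := by
  classical
  have := isPrime hM
  obtain ⟨hdb, hsb⟩ := mem_cfg.mp hb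
  obtain ⟨hdc, hsc⟩ := mem_cfg.mp hc
  obtain ⟨χ₀, rfl⟩ := hB
  have hsame : ∀ g, MemLocalIdeal M (Cfsg.centralChar (χ : Equiv.Perm (Fin n) → ℂ) g -
      Cfsg.centralChar (ψ : Equiv.Perm (Fin n) → ℂ) g) := by
    intro g
    have h1 := hχ g
    have h2 := hψ g
    have := memLocalIdeal_sub h2 h1
    rwa [sub_sub_sub_cancel_left] at this
  refine cnt_eq_of_kap (kap_eq_of_map_eq hsb hsc ?_)
  ext k
  rw [Polynomial.coeff_map, Polynomial.coeff_map, eq_intCast, eq_intCast,
    ZMod.intCast_eq_intCast_iff_dvd_sub]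
  set a : Equiv.Perm (Fin n) → ℂ := fun σ => if Multiset.card (typ σ) = k then 1 else 0 with ha
  have hacl : Cfsg.IsClassFunction (Equiv.Perm (Fin n)) a := by
    intro g h
    simp only [ha, typ_conj]
  have homega : ∀ (x : Fin N → ℕ) (φ : Cfsg.IrrCharacter (Equiv.Perm (Fin n))),
      x ∈ cfg N (base N + n) → (φ : Equiv.Perm (Fin n) → ℂ) = chr n x →
      omega (φ : Equiv.Perm (Fin n) → ℂ) a = (((contentPoly x).coeff k : ℤ) : ℂ) := by
    intro x φ hx e
    have hpos := chr_one_pos hx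
    rw [omega_eq_sum, e, div_eq_iff (by
      show ((X N (typ (1 : Equiv.Perm (Fin n))) x : ℚ) : ℂ) ≠ 0
      exact_mod_cast hpos.ne')]
    have h := sum_X_card_eq (mem_cfg.mp hx).1 (mem_cfg.mp hx).2 k
    have h' := congrArg (fun q : ℚ => (q : ℂ)) h
    simp only [Rat.cast_sum, Rat.cast_mul, Rat.cast_intCast] at h'
    rw [chr]
    refine Eq.trans (Finset.sum_congr rfl fun σ _ => ?_) (h'.trans (mul_comm _ _))
    simp only [ha]
    split_ifs <;> simp [chr]
  have hfinal : MemLocalIdeal M ((((contentPoly c).coeff k - (contentPoly b).coeff k : ℤ)) : ℂ) := by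
    push_cast
    rw [← homega b χ hb eb, ← homega c ψ hc ec]
    have := Fintype.ofFinite (ConjClasses (Equiv.Perm (Fin n)))
    rw [BlocksDefect.omega_eq_sum_classes ψ hacl, BlocksDefect.omega_eq_sum_classes χ hacl, ← Finset.sum_sub_distrib]
    refine memLocalIdeal_sum fun C _ => ?_
    rw [← mul_sub]
    refine memLocalIdeal_mul_left ?_ ?_
    · simp only [ha]
      split_ifs
      · exact (localRing M).one_mem
      · exact (localRing M).zero_mem
    · have h3 := memLocalIdeal_sub (memLocalIdeal_zero (M := M)) (hsame (Quotient.out C))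
      rwa [zero_sub, neg_sub] at h3
  exact (memLocalIdeal_intCast_iff hM _).mp hfinal

theorem reg_of_pRegular [Fact p.Prime] {σ : Equiv.Perm (Fin n)} (h : Cfsg.IsPRegular p σ) :
    typ σ ∈ reg p n := by
  refine Finset.mem_filter.mpr ⟨typ_mem_pm σ, fun a ha hpa => ?_⟩
  rw [typ, Equiv.Perm.parts_partition, Multiset.mem_add] at ha
  rcases ha with ha | ha
  · exact h (hpa.trans (Equiv.Perm.dvd_of_mem_cycleType ha))
  · rw [Multiset.eq_of_mem_replicate ha] at hpa
    exact (Fact.out : p.Prime).one_lt.ne' (Nat.dvd_one.mp hpa)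

/-- The `p`-regular rank of a block of weight `w`. -/
theorem blockRank_le [Fact p.Prime] (hM : Cfsg.IsPModular p M)
    {B : Set (Cfsg.IrrCharacter (Equiv.Perm (Fin n)))} (hB : Cfsg.IsPBlock M B)
    {χ : Cfsg.IrrCharacter (Equiv.Perm (Fin n))} (hχ : χ ∈ B) (hN : p * n + n ≤ N)
    {b : Fin N → ℕ} (hb : b ∈ cfg N (base N + n))
    (eb : (χ : Equiv.Perm (Fin n) → ℂ) = chr n b) {w : ℕ}
    (hw : deg b = baseK (cnt p b) + p * w) :
    Cfsg.blockRank p B ≤ pp (p - 1) w := by
  classical
  obtain ⟨hdb, hsb⟩ := mem_cfg.mp hb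
  have hp : 2 ≤ p := (Fact.out : p.Prime).two_le
  have hN2 : n + n ≤ N := by
    have := Nat.le_mul_of_pos_left n (show 0 < p by omega)
    omega
  set c := cnt p b with hc
  let bas : Module.Basis (Fin (Module.finrank ℚ ↥(regSpace N c n))) ℚ ↥(regSpace N c n) :=
    Module.finBasis ℚ _
  let f : Fin (Module.finrank ℚ ↥(regSpace N c n)) → Equiv.Perm (Fin n) → ℂ := fun i σ =>
    if h : typ σ ∈ reg p n ∧ Cfsg.IsPRegular p σ then
      ((bas.repr ⟨proj c (upM (typ σ) (vac N)),
        Submodule.subset_span (Set.mem_image_of_mem _ (Finset.mem_coe.mpr h.1))⟩ i : ℚ) : ℂ)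
    else 0
  have hsub : (fun χ : Cfsg.IrrCharacter (Equiv.Perm (Fin n)) =>
      Cfsg.pRegularPart p (χ : Equiv.Perm (Fin n) → ℂ)) '' B ⊆
      ↑(Submodule.span ℂ (Set.range f)) := by
    rintro _ ⟨ψ, hψ, rfl⟩
    obtain ⟨x, hx, ex⟩ := exists_chr_eq hN2 ψ
    have hcx : cnt p x = c := cnt_eq_of_mem hM hB hψ hχ hx hb ex eb
    have key : Cfsg.pRegularPart p (ψ : Equiv.Perm (Fin n) → ℂ) =
        ∑ i, (((bas i : ↥(regSpace N c n)) : Fn N) x : ℂ) • f i := by
      funext σ
      simp only [Cfsg.pRegularPart, Finset.sum_apply, Pi.smul_apply, smul_eq_mul]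
      by_cases hσ : Cfsg.IsPRegular p σ
      · have hr := reg_of_pRegular hσ
        rw [if_pos hσ, ex]
        simp only [f, dif_pos (And.intro hr hσ)]
        set r : ↥(regSpace N c n) := ⟨proj c (upM (typ σ) (vac N)),
          Submodule.subset_span (Set.mem_image_of_mem _ (Finset.mem_coe.mpr hr))⟩ with hrdef
        have h := congrArg (fun v : ↥(regSpace N c n) => (v : Fn N) x) (bas.sum_repr r)
        simp only [Submodule.coe_sum, Submodule.coe_smul, Finset.sum_apply, Pi.smul_apply,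
          smul_eq_mul] at h
        have hxr : (r : Fn N) x = X N (typ σ) x := by
          show proj c (upM (typ σ) (vac N)) x = _
          rw [proj_apply, if_pos hcx]
          rfl
        show ((X N (typ σ) x : ℚ) : ℂ) = _
        rw [← hxr, ← h, Rat.cast_sum]
        refine Finset.sum_congr rfl fun i _ => ?_
        push_cast
        ring
      · rw [if_neg hσ]
        symm
        refine Finset.sum_eq_zero fun i _ => ?_
        simp only [f, dif_neg (fun h : typ σ ∈ reg p n ∧ Cfsg.IsPRegular p σ => hσ h.2), mul_zero]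
    simp only [SetLike.mem_coe]
    rw [key]
    exact Submodule.sum_mem _ fun i _ =>
      Submodule.smul_mem _ _ (Submodule.subset_span (Set.mem_range_self i))
  calc Cfsg.blockRank p B
      ≤ Module.finrank ℂ ↥(Submodule.span ℂ (Set.range f)) :=
        Submodule.finrank_mono (Submodule.span_le.mpr hsub)
    _ ≤ Fintype.card (Fin (Module.finrank ℚ ↥(regSpace N c n))) := finrank_range_le_card f
    _ = pp (p - 1) w := by rw [Fintype.card_fin, hc, finrank_regSpace hp hN hsb hdb hw]

/-- A `p`-element moving `p * w` points at which a character of weight `w` does not vanish. -/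
theorem exists_pElement [Fact p.Prime] (hN : n + n ≤ N) {b : Fin N → ℕ}
    (hb : b ∈ cfg N (base N + n)) :
    ∃ (w : ℕ) (σ : Equiv.Perm (Fin n)), deg b = baseK (cnt p b) + p * w ∧
      σ.support.card = p * w ∧ orderOf σ ∣ p ∧ chr n b σ ≠ 0 := by
  have hp := (Fact.out : p.Prime)
  obtain ⟨hd, hs⟩ := mem_cfg.mp hb
  obtain ⟨w, hw, hwn, hne⟩ := exists_X_ne_zero (n := n) hp.pos hs hd
  rw [deg_coreOf hp.pos] at hw
  have hμ : Multiset.replicate w p + Multiset.replicate (n - p * w) 1 ∈ pm n := by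
    refine mem_pm.mpr ⟨?_, fun a ha => ?_⟩
    · rw [Multiset.sum_add, Multiset.sum_replicate, Multiset.sum_replicate, smul_eq_mul,
        smul_eq_mul, mul_one, mul_comm w p]
      omega
    · rcases Multiset.mem_add.mp ha with ha | ha <;> rw [Multiset.eq_of_mem_replicate ha]
      · exact hp.pos
      · exact one_pos
  obtain ⟨σ, hσ⟩ := exists_typ hμ
  have hct : σ.cycleType = Multiset.replicate w p := by
    rw [← Equiv.Perm.filter_parts_partition_eq_cycleType,
      show σ.partition.parts = _ from hσ, Multiset.filter_add,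
      Multiset.filter_eq_self.mpr fun a ha => by rw [Multiset.eq_of_mem_replicate ha]; exact hp.two_le,
      Multiset.filter_eq_nil.mpr fun a ha => by rw [Multiset.eq_of_mem_replicate ha]; omega,
      add_zero]
  refine ⟨w, σ, hw, ?_, ?_, ?_⟩
  · rw [← Equiv.Perm.sum_cycleType, hct, Multiset.sum_replicate, smul_eq_mul, mul_comm]
  · rw [← Equiv.Perm.lcm_cycleType, hct]
    exact Multiset.lcm_dvd.mpr fun a ha => by rw [Multiset.eq_of_mem_replicate ha]
  · show ((X N (typ σ) b : ℚ) : ℂ) ≠ 0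
    rw [hσ]
    exact_mod_cast hne

end Cfsg.Agent.Bead29
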