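import Cfsg.Agent.Bead29.Sorted

/-!
# Runner counts and the rank on the `p`-regular classes

The configurations with given runner counts are tuples of configurations, one for each runner; the
span of the `p`-regular columns on them has as dimension the number of `(p - 1)`-tuples of partitions.
-/

set_option autoImplicit false

namespace Cfsg.Agent.Bead29

open Finset Function

variable {N : ℕ}

/-- The number of entries in each residue class. -/
def cnt (p : ℕ) (b : Fin N → ℕ) : Fin p → ℕ := fun r =>
  (Finset.univ.filter fun i => b i % p = (r : ℕ)).card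

theorem cnt_congr {p : ℕ} {b c : Fin N → ℕ} (h : ∀ i, b i % p = c i % p) : cnt p b = cnt p c := by
  funext r; simp only [cnt, h]

theorem cnt_update {p : ℕ} (b : Fin N → ℕ) (i : Fin N) {v : ℕ} (hv : v % p = b i % p) :
    cnt p (update b i v) = cnt p b := by
  refine cnt_congr fun l => ?_
  rcases eq_or_ne l i with rfl | hl
  · rw [update_self, hv]
  · rw [update_of_ne hl]

theorem cnt_comp {p : ℕ} (b : Fin N → ℕ) (π : Equiv.Perm (Fin N)) : cnt p (b ∘ π) = cnt p b := by
  funext r
  refine Finset.card_bij' (fun i _ => π i) (fun i _ => π.symm i) ?_ ?_ ?_ ?_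
  all_goals intro i hi
  all_goals simp only [mem_filter, mem_univ, true_and, comp_apply] at hi ⊢
  all_goals simp [hi]

theorem sum_cnt {p : ℕ} (hp : 0 < p) (b : Fin N → ℕ) : ∑ r, cnt p b r = N := by
  have h := Finset.card_eq_sum_card_fiberwise (f := fun i => (⟨b i % p, Nat.mod_lt _ hp⟩ : Fin p))
    (s := (Finset.univ : Finset (Fin N))) (t := Finset.univ) (fun i _ => mem_univ _)
  rw [card_univ, Fintype.card_fin] at h
  refine Eq.trans ?_ h.symm
  refine Finset.sum_congr rfl fun r _ => ?_
  simp [cnt, Fin.ext_iff]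

/-- The least degree with given runner counts. -/
def baseK {p : ℕ} (c : Fin p → ℕ) : ℕ := ∑ r : Fin p, (c r * (r : ℕ) + p * base (c r))

theorem sum_card_lt (s : Finset (Fin N)) :
    ∑ i ∈ s, (s.filter fun l => l < i).card = base s.card := by
  rw [base_eq_sum_range]
  induction s using Finset.induction_on_max with
  | empty => simp
  | insert a s hlt ih =>
    have hnm : a ∉ s := fun h => lt_irrefl a (hlt a h)
    rw [card_insert_of_notMem hnm, sum_insert hnm, sum_range_succ, ← ih, add_comm]
    congr 1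
    · refine Finset.sum_congr rfl fun i hi => ?_
      rw [Finset.filter_insert, if_neg (lt_asymm (hlt i hi))]
    · rw [Finset.filter_insert, if_neg (lt_irrefl a), Finset.filter_true_of_mem hlt]

theorem deg_coreOf {p : ℕ} (hp : 0 < p) (b : Fin N → ℕ) :
    deg (coreOf p b) = baseK (cnt p b) := by
  unfold deg baseK coreOf
  rw [← Finset.sum_fiberwise (s := Finset.univ) (fun i => (⟨b i % p, Nat.mod_lt _ hp⟩ : Fin p))]
  refine Finset.sum_congr rfl fun r _ => ?_
  have hfib : (Finset.univ.filter fun i => (⟨b i % p, Nat.mod_lt _ hp⟩ : Fin p) = r) =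
      Finset.univ.filter fun i => b i % p = (r : ℕ) := by
    refine Finset.filter_congr fun i _ => ?_
    simp [Fin.ext_iff]
  rw [hfib, Finset.sum_add_distrib, Finset.sum_congr rfl (g := fun _ => (r : ℕ))
    (fun i hi => (Finset.mem_filter.mp hi).2), Finset.sum_const, smul_eq_mul, ← Finset.mul_sum]
  congr 2
  rw [cnt, ← sum_card_lt]
  refine Finset.sum_congr rfl fun i hi => ?_
  congr 1
  ext l
  simp only [mem_filter, mem_univ, true_and] at hi ⊢
  rw [hi]
  exact and_comm

/-- Configurations with given runner counts. -/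
def cfgK (N E : ℕ) {p : ℕ} (c : Fin p → ℕ) : Finset (Fin N → ℕ) :=
  (cfg N E).filter fun b => cnt p b = c

theorem mem_cfgK {E p : ℕ} {c : Fin p → ℕ} {b : Fin N → ℕ} :
    b ∈ cfgK N E c ↔ (deg b = E ∧ StrictMono b) ∧ cnt p b = c := by
  simp [cfgK, mem_cfg]

/-- Finite sets with given cardinality and sum. -/
def sets (c E : ℕ) : Finset (Finset ℕ) := (cfg c E).image fun g => Finset.univ.image g

theorem mem_sets {c E : ℕ} {T : Finset ℕ} :
    T ∈ sets c E ↔ T.card = c ∧ ∑ x ∈ T, x = E := by
  simp only [sets, mem_image, mem_cfg]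
  constructor
  · rintro ⟨g, ⟨hd, hs⟩, rfl⟩
    exact ⟨by rw [card_image_of_injective _ hs.injective, card_univ, Fintype.card_fin],
      by rw [sum_image_eq_deg hs.injective, hd]⟩
  · rintro ⟨hc, hE⟩
    refine ⟨T.orderEmbOfFin hc, ⟨?_, (T.orderEmbOfFin hc).strictMono⟩, ?_⟩
    · rw [← sum_image_eq_deg (T.orderEmbOfFin hc).injective, Finset.image_orderEmbOfFin_univ, hE]
    · exact Finset.image_orderEmbOfFin_univ T hc

theorem card_sets {c e : ℕ} (h : e ≤ c) : (sets c (base c + e)).card = partCount e := by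
  rw [sets, card_image_of_injOn, card_cfg_eq_card_mono, card_mono h]
  intro g hg g' hg' e'
  simp only [mem_coe, mem_cfg] at hg hg'
  refine (hg.2.range_inj hg'.2).mp ?_
  have := congrArg (fun s : Finset ℕ => (s : Set ℕ)) e'
  simpa using this

theorem image_filter_orderEmb (S : Finset ℕ) (h : S.card = N) (P : ℕ → Prop) [DecidablePred P] :
    (Finset.univ.filter fun i => P (S.orderEmbOfFin h i)).image (S.orderEmbOfFin h) = S.filter P := by
  ext x
  simp only [mem_image, mem_filter, mem_univ, true_and]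
  constructor
  · rintro ⟨i, hi, rfl⟩
    exact ⟨Finset.orderEmbOfFin_mem S h i, hi⟩
  · rintro ⟨hx, hP⟩
    rw [← Finset.image_orderEmbOfFin_univ S h, mem_image] at hx
    obtain ⟨i, -, rfl⟩ := hx
    exact ⟨i, hP, rfl⟩

theorem card_cfgK {p : ℕ} (hp : 0 < p) (c : Fin p → ℕ) (hc : ∑ r, c r = N) (w : ℕ)
    (hw : ∀ r, w ≤ c r) : (cfgK N (baseK c + p * w) c).card = pp p w := by
  classical
  set U := (slice p w).biUnion fun e => Fintype.piFinset fun r => sets (c r) (base (c r) + e r)
    with hU
  have hUcard : U.card = pp p w := by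
    rw [hU, Finset.card_biUnion]
    · refine Finset.sum_congr rfl fun e he => ?_
      rw [Fintype.card_piFinset]
      refine Finset.prod_congr rfl fun r _ => card_sets ?_
      have := Finset.single_le_sum (f := e) (fun l _ => Nat.zero_le _) (mem_univ r)
      have h2 : ∑ l, e l = w := mem_slice.mp he
      have := hw r
      omega
    · intro e _ e' _ hne
      refine Finset.disjoint_left.mpr fun T h1 h2 => hne (funext fun r => ?_)
      have a := (mem_sets.mp (Fintype.mem_piFinset.mp h1 r)).2
      have b := (mem_sets.mp (Fintype.mem_piFinset.mp h2 r)).2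
      omega
  rw [← hUcard]
  have hsumT : ∀ T : Fin p → Finset ℕ, ∀ r : Fin p,
      ∑ x ∈ (T r).image (fun q => (r : ℕ) + p * q), x =
        (T r).card * (r : ℕ) + p * ∑ q ∈ T r, q := by
    intro T r
    rw [Finset.sum_image, Finset.sum_add_distrib, Finset.sum_const, smul_eq_mul, Finset.mul_sum]
    exact fun x _ y _ h => Nat.eq_of_mul_eq_mul_left hp (by omega)
  have hres : ∀ (r : Fin p) (q : ℕ), ((r : ℕ) + p * q) % p = r := fun r q => by
    rw [Nat.add_mul_mod_self_left, Nat.mod_eq_of_lt r.2]
  have hquo : ∀ (r : Fin p) (q : ℕ), ((r : ℕ) + p * q) / p = q := fun r q => by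
    rw [Nat.add_mul_div_left _ _ hp, Nat.div_eq_of_lt r.2, zero_add]
  let glue : (Fin p → Finset ℕ) → Finset ℕ := fun T =>
    Finset.univ.biUnion fun r : Fin p => (T r).image fun q => (r : ℕ) + p * q
  let split : (Fin N → ℕ) → (Fin p → Finset ℕ) := fun b r =>
    (Finset.univ.filter fun i => b i % p = (r : ℕ)).image fun i => b i / p
  have hglue : ∀ T : Fin p → Finset ℕ, (∀ r, (T r).card = c r) →
      (glue T).card = N ∧ ∑ x ∈ glue T, x = ∑ r : Fin p, (c r * (r : ℕ) + p * ∑ q ∈ T r, q) := by
    intro T hT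
    have hd : ((Finset.univ : Finset (Fin p)) : Set (Fin p)).PairwiseDisjoint
        fun r => (T r).image fun q => (r : ℕ) + p * q := by
      intro r _ r' _ hne
      refine Finset.disjoint_left.mpr fun x h1 h2 => hne ?_
      simp only [mem_image] at h1 h2
      obtain ⟨q, -, rfl⟩ := h1
      obtain ⟨q', -, hq⟩ := h2
      have := congrArg (· % p) hq
      simp only [hres] at this
      exact Fin.ext this.symm
    refine ⟨?_, ?_⟩
    · show (Finset.univ.biUnion _).card = N
      rw [Finset.card_biUnion hd, ← hc]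
      refine Finset.sum_congr rfl fun r _ => ?_
      rw [card_image_of_injective _ fun x y h => Nat.eq_of_mul_eq_mul_left hp (by simpa using h), hT]
    · show ∑ x ∈ Finset.univ.biUnion _, x = _
      rw [Finset.sum_biUnion hd]
      exact Finset.sum_congr rfl fun r _ => by rw [hsumT, hT]
  have hsplit : ∀ b : Fin N → ℕ, Injective b → cnt p b = c →
      (∀ r, (split b r).card = c r) ∧ glue (split b) = Finset.univ.image b := by
    intro b hb hbc
    refine ⟨fun r => ?_, ?_⟩
    · show ((Finset.univ.filter fun i => b i % p = (r : ℕ)).image fun i => b i / p).card = c r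
      rw [card_image_of_injOn, ← hbc]
      · rfl
      · intro i hi l hl e
        simp only [coe_filter, Set.mem_ofPred_eq, mem_univ, true_and] at hi hl
        refine hb ?_
        simp only at e
        rw [← Nat.div_add_mod (b i) p, ← Nat.div_add_mod (b l) p, hi, hl, e]
    · ext x
      simp only [glue, split, mem_biUnion, mem_univ, true_and, mem_image, mem_filter]
      constructor
      · rintro ⟨r, q, ⟨i, hi, rfl⟩, rfl⟩
        exact ⟨i, by rw [← hi, Nat.mod_add_div]⟩
      · rintro ⟨i, rfl⟩
        exact ⟨⟨b i % p, Nat.mod_lt _ hp⟩, b i / p, ⟨i, rfl, rfl⟩, Nat.mod_add_div _ _⟩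
  have hmemU : ∀ {T : Fin p → Finset ℕ}, T ∈ U →
      (∀ r, (T r).card = c r) ∧
        ∑ r : Fin p, (c r * (r : ℕ) + p * ∑ q ∈ T r, q) = baseK c + p * w := by
    intro T hT
    rw [hU, mem_biUnion] at hT
    obtain ⟨e, he, hT⟩ := hT
    have h := fun r => mem_sets.mp (Fintype.mem_piFinset.mp hT r)
    refine ⟨fun r => (h r).1, ?_⟩
    have h2 : ∑ l, e l = w := mem_slice.mp he
    unfold baseK
    rw [← h2, Finset.mul_sum, ← Finset.sum_add_distrib]
    exact Finset.sum_congr rfl fun r _ => by rw [(h r).2]; ring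
  refine Finset.card_bij' (fun b _ => split b)
    (fun T hT => (glue T).orderEmbOfFin (hglue T (hmemU hT).1).1) ?_ ?_ ?_ ?_
  · intro b hb
    obtain ⟨⟨hd, hs⟩, hbc⟩ := mem_cfgK.mp hb
    obtain ⟨h1, h2⟩ := hsplit b hs.injective hbc
    have h3 := (hglue (split b) h1).2
    rw [h2, sum_image_eq_deg hs.injective, hd] at h3
    have hle : ∀ r, base (c r) ≤ ∑ q ∈ split b r, q := fun r => by
      rw [base_eq_sum_range, ← h1 r]; exact sum_range_card_le _
    refine Finset.mem_biUnion.mpr
      ⟨fun r => (∑ q ∈ split b r, q) - base (c r), mem_slice.mpr ?_,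
        Fintype.mem_piFinset.mpr fun r => mem_sets.mpr ⟨h1 r, by simp only []; have := hle r; omega⟩⟩
    refine Nat.eq_of_mul_eq_mul_left hp ?_
    rw [deg, Finset.mul_sum]
    have h4 : ∑ r : Fin p, (c r * (r : ℕ) + p * ∑ q ∈ split b r, q) =
        baseK c + ∑ r : Fin p, p * ((∑ q ∈ split b r, q) - base (c r)) := by
      unfold baseK
      rw [← Finset.sum_add_distrib]
      refine Finset.sum_congr rfl fun r _ => ?_
      rw [Nat.mul_sub]
      have := Nat.mul_le_mul_left p (hle r)
      omega
    omega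
  · intro T hT
    obtain ⟨h1, h2⟩ := hmemU hT
    obtain ⟨g1, g2⟩ := hglue T h1
    refine mem_cfgK.mpr ⟨⟨?_, ((glue T).orderEmbOfFin g1).strictMono⟩, ?_⟩
    · rw [← sum_image_eq_deg ((glue T).orderEmbOfFin g1).injective,
        Finset.image_orderEmbOfFin_univ, g2, h2]
    · funext r
      rw [← h1 r, cnt, ← card_image_of_injective _ ((glue T).orderEmbOfFin g1).injective,
        ← card_image_of_injective (T r) (f := fun q => (r : ℕ) + p * q)
          fun x y h => Nat.eq_of_mul_eq_mul_left hp (by simpa using h)]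
      congr 1
      rw [image_filter_orderEmb (glue T) g1 (fun x => x % p = (r : ℕ))]
      ext x
      simp only [glue, mem_filter, mem_biUnion, mem_univ, true_and, mem_image]
      constructor
      · rintro ⟨⟨r', q, hq, rfl⟩, h⟩
        rw [hres] at h
        rw [Fin.ext h] at hq ⊢
        exact ⟨q, hq, rfl⟩
      · rintro ⟨q, hq, rfl⟩
        exact ⟨⟨r, q, hq, rfl⟩, hres r q⟩
  · intro b hb
    obtain ⟨⟨hd, hs⟩, hbc⟩ := mem_cfgK.mp hb
    obtain ⟨h1, h2⟩ := hsplit b hs.injective hbc
    refine (Finset.orderEmbOfFin_unique _ (fun i => ?_) hs).symm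
    rw [h2]
    exact mem_image_of_mem _ (mem_univ i)
  · intro T hT
    obtain ⟨h1, -⟩ := hmemU hT
    obtain ⟨g1, -⟩ := hglue T h1
    funext r
    show ((Finset.univ.filter fun i => (glue T).orderEmbOfFin g1 i % p = (r : ℕ)).image
      fun i => (glue T).orderEmbOfFin g1 i / p) = T r
    rw [show (fun i => (glue T).orderEmbOfFin g1 i / p) =
      (fun x => x / p) ∘ ((glue T).orderEmbOfFin g1) from rfl, ← Finset.image_image,
      image_filter_orderEmb (glue T) g1 (fun x => x % p = (r : ℕ))]
    ext q
    simp only [glue, mem_image, mem_filter, mem_biUnion, mem_univ, true_and]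
    constructor
    · rintro ⟨x, ⟨⟨r', q', hq', rfl⟩, h⟩, rfl⟩
      rw [hres] at h
      rw [hquo]
      rwa [← Fin.ext h]
    · intro hq
      exact ⟨(r : ℕ) + p * q, ⟨⟨r, q, hq, rfl⟩, hres r q⟩, hquo r q⟩

theorem exists_weight_cnt {p : ℕ} (hp : 0 < p) {b : Fin N → ℕ} (hb : StrictMono b) :
    ∃ w, deg b = baseK (cnt p b) + p * w := by
  obtain ⟨w, c, -, hw, -⟩ := exists_weight hp (RS.of_strictMono (p := p) hb)
  exact ⟨w, by rw [hw, deg_coreOf hp]⟩

theorem le_cnt {p n : ℕ} (hp : 0 < p) (hN : p * n + n ≤ N) {b : Fin N → ℕ} (hb : Injective b)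
    (hd : deg b ≤ base N + n) (r : Fin p) : n ≤ cnt p b r := by
  have hv : ∀ q : Fin n, ∃ i, b i = (r : ℕ) + p * q := fun q => by
    refine exists_eq_of_deg_le hb hd ?_
    have h1 := r.2
    have h2 : p * ((q : ℕ) + 1) ≤ p * n := Nat.mul_le_mul_left p q.2
    rw [Nat.mul_add, mul_one] at h2
    omega
  choose f hf using hv
  have hinj : Injective f := by
    intro q q' e
    have := congrArg b e
    rw [hf, hf] at this
    exact Fin.ext (Nat.eq_of_mul_eq_mul_left hp (by omega))
  have h := Finset.card_le_card (s := Finset.univ.image f)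
    (t := Finset.univ.filter fun i => b i % p = (r : ℕ)) fun i hi => by
      obtain ⟨q, -, rfl⟩ := mem_image.mp hi
      simp [hf, Nat.add_mul_mod_self_left, Nat.mod_eq_of_lt r.2]
  rwa [card_image_of_injective _ hinj, card_univ, Fintype.card_fin] at h

end Cfsg.Agent.Bead29
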