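import Cfsg.Agent.Bead29.Content
import Cfsg.Agent.Bead29.Runners

/-!
# Characters fixed by the sign twist

If the twist of a character by the sign is the character itself, its configuration is symmetrical
about the middle of the range `2 * N`.
-/

set_option autoImplicit false

namespace Cfsg.Agent.Bead29

open Finset Function

variable {N n : ℕ}

theorem sign_typ (σ : Equiv.Perm (Fin n)) :
    ((Equiv.Perm.sign σ : ℤˣ) : ℤ) = (-1) ^ (n + Multiset.card (typ σ)) := by
  rw [Equiv.Perm.sign_of_cycleType, typ, Equiv.Perm.parts_partition, Multiset.card_add,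
    Multiset.card_replicate, Fintype.card_fin, Units.val_pow_eq_pow_val, Units.val_neg,
    Units.val_one, Equiv.Perm.sum_cycleType, neg_one_pow_eq_pow_mod_two,
    neg_one_pow_eq_pow_mod_two (n := n + _)]
  have h := σ.support.card_le_univ
  rw [Fintype.card_fin] at h
  congr 1
  omega

theorem cast_sign (σ : Equiv.Perm (Fin n)) {R : Type*} [Ring R] :
    (((Equiv.Perm.sign σ : ℤˣ) : ℤ) : R) = (-1) ^ (n + Multiset.card (typ σ)) := by
  rw [sign_typ]; simp

/-- Twisting by the sign alternates the signs of the coefficients of the content polynomial. -/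
theorem contentPoly_twist {b b' : Fin N → ℕ} (hb : b ∈ cfg N (base N + n))
    (hb' : b' ∈ cfg N (base N + n))
    (h : ∀ σ : Equiv.Perm (Fin n),
      X N (typ σ) b' = (((Equiv.Perm.sign σ : ℤˣ) : ℤ) : ℚ) * X N (typ σ) b) (k : ℕ) :
    (contentPoly b').coeff k = (-1) ^ (n + k) * (contentPoly b).coeff k := by
  obtain ⟨hd, hs⟩ := mem_cfg.mp hb
  obtain ⟨hd', hs'⟩ := mem_cfg.mp hb'
  have h1 := sum_X_card_eq hd hs k
  have h2 := sum_X_card_eq hd' hs' k
  have e : X N (typ (1 : Equiv.Perm (Fin n))) b' = X N (typ (1 : Equiv.Perm (Fin n))) b := by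
    rw [h]; simp
  have hl : ∑ σ : Equiv.Perm (Fin n), (if Multiset.card (typ σ) = k then X N (typ σ) b' else 0) =
      (-1 : ℚ) ^ (n + k) *
        ∑ σ : Equiv.Perm (Fin n), (if Multiset.card (typ σ) = k then X N (typ σ) b else 0) := by
    rw [Finset.mul_sum]
    refine Finset.sum_congr rfl fun σ _ => ?_
    split_ifs with hc
    · rw [h, cast_sign, hc]
    · rw [mul_zero]
  rw [h1, h2, e] at hl
  have hne : X N (typ (1 : Equiv.Perm (Fin n))) b ≠ 0 := by
    have : typ (1 : Equiv.Perm (Fin n)) = Multiset.replicate n 1 := by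
      simp [typ, Equiv.Perm.parts_partition]
    rw [this]
    exact (X_ones_pos hs hd).ne'
  have h3 : (((contentPoly b').coeff k : ℤ) : ℚ) =
      (((-1) ^ (n + k) * (contentPoly b).coeff k : ℤ) : ℚ) := by
    refine mul_left_cancel₀ hne (hl.trans ?_)
    push_cast; ring
  exact_mod_cast h3

/-- A symmetrical configuration: exactly one of `x` and `2 * N - 1 - x` occurs. -/
def Sym (b : Fin N → ℕ) : Prop :=
  (∀ i, b i < 2 * N) ∧ ∀ x < 2 * N, ((∃ i, b i = x) ↔ ¬ ∃ i, b i = 2 * N - 1 - x)

open Polynomial in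
theorem sym_of_coeff {b : Fin N → ℕ} (hb : b ∈ cfg N (base N + n))
    (h : ∀ k, (contentPoly b).coeff k = (-1) ^ (n + k) * (contentPoly b).coeff k) : Sym b := by
  classical
  obtain ⟨hd, hs⟩ := mem_cfg.mp hb
  set H : Multiset ℤ :=
    ∑ i : Fin N, (Finset.Ico (i : ℕ) (b i)).val.map (fun m : ℕ => (m : ℤ)) with hH
  set R : Multiset ℤ := H.map (fun x => (N : ℤ) - (x + 1)) with hR
  have hP : contentPoly b = (R.map fun a => Polynomial.X - Polynomial.C a).prod := by
    rw [hR, hH]
    simp only [contentPoly, map_finsetSum, Multiset.prod_sum, Multiset.map_map]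
    refine Finset.prod_congr rfl fun i _ => ?_
    refine Finset.prod_congr rfl fun m _ => ?_
    rw [comp_apply, sub_eq_add_neg (Polynomial.X : ℤ[X]), ← Polynomial.C_neg]
    congr 2
    simp
  have hRc : Multiset.card R = n := by
    rw [← Polynomial.natDegree_multiset_prod_X_sub_C_eq_card R, ← hP, contentPoly_natDegree hd hs]
  have hQ : (R.map fun a => Polynomial.X - Polynomial.C a).prod =
      ((R.map Neg.neg).map fun a => Polynomial.X - Polynomial.C a).prod := by
    have e : (R.map Neg.neg).map (fun a : ℤ => Polynomial.X - Polynomial.C a) =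
        R.map fun a => Polynomial.X + Polynomial.C a := by
      rw [Multiset.map_map (g := fun a : ℤ => Polynomial.X - Polynomial.C a) (f := Neg.neg)]
      exact Multiset.map_congr rfl fun a _ => by simp
    rw [e]
    ext k
    by_cases hk : k ≤ Multiset.card R
    · have h' := h k
      rw [hP, Multiset.prod_X_sub_C_coeff R hk, hRc] at h'
      rw [Multiset.prod_X_sub_C_coeff R hk, Multiset.prod_X_add_C_coeff R hk, hRc, h', ← mul_assoc,
        ← pow_add]
      rw [show n + k + (n - k) = 2 * n by omega, pow_mul]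
      simp
    · have h1 : ((R.map fun a => Polynomial.X - Polynomial.C a).prod).natDegree < k := by
        rw [Polynomial.natDegree_multiset_prod_X_sub_C_eq_card]; omega
      have h2 : ((R.map fun a => Polynomial.X + Polynomial.C a).prod).natDegree < k := by
        rw [Polynomial.natDegree_multiset_prod_of_monic _ (fun f hf => by
          obtain ⟨a, -, rfl⟩ := Multiset.mem_map.mp hf
          exact Polynomial.monic_X_add_C a), Multiset.map_map]
        simp only [comp_def, Polynomial.natDegree_X_add_C, Multiset.map_const',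
          Multiset.sum_replicate, smul_eq_mul, mul_one]
        omega
      rw [Polynomial.coeff_eq_zero_of_natDegree_lt h1, Polynomial.coeff_eq_zero_of_natDegree_lt h2]
  have hneg : R = R.map Neg.neg := by
    have := congrArg Polynomial.roots hQ
    rwa [Polynomial.roots_multiset_prod_X_sub_C, Polynomial.roots_multiset_prod_X_sub_C] at this
  have hHneg : H.map (fun x => 2 * (N : ℤ) - 2 - x) = H := by
    refine Multiset.map_injective (f := fun x : ℤ => (N : ℤ) - (x + 1))
      (fun x y e => by simpa using e) ?_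
    show (H.map _).map _ = R
    rw [hneg, hR, Multiset.map_map, Multiset.map_map]
    refine Multiset.map_congr rfl fun x _ => ?_
    simp only [comp_apply]
    ring
  set S : (Fin N → ℕ) → Multiset ℤ := fun b => ∑ i : Fin N, {(b i : ℤ)} with hS
  set G : (Fin N → ℕ) → Multiset ℤ := fun b =>
    ∑ i : Fin N, (Multiset.range (b i)).map (fun m : ℕ => (m : ℤ)) with hG
  have hGH : G b = G (fun i => (i : ℕ)) + H := by
    rw [hG, hH, ← Finset.sum_add_distrib]
    refine Finset.sum_congr rfl fun i _ => ?_
    rw [← Finset.range_val, ← Finset.range_val, map_val_eq_sum, map_val_eq_sum, map_val_eq_sum]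
    exact (Finset.sum_range_add_sum_Ico _ (strictMono_le hs i)).symm
  have hkey : ∀ b : Fin N → ℕ, (G b).map (fun x => x + 1) + N • ({0} : Multiset ℤ) = G b + S b := by
    intro b
    rw [hS, hG, map_finsetSum, show N • ({0} : Multiset ℤ) = ∑ _i : Fin N, {0} by simp,
      ← Finset.sum_add_distrib, ← Finset.sum_add_distrib]
    refine Finset.sum_congr rfl fun i _ => ?_
    rw [Multiset.map_map]
    exact range_shift (b i)
  set S0 : Multiset ℤ := S fun i => (i : ℕ) with hS0
  set G0 : Multiset ℤ := G fun i => (i : ℕ) with hG0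
  have hA : S b + H = S0 + H.map (fun x => x + 1) := by
    have h1 := hkey b
    rw [hGH, Multiset.map_add] at h1
    have h0 : G0.map (fun x => x + 1) + N • ({0} : Multiset ℤ) = G0 + S0 := hkey _
    have h2 : G0 + (S0 + H.map (fun x => x + 1)) = G0 + (S b + H) := by
      calc G0 + (S0 + H.map (fun x => x + 1))
          = (G0.map (fun x => x + 1) + N • ({0} : Multiset ℤ)) + H.map (fun x => x + 1) := by
            rw [h0, add_assoc]
        _ = G0.map (fun x => x + 1) + H.map (fun x => x + 1) + N • ({0} : Multiset ℤ) := by abel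
        _ = G0 + H + S b := h1
        _ = G0 + (S b + H) := by abel
    exact (add_left_cancel h2).symm
  set ρ : ℤ → ℤ := fun x => 2 * (N : ℤ) - 1 - x with hρ
  have hρH : H.map ρ = H.map (fun x => x + 1) := by
    conv_lhs => rw [← hHneg, Multiset.map_map]
    refine Multiset.map_congr rfl fun x _ => ?_
    simp only [comp_apply, hρ]; ring
  have hρH1 : (H.map (fun x => x + 1)).map ρ = H := by
    conv_rhs => rw [← hHneg]
    rw [Multiset.map_map]
    refine Multiset.map_congr rfl fun x _ => ?_
    simp only [comp_apply, hρ]; ring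
  have hB : (S b).map ρ + H.map (fun x => x + 1) = S0.map ρ + H := by
    have := congrArg (Multiset.map ρ) hA
    rwa [Multiset.map_add, Multiset.map_add, hρH, hρH1] at this
  have hT : S b + (S b).map ρ = S0 + S0.map ρ := by
    refine add_right_cancel (b := H + H.map (fun x => x + 1)) ?_
    calc S b + (S b).map ρ + (H + H.map (fun x => x + 1))
        = (S b + H) + ((S b).map ρ + H.map (fun x => x + 1)) := by abel
      _ = (S0 + H.map (fun x => x + 1)) + (S0.map ρ + H) := by rw [hA, hB]
      _ = S0 + S0.map ρ + (H + H.map (fun x => x + 1)) := by abel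
  have hcnt : ∀ (c : Fin N → ℕ), Injective c → ∀ x : ℤ,
      (S c).count x = if ∃ i, (c i : ℤ) = x then 1 else 0 := by
    intro c hc x
    rw [hS, Multiset.count_sum']
    simp only [Multiset.count_singleton]
    split_ifs with hx
    · obtain ⟨i, rfl⟩ := hx
      rw [Finset.sum_eq_single i]
      · simp
      · intro j _ hj
        rw [if_neg fun e => hj (hc (by exact_mod_cast e.symm))]
      · simp
    · exact Finset.sum_eq_zero fun i _ => if_neg fun e => hx ⟨i, e.symm⟩
  have hρinj : Injective ρ := fun x y e => by simpa [hρ] using e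
  have hcntρ : ∀ (c : Fin N → ℕ), Injective c → ∀ x : ℤ,
      ((S c).map ρ).count x = if ∃ i, (c i : ℤ) = ρ x then 1 else 0 := by
    intro c hc x
    conv_lhs => rw [show x = ρ (ρ x) by simp [hρ]]
    rw [Multiset.count_map_eq_count' _ _ hρinj, hcnt c hc]
  have hid : Injective (fun i : Fin N => (i : ℕ)) := Fin.val_injective
  have hcount : ∀ x : ℤ, ((if ∃ i, (b i : ℤ) = x then 1 else 0) + if ∃ i, (b i : ℤ) = ρ x then 1 else 0) =
      ((if ∃ i : Fin N, ((i : ℕ) : ℤ) = x then 1 else 0) +
        if ∃ i : Fin N, ((i : ℕ) : ℤ) = ρ x then 1 else 0 : ℕ) := by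
    intro x
    have := congrArg (Multiset.count x) hT
    rwa [Multiset.count_add, Multiset.count_add, hcnt b hs.injective, hcntρ b hs.injective,
      hS0, hcnt _ hid, hcntρ _ hid] at this
  have hlt : ∀ i, b i < 2 * N := by
    intro i
    by_contra hi
    have := hcount (b i)
    rw [if_pos ⟨i, rfl⟩, if_neg (c := ∃ j : Fin N, ((j : ℕ) : ℤ) = (b i : ℤ)),
      if_neg (c := ∃ j : Fin N, ((j : ℕ) : ℤ) = ρ (b i))] at this
    · omega
    · rintro ⟨j, hj⟩; simp only [hρ] at hj; omega
    · rintro ⟨j, hj⟩; omega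
  refine ⟨hlt, fun x hx => ?_⟩
  have := hcount x
  have e1 : (∃ i, (b i : ℤ) = (x : ℤ)) ↔ ∃ i, b i = x := exists_congr fun i => Int.ofNat_inj
  have e2 : (∃ i, (b i : ℤ) = ρ x) ↔ ∃ i, b i = 2 * N - 1 - x := by
    refine exists_congr fun i => ?_
    simp only [hρ]
    omega
  have e3 : ((if ∃ i : Fin N, ((i : ℕ) : ℤ) = x then 1 else 0) +
      if ∃ i : Fin N, ((i : ℕ) : ℤ) = ρ x then 1 else 0 : ℕ) = 1 := by
    by_cases hxN : x < N
    · rw [if_pos ⟨⟨x, hxN⟩, rfl⟩, if_neg]
      rintro ⟨j, hj⟩
      simp only [hρ] at hj; omega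
    · rw [if_neg, if_pos ⟨⟨2 * N - 1 - x, by omega⟩, by simp only [hρ]; omega⟩]
      rintro ⟨j, hj⟩
      omega
  rw [e3] at this
  simp only [e1, e2] at this
  by_cases hx1 : ∃ i, b i = x
  · by_cases hx2 : ∃ i, b i = 2 * N - 1 - x
    · rw [if_pos hx1, if_pos hx2] at this; omega
    · exact ⟨fun _ => hx2, fun _ => hx1⟩
  · by_cases hx2 : ∃ i, b i = 2 * N - 1 - x
    · exact ⟨fun h => absurd h hx1, fun h => absurd hx2 h⟩
    · rw [if_neg hx1, if_neg hx2] at this; omega

end Cfsg.Agent.Bead29
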