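import Cfsg.Agent.Bead29.Frobenius

/-!
# The content polynomial

The sum of a character over the permutations, weighted by a variable to the number of cycles, is the
degree times a product of linear factors; modulo `p` the product determines the runner counts.
-/

set_option autoImplicit false

namespace Cfsg.Agent.Bead29

open Finset Function

variable {N n : ℕ}

/-- The coefficients of a power of a geometric series product. -/
def hfun (N M n : ℕ) : Fn N := fun a =>
  if deg a = n then ∏ i, ((Nat.multichoose M (a i) : ℕ) : ℚ) else 0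

theorem mul_multichoose {M : ℕ} (hM : 1 ≤ M) (a : ℕ) :
    a * Nat.multichoose M a = M * ∑ t ∈ range a, Nat.multichoose M t := by
  induction a with
  | zero => simp
  | succ a ih =>
    obtain ⟨m, rfl⟩ : ∃ m, M = m + 1 := ⟨M - 1, by omega⟩
    have h1 : (a + 1) * Nat.multichoose (m + 1) (a + 1) =
        (m + 1 + a) * Nat.multichoose (m + 1) a := by
      rw [Nat.multichoose_eq, Nat.multichoose_eq, show m + 1 + (a + 1) - 1 = m + a + 1 by omega,
        show m + 1 + a - 1 = m + a by omega, show m + 1 + a = m + a + 1 by omega,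
        Nat.add_one_mul_choose_eq, mul_comm]
    rw [h1, Finset.sum_range_succ, Nat.mul_add, ← ih]
    ring

theorem hfun_rec (N : ℕ) {M : ℕ} (hM : 1 ≤ M) (n : ℕ) :
    (n : ℚ) • hfun N M n = ∑ k ∈ Finset.Icc 1 n, (M : ℚ) • up k (hfun N M (n - k)) := by
  funext a
  simp only [Pi.smul_apply, smul_eq_mul, Finset.sum_apply, up_apply]
  simp only [Finset.mul_sum]
  rw [Finset.sum_comm]
  by_cases hd : deg a = n
  · have hterm : ∀ i : Fin N, ∀ k ∈ Finset.Icc 1 n,
        (M : ℚ) * (if k ≤ a i then hfun N M (n - k) (update a i (a i - k)) else 0) =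
          if k ≤ a i then (∏ l ∈ Finset.univ.erase i, ((Nat.multichoose M (a l) : ℕ) : ℚ)) *
            ((M : ℚ) * ((Nat.multichoose M (a i - k) : ℕ) : ℚ)) else 0 := by
      intro i k hk
      split_ifs with h
      · rw [hfun, if_pos]
        · rw [← Finset.mul_prod_erase _ _ (mem_univ i), update_self,
            Finset.prod_congr rfl fun l hl => by rw [update_of_ne (Finset.ne_of_mem_erase hl)]]
          ring
        · have := deg_update a i (a i - k)
          omega
      · simp
    rw [Finset.sum_congr rfl fun i _ => Finset.sum_congr rfl (hterm i)]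
    have hin : ∀ i : Fin N, ∑ k ∈ Finset.Icc 1 n, (if k ≤ a i then
        (∏ l ∈ Finset.univ.erase i, ((Nat.multichoose M (a l) : ℕ) : ℚ)) *
            ((M : ℚ) * ((Nat.multichoose M (a i - k) : ℕ) : ℚ)) else 0) =
        (a i : ℚ) * ∏ l, ((Nat.multichoose M (a l) : ℕ) : ℚ) := by
      intro i
      have hai : a i ≤ n := hd ▸ Finset.single_le_sum (fun l _ => Nat.zero_le _) (mem_univ i)
      rw [← Finset.sum_filter, ← Finset.mul_sum, ← Finset.mul_sum,
        ← Finset.mul_prod_erase _ (fun l => ((Nat.multichoose M (a l) : ℕ) : ℚ)) (mem_univ i)]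
      have hs : ∑ k ∈ (Finset.Icc 1 n).filter (· ≤ a i), Nat.multichoose M (a i - k) =
          ∑ t ∈ range (a i), Nat.multichoose M t := by
        refine Finset.sum_bij' (fun k _ => a i - k) (fun t _ => a i - t) ?_ ?_ ?_ ?_ ?_
        all_goals intro x hx
        all_goals simp only [mem_filter, mem_Icc, mem_range] at hx ⊢
        all_goals omega
      have key : (M : ℚ) * ∑ k ∈ (Finset.Icc 1 n).filter (· ≤ a i),
          ((Nat.multichoose M (a i - k) : ℕ) : ℚ) = (a i : ℚ) * (Nat.multichoose M (a i) : ℕ) := by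
        rw [← Nat.cast_sum, hs]
        exact_mod_cast (mul_multichoose hM (a i)).symm
      rw [key]; ring
    rw [Finset.sum_congr rfl fun i _ => hin i, ← Finset.sum_mul, ← Nat.cast_sum, hfun, if_pos hd]
    rw [show ∑ i, a i = n from hd]
  · rw [hfun, if_neg hd, mul_zero]
    symm
    refine Finset.sum_eq_zero fun i _ => Finset.sum_eq_zero fun k hk => ?_
    split_ifs with h
    · rw [hfun, if_neg, mul_zero]
      have := deg_update a i (a i - k)
      have := (Finset.mem_Icc.mp hk).2
      omega
    · simp

theorem sum_pm_smul (N : ℕ) {M : ℕ} (hM : 1 ≤ M) (n : ℕ) :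
    ∑ μ ∈ pm n, ((M : ℚ) ^ Multiset.card μ / (zW μ : ℚ)) • upM μ (e0 N) = hfun N M n := by
  induction n using Nat.strong_induction_on with
  | _ n ih =>
    rcases Nat.eq_zero_or_pos n with rfl | hn
    · have h0 : pm 0 = {0} := by
        ext μ
        rw [mem_pm, Finset.mem_singleton]
        refine ⟨fun ⟨h1, h2⟩ => ?_, fun h => by subst h; simp⟩
        by_contra h
        obtain ⟨a, ha⟩ := Multiset.exists_mem_of_ne_zero h
        have := Multiset.le_sum_of_mem ha
        have := h2 a ha
        omega
      rw [h0, Finset.sum_singleton, Multiset.card_zero, pow_zero, zW_zero, Nat.cast_one, div_one,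
        one_smul, upM_zero]
      funext a
      unfold hfun e0
      by_cases ha : a = 0
      · subst ha; simp [deg]
      · rw [if_neg ha, if_neg]
        intro h
        exact ha (funext fun i => by
          have := Finset.single_le_sum (f := a) (fun l _ => Nat.zero_le _) (mem_univ i)
          simp only [deg] at h
          simp only [Pi.zero_apply]
          omega)
    · have hne : (n : ℚ) ≠ 0 := by exact_mod_cast hn.ne'
      refine smul_right_injective (Fn N) hne ?_
      simp only []
      rw [hfun_rec N hM n, Finset.sum_congr rfl (g := fun k => ∑ ν ∈ pm (n - k),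
        ((M : ℚ) * ((M : ℚ) ^ Multiset.card ν / (zW ν : ℚ))) • upM (k ::ₘ ν) (e0 N)) fun k hk => by
        rw [← ih (n - k) (by have := (Finset.mem_Icc.mp hk).1; omega), map_sum, Finset.smul_sum]
        refine Finset.sum_congr rfl fun ν _ => ?_
        rw [map_smul, smul_smul, upM_cons]]
      rw [Finset.smul_sum]
      have hsplit : ∀ μ ∈ pm n,
          (n : ℚ) • (((M : ℚ) ^ Multiset.card μ / (zW μ : ℚ)) • upM μ (e0 N)) =
          ∑ k ∈ μ.toFinset, ((M : ℚ) * ((M : ℚ) ^ Multiset.card (μ.erase k) /
            (zW (μ.erase k) : ℚ))) • upM (k ::ₘ μ.erase k) (e0 N) := by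
        intro μ hμ
        obtain ⟨hs, hp⟩ := mem_pm.mp hμ
        have hk : ∀ k ∈ μ.toFinset, ((M : ℚ) * ((M : ℚ) ^ Multiset.card (μ.erase k) /
            (zW (μ.erase k) : ℚ))) • upM (k ::ₘ μ.erase k) (e0 N) =
            (((k * μ.count k : ℕ) : ℚ) * ((M : ℚ) ^ Multiset.card μ / (zW μ : ℚ))) •
              upM μ (e0 N) := by
          intro k hk
          rw [Multiset.mem_toFinset] at hk
          rw [Multiset.cons_erase hk]
          congr 1
          have hz : zW μ = k * μ.count k * zW (μ.erase k) := by
            conv_lhs => rw [← Multiset.cons_erase hk, zW_cons, Multiset.count_erase_self]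
            have := Multiset.one_le_count_iff_mem.mpr hk
            rw [show μ.count k - 1 + 1 = μ.count k by omega]
          have hc : Multiset.card μ = Multiset.card (μ.erase k) + 1 := by
            conv_lhs => rw [← Multiset.cons_erase hk, Multiset.card_cons]
          have h2 : ((zW (μ.erase k) : ℕ) : ℚ) ≠ 0 := by
            exact_mod_cast (zW_pos fun a ha => hp a (Multiset.mem_of_mem_erase ha)).ne'
          have h3 : ((k * μ.count k : ℕ) : ℚ) ≠ 0 := by
            have := hp k hk
            have := Multiset.one_le_count_iff_mem.mpr hk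
            exact_mod_cast (Nat.mul_pos (by omega) (by omega)).ne'
          rw [hz, hc, pow_succ]
          push_cast at h3 ⊢
          field_simp
          rw [div_self h3]
        rw [Finset.sum_congr rfl hk, ← Finset.sum_smul, ← Finset.sum_mul, ← Nat.cast_sum,
          smul_smul]
        congr 2
        norm_cast
        conv_lhs => rw [← hs, Finset.sum_multiset_count]
        exact Finset.sum_congr rfl fun k _ => by rw [smul_eq_mul, mul_comm]
      rw [Finset.sum_congr rfl hsplit, Finset.sum_sigma', Finset.sum_sigma']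
      refine Finset.sum_bij' (fun x _ => ⟨x.2, x.1.erase x.2⟩)
        (fun y _ => ⟨y.1 ::ₘ y.2, y.1⟩) ?_ ?_ ?_ ?_ ?_
      · rintro ⟨μ, k⟩ hx
        simp only [mem_sigma, Multiset.mem_toFinset] at hx
        obtain ⟨hμ, hk⟩ := hx
        obtain ⟨hs, hp⟩ := mem_pm.mp hμ
        have := Multiset.le_sum_of_mem hk
        have := hp k hk
        simp only [mem_sigma, mem_Icc]
        refine ⟨by omega, mem_pm.mpr ⟨?_, fun a ha => hp a (Multiset.mem_of_mem_erase ha)⟩⟩
        have := Multiset.sum_erase hk
        omega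
      · rintro ⟨k, ν⟩ hy
        simp only [mem_sigma, mem_Icc] at hy
        obtain ⟨hk, hν⟩ := hy
        obtain ⟨hs, hp⟩ := mem_pm.mp hν
        simp only [mem_sigma, Multiset.mem_toFinset]
        refine ⟨mem_pm.mpr ⟨by rw [Multiset.sum_cons, hs]; omega, ?_⟩, Multiset.mem_cons_self _ _⟩
        intro a ha
        rcases Multiset.mem_cons.mp ha with rfl | ha
        · omega
        · exact hp a ha
      · rintro ⟨μ, k⟩ hx
        simp only [mem_sigma, Multiset.mem_toFinset] at hx
        simp only [Multiset.cons_erase hx.2]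
      · rintro ⟨k, ν⟩ _
        simp
      · rintro ⟨μ, k⟩ _
        rfl

/-- The entries of the binomial matrix. -/
def entry (M b j : ℕ) : ℚ := if j ≤ b then ((Nat.multichoose M (b - j) : ℕ) : ℚ) else 0

theorem entry_diff (M b j : ℕ) : entry (M + 1) b j - entry (M + 1) b (j + 1) = entry M b j := by
  unfold entry
  rcases lt_trichotomy j b with h | h | h
  · rw [if_pos h.le, if_pos (by omega), if_pos h.le, show b - j = (b - (j + 1)) + 1 by omega,
      Nat.multichoose_succ_succ]
    push_cast; ring
  · subst h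
    rw [if_pos le_rfl, if_neg (by omega), if_pos le_rfl]
    simp
  · rw [if_neg (by omega), if_neg (by omega), if_neg (by omega), sub_zero]

theorem entry_eq_sum (M q b : ℕ) : ∀ j, entry M b j =
    ∑ t ∈ range (q + 1), (-1 : ℚ) ^ t * (q.choose t : ℚ) * entry (M + q) b (j + t) := by
  induction q with
  | zero => intro j; simp
  | succ q ih =>
    intro j
    rw [ih j]
    have h1 : ∀ t, entry (M + q) b (j + t) =
        entry (M + (q + 1)) b (j + t) - entry (M + (q + 1)) b (j + (t + 1)) := fun t => by
      rw [← Nat.add_assoc M q 1, ← Nat.add_assoc j t 1]; exact (entry_diff _ _ _).symm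
    simp only [h1, mul_sub, Finset.sum_sub_distrib]
    rw [Finset.sum_range_succ' (fun t => (-1 : ℚ) ^ t * ((q + 1).choose t : ℚ) *
      entry (M + (q + 1)) b (j + t)) (q + 1)]
    simp only [Nat.choose_succ_succ, Nat.cast_add, mul_add, add_mul, Finset.sum_add_distrib,
      pow_succ, pow_zero, Nat.choose_zero_right, Nat.cast_one, one_mul, Nat.add_zero]
    have h2 : ∑ t ∈ range (q + 1), (-1 : ℚ) ^ t * -1 * (q.choose (t + 1) : ℚ) *
        entry (M + (q + 1)) b (j + (t + 1)) + entry (M + (q + 1)) b j =
        ∑ t ∈ range (q + 1), (-1 : ℚ) ^ t * (q.choose t : ℚ) * entry (M + (q + 1)) b (j + t) := by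
      rw [Finset.sum_range_succ' (fun t => (-1 : ℚ) ^ t * (q.choose t : ℚ) *
        entry (M + (q + 1)) b (j + t)) q, Finset.sum_range_succ _ q, Nat.choose_succ_self]
      simp [pow_succ]
    have h3 : ∑ t ∈ range (q + 1), (-1 : ℚ) ^ t * -1 * (q.choose t : ℚ) *
        entry (M + (q + 1)) b (j + (t + 1)) =
        -∑ t ∈ range (q + 1), (-1 : ℚ) ^ t * (q.choose t : ℚ) *
          entry (M + (q + 1)) b (j + (t + 1)) := by
      rw [← Finset.sum_neg_distrib]
      exact Finset.sum_congr rfl fun t _ => by ring
    rw [← h2, h3]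
    ring

theorem factorial_ratio (K : ℕ) {i b : ℕ} (h : i ≤ b) :
    ((b + K).factorial : ℚ) =
      ((K + i).factorial : ℚ) * ∏ m ∈ Finset.Ico i b, ((K : ℚ) + (m : ℚ) + 1) := by
  induction b, h using Nat.le_induction with
  | base => simp [add_comm]
  | succ b hb ih =>
    rw [Finset.prod_Ico_succ_top hb, ← mul_assoc, ← ih, show b + 1 + K = b + K + 1 by omega,
      Nat.factorial_succ]
    push_cast; ring

/-- The constant of the content identity. -/
def cst (n : ℕ) (b : Fin N → ℕ) : ℚ :=
  (n.factorial : ℚ) * (Matrix.of fun i j : Fin N => (((b i).descFactorial j : ℕ) : ℚ)).det /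
    ∏ i, ((b i).factorial : ℚ)

theorem det_entry (K : ℕ) {b : Fin N → ℕ} (hb : StrictMono b) :
    (Matrix.of fun i j : Fin N => entry (K + N) (b i) j).det =
      (Matrix.of fun i j : Fin N => (((b i).descFactorial j : ℕ) : ℚ)).det /
        (∏ i, ((b i).factorial : ℚ)) *
      ∏ i : Fin N, ∏ m ∈ Finset.Ico (i : ℕ) (b i), ((K : ℚ) + (m : ℚ) + 1) := by
  set E' : Matrix (Fin N) (Fin N) ℚ := Matrix.of fun i j => entry (K + 1 + (j : ℕ)) (b i) j with hE'
  set T : Matrix (Fin N) (Fin N) ℚ := Matrix.of fun l j =>
    if (j : ℕ) ≤ l then (-1 : ℚ) ^ ((l : ℕ) - j) * ((N - 1 - (j : ℕ)).choose ((l : ℕ) - j) : ℚ)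
    else 0 with hT
  have hmul : E' = (Matrix.of fun i j : Fin N => entry (K + N) (b i) j) * T := by
    ext i j
    rw [Matrix.mul_apply]
    simp only [hE', hT, Matrix.of_apply, mul_ite, mul_zero]
    rw [Fin.sum_univ_eq_sum_range (fun l => if (j : ℕ) ≤ l then entry (K + N) (b i) l *
        ((-1 : ℚ) ^ (l - (j : ℕ)) * ((N - 1 - (j : ℕ)).choose (l - (j : ℕ)) : ℚ)) else 0) N,
      ← Finset.sum_range_add_sum_Ico _ j.2.le,
      Finset.sum_eq_zero (fun l hl => if_neg (by have := Finset.mem_range.mp hl; omega)), zero_add,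
      Finset.sum_Ico_eq_sum_range, entry_eq_sum (K + 1 + (j : ℕ)) (N - 1 - (j : ℕ)) (b i) j,
      show N - 1 - (j : ℕ) + 1 = N - j by have := j.2; omega,
      show K + 1 + (j : ℕ) + (N - 1 - (j : ℕ)) = K + N by have := j.2; omega]
    refine Finset.sum_congr rfl fun t _ => ?_
    rw [if_pos (by omega), show (j : ℕ) + t - j = t by omega]
    ring
  have hTdet : T.det = 1 := by
    rw [Matrix.det_of_lowerTriangular _ fun i j (hij : i < j) => by
      simp only [hT, Matrix.of_apply]
      exact if_neg (by have : (i : ℕ) < j := hij; omega)]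
    refine Finset.prod_eq_one fun i _ => ?_
    simp [hT]
  have hdet : (Matrix.of fun i j : Fin N => entry (K + N) (b i) j).det = E'.det := by
    rw [hmul, Matrix.det_mul, hTdet, mul_one]
  have hent : ∀ i j : Fin N, ((b i).factorial : ℚ) * (((K + (j : ℕ)).factorial : ℚ) * E' i j) =
      (((b i + K).factorial : ℕ) : ℚ) * (((b i).descFactorial j : ℕ) : ℚ) := by
    intro i j
    simp only [hE', Matrix.of_apply, entry]
    split_ifs with h
    · rw [Nat.multichoose_eq, show K + 1 + (j : ℕ) + (b i - j) - 1 = K + b i by omega]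
      have h1 := Nat.choose_mul_factorial_mul_factorial (show b i - j ≤ K + b i by omega)
      rw [show K + b i - (b i - j) = K + j by omega] at h1
      have h2 := Nat.factorial_mul_descFactorial h
      norm_cast
      rw [← h2, show b i + K = K + b i by omega, ← h1]
      ring
    · rw [Nat.descFactorial_eq_zero_iff_lt.mpr (by omega)]
      simp
  have h4 : (∏ i, ((b i).factorial : ℚ)) * ((∏ j : Fin N, ((K + (j : ℕ)).factorial : ℚ)) * E'.det) =
      (∏ i, (((b i + K).factorial : ℕ) : ℚ)) *
        (Matrix.of fun i j : Fin N => (((b i).descFactorial j : ℕ) : ℚ)).det := by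
    rw [← Matrix.det_mul_row, ← Matrix.det_mul_column, ← Matrix.det_mul_column]
    congr 1
    ext i j
    simp only [Matrix.of_apply]
    exact hent i j
  have h5 : (∏ i, (((b i + K).factorial : ℕ) : ℚ)) =
      (∏ j : Fin N, ((K + (j : ℕ)).factorial : ℚ)) *
        ∏ i : Fin N, ∏ m ∈ Finset.Ico (i : ℕ) (b i), ((K : ℚ) + (m : ℚ) + 1) := by
    rw [← Finset.prod_mul_distrib]
    exact Finset.prod_congr rfl fun i _ => factorial_ratio K (strictMono_le hb i)
  rw [h5] at h4
  have hP : (∏ j : Fin N, ((K + (j : ℕ)).factorial : ℚ)) ≠ 0 :=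
    Finset.prod_ne_zero_iff.mpr fun j _ => by exact_mod_cast Nat.factorial_ne_zero _
  have hB : (∏ i, ((b i).factorial : ℚ)) ≠ 0 :=
    Finset.prod_ne_zero_iff.mpr fun j _ => by exact_mod_cast Nat.factorial_ne_zero _
  rw [hdet, eq_comm, div_mul_eq_mul_div, div_eq_iff hB]
  apply mul_left_cancel₀ hP
  linear_combination -h4

theorem sum_X_pow {b : Fin N → ℕ} (hd : deg b = base N + n) (hs : StrictMono b) (K : ℕ)
    (hKN : 1 ≤ K + N) :
    ∑ σ : Equiv.Perm (Fin n), X N (typ σ) b * ((K + N : ℕ) : ℚ) ^ Multiset.card (typ σ) =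
      cst n b * ∏ i : Fin N, ∏ m ∈ Finset.Ico (i : ℕ) (b i), ((K : ℚ) + (m : ℚ) + 1) := by
  rw [sum_perm (fun μ => X N μ b * ((K + N : ℕ) : ℚ) ^ Multiset.card μ)]
  have h1 : ∑ μ ∈ pm n, (n.factorial : ℚ) / (zW μ : ℚ) *
      (X N μ b * ((K + N : ℕ) : ℚ) ^ Multiset.card μ) = (n.factorial : ℚ) *
      ∑ π : Equiv.Perm (Fin N), ((Equiv.Perm.sign π : ℤ) : ℚ) *
        shift (fun i => ((π i : Fin N) : ℕ)) (hfun N (K + N) n) b := by
    rw [← sum_pm_smul N hKN n, Finset.mul_sum]
    simp only [X_eq_sum, Finset.sum_mul, Finset.mul_sum]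
    rw [Finset.sum_comm]
    refine Finset.sum_congr rfl fun π _ => ?_
    unfold shift
    split_ifs with h
    · rw [Finset.sum_apply, Finset.mul_sum, Finset.mul_sum]
      refine Finset.sum_congr rfl fun μ _ => ?_
      simp only [Pi.smul_apply, smul_eq_mul]
      ring
    · simp
  rw [h1, cst, mul_div_assoc, mul_assoc]
  congr 1
  rw [← det_entry K hs, ← Matrix.det_transpose, Matrix.det_apply']
  refine Finset.sum_congr rfl fun π _ => ?_
  simp only [Matrix.transpose_apply, Matrix.of_apply]
  congr 1
  unfold shift entry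
  rw [Finset.prod_ite_zero]
  simp only [mem_univ, true_implies]
  split_ifs with h
  · have hdeg : deg (b - fun i => ((π i : Fin N) : ℕ)) + base N = deg b := by
      unfold deg base
      rw [← Equiv.sum_comp π (fun i : Fin N => (i : ℕ)), ← Finset.sum_add_distrib]
      exact Finset.sum_congr rfl fun i _ => Nat.sub_add_cancel (h i)
    rw [hfun, if_pos (by omega)]
    exact Finset.prod_congr rfl fun i _ => rfl
  · rfl

open Polynomial in
/-- The content polynomial. -/
noncomputable def contentPoly (b : Fin N → ℕ) : ℤ[X] :=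
  ∏ i : Fin N, ∏ m ∈ Finset.Ico (i : ℕ) (b i), (Polynomial.X + Polynomial.C ((m : ℤ) + 1 - N))

theorem contentPoly_monic (b : Fin N → ℕ) : (contentPoly b).Monic :=
  Polynomial.monic_prod_of_monic _ _ fun _ _ =>
    Polynomial.monic_prod_of_monic _ _ fun _ _ => Polynomial.monic_X_add_C _

theorem contentPoly_natDegree {b : Fin N → ℕ} (hd : deg b = base N + n) (hs : StrictMono b) :
    (contentPoly b).natDegree = n := by
  unfold contentPoly
  rw [Polynomial.natDegree_prod_of_monic _ _ fun _ _ =>
    Polynomial.monic_prod_of_monic _ _ fun _ _ => Polynomial.monic_X_add_C _]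
  simp only [Polynomial.natDegree_prod_of_monic _ _ fun _ _ => Polynomial.monic_X_add_C _,
    Polynomial.natDegree_X_add_C, Finset.sum_const, Nat.card_Ico, smul_eq_mul, mul_one]
  have h1 : ∑ i : Fin N, (b i - (i : ℕ)) + base N = deg b := by
    unfold deg base
    rw [← Finset.sum_add_distrib]
    exact Finset.sum_congr rfl fun i _ => Nat.sub_add_cancel (strictMono_le hs i)
  omega

theorem typ_card_eq_iff (σ : Equiv.Perm (Fin n)) : Multiset.card (typ σ) = n ↔ σ = 1 := by
  constructor
  · intro h
    rw [← Equiv.Perm.cycleType_eq_zero]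
    obtain ⟨hs, hp⟩ := mem_pm.mp (typ_mem_pm σ)
    rw [typ, Equiv.Perm.parts_partition, Multiset.card_add, Multiset.card_replicate,
      Fintype.card_fin] at h
    have h2 : Multiset.card σ.cycleType • 2 ≤ σ.cycleType.sum :=
      Multiset.card_nsmul_le_sum fun a ha => Equiv.Perm.two_le_of_mem_cycleType ha
    rw [smul_eq_mul, Equiv.Perm.sum_cycleType] at h2
    have h3 := σ.support.card_le_univ
    rw [Fintype.card_fin] at h3
    exact Multiset.card_eq_zero.mp (by omega)
  · rintro rfl
    simp [typ, Equiv.Perm.parts_partition]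

open Polynomial in
/-- Character sums over the permutations with a fixed number of cycles. -/
theorem sum_X_card_eq {b : Fin N → ℕ} (hd : deg b = base N + n) (hs : StrictMono b) (k : ℕ) :
    ∑ σ : Equiv.Perm (Fin n), (if Multiset.card (typ σ) = k then X N (typ σ) b else 0) =
      X N (typ (1 : Equiv.Perm (Fin n))) b * (((contentPoly b).coeff k : ℤ) : ℚ) := by
  set PL : ℚ[X] := ∑ σ : Equiv.Perm (Fin n),
    Polynomial.C (Bead29.X N (typ σ) b) * Polynomial.X ^ Multiset.card (typ σ) with hPL
  set PR : ℚ[X] := Polynomial.C (cst n b) * (contentPoly b).map (Int.castRingHom ℚ) with hPR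
  have heq : PL = PR := by
    refine Polynomial.eq_of_infinite_eval_eq _ _ (Set.infinite_of_injective_forall_mem
      (f := fun t : ℕ => ((t + 1 + N : ℕ) : ℚ)) (fun a c h => by simpa using h) fun t => ?_)
    show PL.eval _ = PR.eval _
    rw [hPL, hPR, Polynomial.eval_finsetSum]
    simp only [Polynomial.eval_mul, Polynomial.eval_C, Polynomial.eval_pow, Polynomial.eval_X]
    rw [sum_X_pow hd hs (t + 1) (by omega), contentPoly]
    simp only [Polynomial.map_prod, Polynomial.map_add, Polynomial.map_X, Polynomial.map_C,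
      Polynomial.eval_prod, Polynomial.eval_add, Polynomial.eval_X, Polynomial.eval_C]
    congr 1
    refine Finset.prod_congr rfl fun i _ => Finset.prod_congr rfl fun m _ => ?_
    simp only [eq_intCast]
    push_cast
    ring
  have hcoef : ∀ k, PL.coeff k =
      ∑ σ : Equiv.Perm (Fin n), if Multiset.card (typ σ) = k then Bead29.X N (typ σ) b else 0 := by
    intro k
    rw [hPL, Polynomial.finsetSum_coeff]
    refine Finset.sum_congr rfl fun σ _ => ?_
    rw [Polynomial.coeff_C_mul_X_pow]
    simp [eq_comm]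
  have hone : Bead29.X N (typ (1 : Equiv.Perm (Fin n))) b = cst n b := by
    have h1 := hcoef n
    rw [heq, hPR, Polynomial.coeff_C_mul, Polynomial.coeff_map] at h1
    have h2 : (contentPoly b).coeff n = 1 := by
      conv_lhs => rw [← contentPoly_natDegree hd hs]
      exact contentPoly_monic b
    rw [h2, map_one, mul_one, Finset.sum_eq_single (1 : Equiv.Perm (Fin n)) (fun σ _ hσ =>
      if_neg fun h => hσ ((typ_card_eq_iff σ).mp h)) (fun h => absurd (mem_univ _) h),
      if_pos ((typ_card_eq_iff _).mpr rfl)] at h1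
    exact h1.symm
  rw [← hcoef, heq, hPR, Polynomial.coeff_C_mul, Polynomial.coeff_map, hone]
  rfl

/-! ### Runner counts -/

/-- The residues of the entries. -/
def kap (p : ℕ) (b : Fin N → ℕ) : Multiset (ZMod p) := Finset.univ.val.map fun i => (b i : ZMod p)

theorem map_finsetSum {ι α β : Type*} (s : Finset ι) (f : ι → Multiset α) (g : α → β) :
    (∑ i ∈ s, f i).map g = ∑ i ∈ s, (f i).map g :=
  map_sum (Multiset.mapAddMonoidHom g) f s

theorem map_val_eq_sum {α β : Type*} (s : Finset α) (g : α → β) :
    s.val.map g = ∑ m ∈ s, ({g m} : Multiset β) := by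
  conv_lhs => rw [← Finset.sum_multiset_singleton s, map_finsetSum]
  simp

theorem range_shift {R : Type*} [AddMonoidWithOne R] (b : ℕ) :
    (Multiset.range b).map (fun m : ℕ => (m : R) + 1) + {0} =
      (Multiset.range b).map (fun m : ℕ => (m : R)) + {(b : R)} := by
  induction b with
  | zero => simp
  | succ b ih =>
    rw [Multiset.range_succ, Multiset.map_cons, Multiset.map_cons, Multiset.cons_add, ih,
      Multiset.cons_add]
    simp only [← Multiset.singleton_add, Nat.cast_succ]
    abel

open Polynomial in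
theorem kap_eq_of_map_eq {p : ℕ} [Fact p.Prime] {b c : Fin N → ℕ} (hb : StrictMono b)
    (hc : StrictMono c)
    (h : (contentPoly b).map (Int.castRingHom (ZMod p)) =
      (contentPoly c).map (Int.castRingHom (ZMod p))) :
    kap p b = kap p c := by
  set φ : ℕ → ZMod p := fun m => (N : ZMod p) - ((m : ZMod p) + 1) with hφ
  set H : (Fin N → ℕ) → Multiset (ZMod p) := fun b =>
    ∑ i : Fin N, (Finset.Ico (i : ℕ) (b i)).val.map (fun m : ℕ => (m : ZMod p)) with hH
  have hroots : ∀ b : Fin N → ℕ, ((contentPoly b).map (Int.castRingHom (ZMod p))).roots =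
      (H b).map (fun x => (N : ZMod p) - (x + 1)) := by
    intro b
    have h1 : (contentPoly b).map (Int.castRingHom (ZMod p)) =
        (((H b).map (fun x => (N : ZMod p) - (x + 1))).map fun a => Polynomial.X - Polynomial.C a).prod := by
      rw [hH]
      simp only [contentPoly, Polynomial.map_prod, map_finsetSum, Multiset.prod_sum,
        Multiset.map_map]
      refine Finset.prod_congr rfl fun i _ => ?_
      refine Finset.prod_congr rfl fun m _ => ?_
      rw [comp_apply, Polynomial.map_add, Polynomial.map_X, Polynomial.map_C,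
        sub_eq_add_neg (Polynomial.X : Polynomial (ZMod p)), ← Polynomial.C_neg]
      congr 2
      simp
    rw [h1, Polynomial.roots_multiset_prod_X_sub_C]
  have hHeq : H b = H c := by
    have := congrArg Polynomial.roots h
    rw [hroots, hroots] at this
    exact Multiset.map_injective (fun x y e => by simpa using e) this
  set G : (Fin N → ℕ) → Multiset (ZMod p) := fun b =>
    ∑ i : Fin N, (Multiset.range (b i)).map (fun m : ℕ => (m : ZMod p)) with hG
  have hGH : ∀ b : Fin N → ℕ, StrictMono b →
      G b = G (fun i => (i : ℕ)) + H b := by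
    intro b hb
    rw [hG, hH, ← Finset.sum_add_distrib]
    refine Finset.sum_congr rfl fun i _ => ?_
    rw [← Finset.range_val, ← Finset.range_val, map_val_eq_sum, map_val_eq_sum, map_val_eq_sum]
    exact (Finset.sum_range_add_sum_Ico _ (strictMono_le hb i)).symm
  have hGeq : G b = G c := by rw [hGH b hb, hGH c hc, hHeq]
  have hkey : ∀ b : Fin N → ℕ, (G b).map (fun x => x + 1) + N • ({0} : Multiset (ZMod p)) =
      G b + kap p b := by
    intro b
    have hk : kap p b = ∑ i : Fin N, ({(b i : ZMod p)} : Multiset (ZMod p)) := by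
      rw [kap, map_val_eq_sum]
    rw [hk, hG, map_finsetSum, show N • ({0} : Multiset (ZMod p)) = ∑ _i : Fin N, {0} by simp,
      ← Finset.sum_add_distrib, ← Finset.sum_add_distrib]
    refine Finset.sum_congr rfl fun i _ => ?_
    rw [Multiset.map_map]
    exact range_shift (b i)
  have h1 := hkey b
  rw [hGeq, hkey c] at h1
  exact (add_left_cancel h1).symm

end Cfsg.Agent.Bead29
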