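import Cfsg.Agent.Bead29.Counting
import Cfsg.Agent.Lib.CharCore.Virtual

/-!
# The Frobenius formula

The coefficients of the products of power sums at bead configurations are orthonormal virtual
characters of the symmetric group.
-/

set_option autoImplicit false

namespace Cfsg.Agent.Bead29

open Finset Function

variable {N n : ℕ}

/-- The cycle type with fixed points included. -/
def typ (σ : Equiv.Perm (Fin n)) : Multiset ℕ := σ.partition.parts

theorem typ_mem_pm (σ : Equiv.Perm (Fin n)) : typ σ ∈ pm n := by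
  rw [mem_pm]
  refine ⟨?_, fun a ha => σ.partition.parts_pos ha⟩
  have := σ.partition.parts_sum
  simpa [typ] using this

theorem typ_conj (σ τ : Equiv.Perm (Fin n)) : typ (τ * σ * τ⁻¹) = typ σ := by
  unfold typ
  rw [Equiv.Perm.partition_eq_of_isConj.mp (isConj_iff.mpr ⟨τ, rfl⟩ : IsConj σ (τ * σ * τ⁻¹))]

theorem typ_fibre {μ : Multiset ℕ} (hμ : μ ∈ pm n) :
    (Finset.univ.filter fun σ : Equiv.Perm (Fin n) => typ σ = μ).card * zW μ = n.factorial := by
  classical
  obtain ⟨hsum, hpos⟩ := mem_pm.mp hμ
  set m := μ.filter (2 ≤ ·) with hm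
  have hsplit : μ = m + Multiset.replicate (n - m.sum) 1 := by
    have h1 := Multiset.filter_add_not (p := (2 ≤ ·)) μ
    have h2 : μ.filter (fun a => ¬ 2 ≤ a) =
        Multiset.replicate (Multiset.card (μ.filter fun a => ¬ 2 ≤ a)) 1 :=
      Multiset.eq_replicate.mpr ⟨rfl, fun a ha => by
        have h3 := Multiset.mem_filter.mp ha
        have := hpos a h3.1
        omega⟩
    have h4 : m.sum + Multiset.card (μ.filter fun a => ¬ 2 ≤ a) = n := by
      have := congrArg Multiset.sum h1
      rw [Multiset.sum_add, h2, Multiset.sum_replicate, smul_eq_mul, mul_one, hsum] at this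
      exact this
    conv_lhs => rw [← h1, h2]
    rw [show n - m.sum = Multiset.card (μ.filter fun a => ¬ 2 ≤ a) by omega]
  have hge : ∀ a ∈ m, 2 ≤ a := fun a ha => (Multiset.mem_filter.mp ha).2
  have hle : m.sum ≤ n := by
    have := congrArg Multiset.sum hsplit
    rw [Multiset.sum_add, hsum] at this
    omega
  have hfib : (Finset.univ.filter fun σ : Equiv.Perm (Fin n) => typ σ = μ) =
      Finset.univ.filter fun σ => σ.cycleType = m := by
    refine Finset.filter_congr fun σ _ => ⟨fun h => ?_, fun h => ?_⟩
    · rw [← Equiv.Perm.filter_parts_partition_eq_cycleType, hm, ← h]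
      rfl
    · rw [typ, Equiv.Perm.parts_partition, h, hsplit, ← Equiv.Perm.sum_cycleType, h,
        Fintype.card_fin]
  have hc := Equiv.Perm.card_of_cycleType_mul_eq (Fin n) m
  rw [Fintype.card_fin, if_pos ⟨hle, hge⟩] at hc
  rw [hfib, ← hc]
  congr 1
  have h1m : m.count 1 = 0 := Multiset.count_eq_zero.mpr fun h => by have := hge 1 h; omega
  unfold zW
  conv_lhs => rw [hsplit]
  rw [Multiset.prod_add, Multiset.prod_replicate, one_pow, mul_one]
  have hcount : ∀ a, (m + Multiset.replicate (n - m.sum) 1).count a =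
      if a = 1 then n - m.sum else m.count a := by
    intro a
    rw [Multiset.count_add, Multiset.count_replicate]
    by_cases ha : a = 1
    · subst ha; simp [h1m]
    · rw [if_neg ha, if_neg (Ne.symm ha), add_zero]
  have hS : (m + Multiset.replicate (n - m.sum) 1).toFinset ⊆ insert 1 m.toFinset := by
    intro a ha
    rw [Multiset.mem_toFinset, Multiset.mem_add] at ha
    rcases ha with h | h
    · simp [h]
    · simp [Multiset.eq_of_mem_replicate h]
  rw [Finset.prod_subset hS fun a _ ha => by
    rw [Multiset.count_eq_zero.mpr fun h => ha (Multiset.mem_toFinset.mpr h)]; rfl]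
  rw [Finset.prod_insert fun h => by have := hge 1 (Multiset.mem_toFinset.mp h); omega, hcount,
    if_pos rfl, Finset.prod_congr rfl fun a ha => by
      rw [hcount, if_neg (by have := hge a (Multiset.mem_toFinset.mp ha); omega)]]
  ring

theorem exists_typ {μ : Multiset ℕ} (hμ : μ ∈ pm n) : ∃ σ : Equiv.Perm (Fin n), typ σ = μ := by
  by_contra h
  push Not at h
  have := typ_fibre hμ
  rw [Finset.filter_false_of_mem fun σ _ => h σ, card_empty, zero_mul] at this
  exact (Nat.factorial_ne_zero n) this.symm

theorem sum_perm (F : Multiset ℕ → ℚ) :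
    ∑ σ : Equiv.Perm (Fin n), F (typ σ) =
      ∑ μ ∈ pm n, (n.factorial : ℚ) / (zW μ : ℚ) * F μ := by
  classical
  rw [← Finset.sum_fiberwise_of_maps_to (g := typ) (t := pm n) (fun σ _ => typ_mem_pm σ)]
  refine Finset.sum_congr rfl fun μ hμ => ?_
  rw [Finset.sum_congr rfl fun σ hσ => by rw [(Finset.mem_filter.mp hσ).2], Finset.sum_const,
    nsmul_eq_mul]
  congr 1
  rw [eq_div_iff (by exact_mod_cast (zW_pos (mem_pm.mp hμ).2).ne')]
  exact_mod_cast typ_fibre hμ

/-- The coefficient of the power sum product at a configuration. -/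
def X (N : ℕ) (μ : Multiset ℕ) (b : Fin N → ℕ) : ℚ := upM μ (vac N) b

theorem sum_slice_eq (E : ℕ) {A B : Fn N} (hA : Alt A) (hB : Alt B) :
    ∑ b ∈ slice N E, A b * B b = (N.factorial : ℚ) * ∑ b ∈ cfg N E, A b * B b := by
  classical
  have h1 : ∑ b ∈ slice N E, A b * B b =
      ∑ b ∈ (slice N E).filter Injective, A b * B b := by
    refine (Finset.sum_subset (Finset.filter_subset _ _) fun b hb hn => ?_).symm
    have : ¬ Injective b := fun h => hn (Finset.mem_filter.mpr ⟨hb, h⟩)
    simp [hA.eq_zero this]
  have h2 : ∑ x ∈ cfg N E ×ˢ (Finset.univ : Finset (Equiv.Perm (Fin N))), A x.1 * B x.1 =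
      ∑ b ∈ (slice N E).filter Injective, A b * B b := by
    refine Finset.sum_bij (fun x _ => x.1 ∘ x.2) ?_ ?_ ?_ ?_
    · rintro ⟨b, π⟩ hx
      obtain ⟨hb, -⟩ := Finset.mem_product.mp hx
      obtain ⟨hd, hs⟩ := mem_cfg.mp hb
      exact Finset.mem_filter.mpr ⟨mem_slice.mpr (by rw [deg_comp_perm, hd]),
        hs.injective.comp π.injective⟩
    · rintro ⟨b, π⟩ hx ⟨c, ρ⟩ hy h
      simp only at h
      have hb := (mem_cfg.mp (Finset.mem_product.mp hx).1).2
      have hc := (mem_cfg.mp (Finset.mem_product.mp hy).1).2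
      have himg : Set.range b = Set.range c := by
        rw [← π.surjective.range_comp b, h, ρ.surjective.range_comp]
      have hbc : b = c := hb.range_inj hc |>.mp himg
      subst hbc
      have : π = ρ := Equiv.ext fun i => hb.injective (congrFun h i)
      rw [this]
    · intro c hc
      obtain ⟨hd, hi⟩ := Finset.mem_filter.mp hc
      refine ⟨(c ∘ Tuple.sort c, (Tuple.sort c)⁻¹), Finset.mem_product.mpr ⟨mem_cfg.mpr
        ⟨?_, ?_⟩, mem_univ _⟩, ?_⟩
      · rw [deg_comp_perm]; exact mem_slice.mp hd
      · exact (Tuple.monotone_sort c).strictMono_of_injective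
          (hi.comp (Tuple.sort c).injective)
      · funext i; simp
    · rintro ⟨b, π⟩ _
      simp only
      rw [hA, hB]
      have : ((Equiv.Perm.sign π : ℤ) : ℚ) * ((Equiv.Perm.sign π : ℤ) : ℚ) = 1 := by
        rw [← Int.cast_mul, ← Units.val_mul, Int.units_mul_self]; simp
      linear_combination (A b * B b) * (-this)
  rw [h1, ← h2, Finset.sum_product, Finset.mul_sum]
  refine Finset.sum_congr rfl fun b _ => ?_
  simp only []
  rw [Finset.sum_const, card_univ, Fintype.card_perm, Fintype.card_fin, nsmul_eq_mul]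

theorem ip_eq_sum_cfg (E : ℕ) {A B : Fn N} (hA : Alt A) (hB : Alt B) :
    ip E A B = ∑ b ∈ cfg N E, A b * B b := by
  rw [ip, sum_slice_eq E hA hB, mul_div_assoc, mul_div_cancel₀]
  exact_mod_cast Nat.factorial_ne_zero N

theorem vac_hom' : Hom (vac N) (base N + 0) := vac_hom

theorem col_orth (hN : n + n ≤ N) {μ ν : Multiset ℕ} (hμ : μ ∈ pm n) (hν : ν ∈ pm n) :
    ∑ b ∈ cfg N (base N + n), X N μ b * X N ν b = if μ = ν then (zW μ : ℚ) else 0 := by
  obtain ⟨h1, h2⟩ := mem_pm.mp hμ
  obtain ⟨h3, h4⟩ := mem_pm.mp hν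
  have h := ip_upM (r := vac N) vac_alt vac_hom' vac_killed μ ν
    (fun a ha => ⟨h2 a ha, h2 a ha⟩) h4 (by omega) (by omega)
  simp only [add_zero, h1, ip_vac, mul_one] at h
  rwa [ip_eq_sum_cfg _ (vac_alt.upM μ) (vac_alt.upM ν)] at h

theorem card_cfg_pm (hN : n ≤ N) : (cfg N (base N + n)).card = (pm n).card := by
  rw [card_cfg_eq_card_mono, card_mono hN, card_pm]

theorem row_orth (hN : n + n ≤ N) {b c : Fin N → ℕ} (hb : b ∈ cfg N (base N + n))
    (hc : c ∈ cfg N (base N + n)) :
    ∑ μ ∈ pm n, X N μ b * X N μ c / (zW μ : ℚ) = if b = c then 1 else 0 := by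
  classical
  let Mx : Matrix ↥(cfg N (base N + n)) ↥(pm n) ℚ := fun b μ => X N μ b
  let D : Matrix ↥(pm n) ↥(cfg N (base N + n)) ℚ := fun μ b => X N μ b / (zW (μ : Multiset ℕ) : ℚ)
  have h1 : D * Mx = 1 := by
    ext μ ν
    rw [Matrix.mul_apply, Matrix.one_apply]
    simp only [D, Mx]
    rw [Finset.sum_coe_sort (cfg N (base N + n))
      (fun b => X N μ b / (zW (μ : Multiset ℕ) : ℚ) * X N ν b)]
    rw [Finset.sum_congr rfl (g := fun b => X N μ b * X N ν b / (zW (μ : Multiset ℕ) : ℚ))
      fun b _ => by ring, ← Finset.sum_div, col_orth hN μ.2 ν.2]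
    have hz : ((zW (μ : Multiset ℕ) : ℕ) : ℚ) ≠ 0 := by
      exact_mod_cast (zW_pos (mem_pm.mp μ.2).2).ne'
    by_cases h : μ = ν
    · subst h; simp [hz]
    · rw [if_neg fun e => h (Subtype.ext e), if_neg h, zero_div]
  have h2 : Mx * D = 1 := (Matrix.mul_eq_one_comm_of_equiv
    (Fintype.equivOfCardEq (by simp [card_cfg_pm (show n ≤ N by omega)]))).mp h1
  have h3 := congrFun (congrFun h2 ⟨b, hb⟩) ⟨c, hc⟩
  rw [Matrix.mul_apply, Matrix.one_apply] at h3
  simp only [Mx, D] at h3
  rw [Finset.sum_coe_sort (pm n) (fun μ => X N μ b * (X N μ c / (zW μ : ℚ)))] at h3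
  simp only [Subtype.mk.injEq] at h3
  rw [← h3]
  exact Finset.sum_congr rfl fun μ _ => by ring

/-- The candidate character of a configuration. -/
noncomputable def chr (n : ℕ) (b : Fin N → ℕ) : Equiv.Perm (Fin n) → ℂ :=
  fun σ => ((X N (typ σ) b : ℚ) : ℂ)

theorem classInner_chr (hN : n + n ≤ N) {b c : Fin N → ℕ} (hb : b ∈ cfg N (base N + n))
    (hc : c ∈ cfg N (base N + n)) :
    Cfsg.classInner (chr n b) (chr n c) = if b = c then 1 else 0 := by
  unfold Cfsg.classInner chr
  simp only [map_ratCast, ← Rat.cast_mul, ← Rat.cast_sum]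
  rw [sum_perm (fun μ => X N μ b * X N μ c), Nat.card_eq_fintype_card, Fintype.card_perm,
    Fintype.card_fin]
  rw [Finset.sum_congr rfl (g := fun μ => (n.factorial : ℚ) * (X N μ b * X N μ c / (zW μ : ℚ)))
    fun μ _ => by ring, ← Finset.mul_sum, row_orth hN hb hc]
  have : (n.factorial : ℂ) ≠ 0 := by exact_mod_cast Nat.factorial_ne_zero n
  push_cast
  rw [← mul_assoc, inv_mul_cancel₀ this, one_mul]
  split_ifs <;> simp

/-! ### Generalized characters -/

/-- The indicator of the zero tuple. -/
def e0 (N : ℕ) : Fn N := fun b => if b = 0 then 1 else 0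

/-- Shift of the support by a tuple. -/
def shift (d : Fin N → ℕ) (A : Fn N) : Fn N := fun b => if ∀ i, d i ≤ b i then A (b - d) else 0

theorem up_shift (k : ℕ) (d : Fin N → ℕ) (A : Fn N) : up k (shift d A) = shift d (up k A) := by
  funext b
  unfold shift
  rw [up_apply]
  by_cases hd : ∀ i, d i ≤ b i
  · rw [if_pos hd, up_apply]
    refine Finset.sum_congr rfl fun i _ => ?_
    have hdi := hd i
    simp only [Pi.sub_apply]
    by_cases hk : k ≤ b i - d i
    · rw [if_pos (by omega), if_pos hk, if_pos]
      · congr 1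
        funext l
        by_cases hl : l = i
        · subst hl; simp; omega
        · simp [update_of_ne hl]
      · intro l
        by_cases hl : l = i
        · subst hl; simp; omega
        · simpa [update_of_ne hl] using hd l
    · rw [if_neg hk]
      by_cases hk' : k ≤ b i
      · rw [if_pos hk', if_neg]
        intro h
        have := h i
        simp at this
        omega
      · rw [if_neg hk']
  · rw [if_neg hd]
    refine Finset.sum_eq_zero fun i _ => ?_
    split_ifs with hk h
    · refine absurd (fun l => ?_) hd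
      have := h l
      by_cases hl : l = i
      · subst hl; simp at this; omega
      · simpa [update_of_ne hl] using this
    · rfl
    · rfl

theorem upM_shift (μ : Multiset ℕ) (d : Fin N → ℕ) (A : Fn N) :
    upM μ (shift d A) = shift d (upM μ A) := by
  induction μ using Multiset.induction with
  | empty => simp
  | cons k μ ih => rw [upM_cons, ih, up_shift, upM_cons]

theorem vac_eq_sum : vac N = ∑ π : Equiv.Perm (Fin N),
    (((Equiv.Perm.sign π : ℤ) : ℚ)) • shift (fun i => ((π i : Fin N) : ℕ)) (e0 N) := by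
  funext b
  rw [Finset.sum_apply]
  refine Finset.sum_congr rfl fun π _ => ?_
  simp only [Pi.smul_apply, smul_eq_mul, shift, e0]
  by_cases h : b = fun i => ((π i : Fin N) : ℕ)
  · subst h; simp
  · rw [if_neg h]
    split_ifs with h1 h2
    · exfalso
      refine h (funext fun i => ?_)
      have := congrFun h2 i
      have := h1 i
      simp at *
      omega
    · simp
    · simp

theorem X_eq_sum (μ : Multiset ℕ) (b : Fin N → ℕ) :
    X N μ b = ∑ π : Equiv.Perm (Fin N), ((Equiv.Perm.sign π : ℤ) : ℚ) *
      shift (fun i => ((π i : Fin N) : ℕ)) (upM μ (e0 N)) b := by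
  have h : upM μ (vac N) = ∑ π : Equiv.Perm (Fin N),
      (((Equiv.Perm.sign π : ℤ) : ℚ)) • shift (fun i => ((π i : Fin N) : ℕ)) (upM μ (e0 N)) := by
    conv_lhs => rw [vac_eq_sum]
    rw [show upM μ = ⇑(upL (N := N) μ) from rfl, map_sum]
    refine Finset.sum_congr rfl fun π _ => ?_
    rw [map_smul]
    congr 1
    exact upM_shift μ _ _
  simp [X, h, Finset.sum_apply]

/-- The number of colourings of parts with a given content. -/
theorem upM_e0_eq_card {m : ℕ} (sz : Fin m → ℕ) (a : Fin N → ℕ) :
    upM (Finset.univ.val.map sz) (e0 N) a =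
      ((Finset.univ.filter fun g : Fin m → Fin N =>
        ∀ i, (∑ q, if g q = i then sz q else 0) = a i).card : ℚ) := by
  induction m generalizing a with
  | zero =>
    rw [show (Finset.univ : Finset (Fin 0)).val.map sz = 0 from by simp, upM_zero, e0]
    by_cases ha : a = 0
    · subst ha; simp
    · rw [if_neg ha, Finset.filter_false_of_mem]
      · simp
      · intro g _ h
        exact ha (funext fun i => (h i).symm.trans (by simp))
  | succ m ih =>
    have hsz : (Finset.univ : Finset (Fin (m + 1))).val.map sz =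
        sz 0 ::ₘ (Finset.univ : Finset (Fin m)).val.map (sz ∘ Fin.succ) := by
      rw [Fin.univ_val_map, Fin.univ_val_map, List.ofFn_succ]
      rfl
    rw [hsz, upM_cons, up_apply]
    have hcard : (Finset.univ.filter fun g : Fin (m + 1) → Fin N =>
        ∀ i, (∑ q, if g q = i then sz q else 0) = a i).card =
        ∑ i₀ : Fin N, ((Finset.univ.filter fun g : Fin m → Fin N =>
          sz 0 ≤ a i₀ ∧ ∀ i, (∑ q, if g q = i then sz q.succ else 0) =
            update a i₀ (a i₀ - sz 0) i).card) := by
      rw [← Finset.card_sigma]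
      refine Finset.card_bij' (fun g _ => ⟨g 0, Fin.tail g⟩) (fun x _ => Fin.cons x.1 x.2)
        ?_ ?_ ?_ ?_
      · intro g hg
        simp only [mem_filter, mem_univ, true_and] at hg
        simp only [mem_sigma, mem_filter, mem_univ, true_and, Fin.tail]
        have h0 := hg (g 0)
        rw [Fin.sum_univ_succ] at h0
        rw [if_pos rfl] at h0
        refine ⟨by omega, fun i => ?_⟩
        have hi := hg i
        rw [Fin.sum_univ_succ] at hi
        rcases eq_or_ne i (g 0) with rfl | hne
        · rw [update_self]; rw [if_pos rfl] at hi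
          exact Nat.eq_sub_of_add_eq' hi
        · rw [if_neg (Ne.symm hne), zero_add] at hi
          rw [update_of_ne hne]; exact hi
      · rintro ⟨i₀, g⟩ hx
        simp only [mem_sigma, mem_filter, mem_univ, true_and] at hx
        simp only [mem_filter, mem_univ, true_and, Fin.sum_univ_succ, Fin.cons_zero, Fin.cons_succ]
        intro i
        rcases eq_or_ne i i₀ with rfl | hne
        · have := hx.2 i
          rw [update_self] at this
          rw [if_pos rfl]; omega
        · have := hx.2 i
          rw [update_of_ne hne] at this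
          rw [if_neg (Ne.symm hne), zero_add]; exact this
      · intro g _
        exact Fin.cons_self_tail g
      · rintro ⟨i₀, g⟩ _
        simp
    rw [hcard, Nat.cast_sum]
    refine Finset.sum_congr rfl fun i₀ _ => ?_
    by_cases h : sz 0 ≤ a i₀
    · rw [if_pos h, ih (sz ∘ Fin.succ)]
      simp [h]
    · rw [if_neg h]
      simp [h]

/-- Words with a given content. -/
abbrev Word (n : ℕ) (a : Fin N → ℕ) : Type :=
  {f : Fin n → Fin N // ∀ i, (Finset.univ.filter fun x => f x = i).card = a i}

/-- The permutation representation on words. -/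
noncomputable def wordRep (n : ℕ) (a : Fin N → ℕ) :
    Representation ℂ (Equiv.Perm (Fin n)) (Word n a → ℂ) where
  toFun σ := LinearMap.funLeft ℂ ℂ fun f : Word n a => ⟨f.1 ∘ σ, fun i => by
    rw [← f.2 i]
    exact Finset.card_bij' (fun x _ => σ x) (fun x _ => σ⁻¹ x) (by simp) (by simp) (by simp)
      (by simp)⟩
  map_one' := by ext F f; rfl
  map_mul' σ τ := by ext F f; rfl

theorem wordRep_character (a : Fin N → ℕ) (σ : Equiv.Perm (Fin n)) :
    (wordRep n a).character σ =
      ((Finset.univ.filter fun f : Word n a => f.1 ∘ ⇑σ = f.1).card : ℂ) := by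
  classical
  rw [Representation.character, LinearMap.trace_eq_matrix_trace ℂ (Pi.basisFun ℂ (Word n a)),
    Matrix.trace, Finset.card_filter, Nat.cast_sum]
  refine Finset.sum_congr rfl fun f _ => ?_
  rw [Matrix.diag_apply, LinearMap.toMatrix_apply, Pi.basisFun_repr, Pi.basisFun_apply]
  change (Pi.single f (1 : ℂ) : Word n a → ℂ) _ = _
  rw [Pi.single_apply]
  split_ifs with h1 h2 h2
  · simp
  · exact absurd (congrArg Subtype.val h1) h2
  · exact absurd (Subtype.ext h2) h1
  · simp

theorem card_fixed_words (σ : Equiv.Perm (Fin n)) (a : Fin N → ℕ) :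
    ((Finset.univ.filter fun f : Word n a => f.1 ∘ ⇑σ = f.1).card : ℚ) =
      upM (typ σ) (e0 N) a := by
  classical
  let Q := Quotient (Equiv.Perm.SameCycle.setoid σ)
  haveI : Fintype Q := Fintype.ofFinite Q
  let e := Fintype.equivFin Q
  let cls : Fin n → Fin (Fintype.card Q) := fun x => e (Quotient.mk'' x)
  have hcls : ∀ x y, cls x = cls y ↔ σ.SameCycle x y := fun x y => by
    simp only [cls, e.injective.eq_iff]
    exact ⟨fun h => Quotient.exact' h, fun h => Quotient.sound' h⟩
  have hsurj : Surjective cls := e.surjective.comp Quotient.mk''_surjective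
  let sz : Fin (Fintype.card Q) → ℕ := fun q => (Finset.univ.filter fun x => cls x = q).card
  have hpos : ∀ q, 0 < sz q := fun q => by
    obtain ⟨x, rfl⟩ := hsurj q
    exact Finset.card_pos.mpr ⟨x, by simp⟩
  have hsum : ∑ q, sz q = n := by
    rw [← Finset.card_eq_sum_card_fiberwise (fun x _ => mem_univ (cls x))]
    simp
  have hsupp : ∀ x, 2 ≤ sz (cls x) → σ x ≠ x := by
    intro x h hfix
    have hs : (Finset.univ.filter fun y => cls y = cls x) = {x} := by
      ext y
      simp only [mem_filter, mem_univ, true_and, mem_singleton, hcls]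
      exact ⟨fun h' => (h'.symm.eq_of_left hfix).symm, fun h' => h' ▸ Equiv.Perm.SameCycle.refl _ _⟩
    simp only [sz, hs, card_singleton] at h
    omega
  have hbig : (Finset.univ.val.map sz).filter (2 ≤ ·) = σ.cycleType := by
    have hsz : ∀ x, σ x ≠ x → sz (cls x) = (σ.cycleOf x).support.card := by
      intro x hx
      show (Finset.univ.filter fun y => cls y = cls x).card = _
      congr 1
      ext y
      simp only [mem_filter, mem_univ, true_and, hcls, Equiv.Perm.mem_support_cycleOf_iff]
      exact ⟨fun h => ⟨h.symm, Equiv.Perm.mem_support.mpr hx⟩, fun h => h.1.symm⟩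
    have him : (Finset.univ.filter fun q => 2 ≤ sz q).val.map sz = σ.cycleType := by
      rw [Equiv.Perm.cycleType_def]
      choose rep hrep using hsurj
      refine Multiset.map_eq_map_of_bij_of_nodup _ _ (Finset.nodup _) (Finset.nodup _)
        (fun q _ => σ.cycleOf (rep q)) ?_ ?_ ?_ ?_
      · intro q hq
        rw [Finset.mem_val, Equiv.Perm.cycleOf_mem_cycleFactorsFinset_iff, Equiv.Perm.mem_support]
        exact hsupp _ (by rw [hrep]; exact (Finset.mem_filter.mp (Finset.mem_val.mp hq)).2)
      · intro q₁ h₁ q₂ h₂ heq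
        rw [← hrep q₁, ← hrep q₂, hcls]
        have hx := hsupp (rep q₁) (by rw [hrep]; exact (Finset.mem_filter.mp (Finset.mem_val.mp h₁)).2)
        have : rep q₁ ∈ (σ.cycleOf (rep q₂)).support := by
          rw [← heq, Equiv.Perm.mem_support_cycleOf_iff]
          exact ⟨Equiv.Perm.SameCycle.refl _ _, Equiv.Perm.mem_support.mpr hx⟩
        exact (Equiv.Perm.mem_support_cycleOf_iff.mp this).1.symm
      · intro c hc
        rw [Finset.mem_val] at hc
        obtain ⟨x, hx⟩ : c.support.Nonempty :=
          (Equiv.Perm.mem_cycleFactorsFinset_iff.mp hc).1.nonempty_support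
        have hcx := Equiv.Perm.cycle_is_cycleOf hx hc
        have hmov : σ x ≠ x := Equiv.Perm.mem_support.mp
          (Equiv.Perm.mem_cycleFactorsFinset_support_le hc hx)
        have h2 : 2 ≤ sz (cls x) := by
          rw [hsz x hmov, ← hcx]
          exact (Equiv.Perm.mem_cycleFactorsFinset_iff.mp hc).1.two_le_card_support
        refine ⟨cls x, Finset.mem_val.mpr (Finset.mem_filter.mpr ⟨mem_univ _, h2⟩), ?_⟩
        rw [hcx]
        exact ((hcls _ _).mp (hrep (cls x))).cycleOf_eq
      · intro q hq
        show sz q = _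
        conv_lhs => rw [← hrep q]
        exact hsz _ (hsupp _ (by rw [hrep]; exact (Finset.mem_filter.mp (Finset.mem_val.mp hq)).2))
    rw [← him, Finset.filter_val, Multiset.filter_map]
    rfl
  have hM : Finset.univ.val.map sz = typ σ := by
    have h1 := Multiset.filter_add_not (p := (2 ≤ ·)) (Finset.univ.val.map sz)
    rw [hbig] at h1
    have h2 : (Finset.univ.val.map sz).filter (fun a => ¬ 2 ≤ a) = Multiset.replicate
        (Multiset.card ((Finset.univ.val.map sz).filter fun a => ¬ 2 ≤ a)) 1 := by
      refine Multiset.eq_replicate.mpr ⟨rfl, fun a ha => ?_⟩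
      obtain ⟨h3, h4⟩ := Multiset.mem_filter.mp ha
      obtain ⟨q, -, rfl⟩ := Multiset.mem_map.mp h3
      have := hpos q
      omega
    have h5 : (Finset.univ.val.map sz).sum = n := hsum
    have h6 := h5
    rw [← h1, h2, Multiset.sum_add, Multiset.sum_replicate, smul_eq_mul, mul_one,
      Equiv.Perm.sum_cycleType] at h6
    rw [← h1, h2, typ, Equiv.Perm.parts_partition, Fintype.card_fin]
    congr 2
    omega
  rw [← hM, upM_e0_eq_card]
  congr 1
  choose rep hrep using hsurj
  refine Finset.card_bij' (fun f _ => fun q => f.1 (rep q))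
    (fun g hg => ⟨g ∘ cls, fun i => ?_⟩) ?_ ?_ ?_ ?_
  · rw [← (Finset.mem_filter.mp hg).2 i, ← Finset.sum_filter,
      Finset.card_eq_sum_card_fiberwise (f := cls) (t := Finset.univ.filter fun q => g q = i)
        (fun x hx => by simpa using hx)]
    refine Finset.sum_congr rfl fun q hq => ?_
    congr 1
    ext x
    simp only [mem_filter, mem_univ, true_and, Function.comp_apply]
    exact ⟨fun h => h.2, fun h => ⟨h ▸ (Finset.mem_filter.mp hq).2, h⟩⟩
  · intro f hf
    simp only [mem_filter, mem_univ, true_and] at hf ⊢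
    intro i
    have hconst : ∀ x, f.1 (rep (cls x)) = f.1 x := by
      intro x
      have hsc : σ.SameCycle x (rep (cls x)) := ((hcls _ _).mp (hrep (cls x))).symm
      obtain ⟨k, -, hk⟩ := hsc.exists_pow_eq'
      rw [← hk]
      have : ∀ k : ℕ, f.1 ((σ ^ k) x) = f.1 x := fun k => by
        induction k with
        | zero => rfl
        | succ k ih =>
          rw [pow_succ', Equiv.Perm.mul_apply]
          exact (congrFun hf _).trans ih
      exact this k
    rw [← f.2 i, Finset.card_eq_sum_card_fiberwise (f := cls) (t := Finset.univ)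
      (fun x _ => mem_univ _)]
    refine Finset.sum_congr rfl fun q _ => ?_
    split_ifs with h
    · show (Finset.univ.filter fun x => cls x = q).card = _
      congr 1
      ext x
      simp only [mem_filter, mem_univ, true_and]
      exact ⟨fun hx => ⟨by rw [← hconst x, hx, h], hx⟩, fun hx => hx.2⟩
    · symm
      rw [Finset.card_eq_zero, Finset.filter_eq_empty_iff]
      intro x hx hxq
      exact h (by rw [← hxq, hconst x]; exact (Finset.mem_filter.mp hx).2)
  · intro g hg
    simp only [mem_filter, mem_univ, true_and]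
    funext x
    exact congrArg g ((hcls _ _).mpr (Equiv.Perm.sameCycle_apply_left.mpr
      (Equiv.Perm.SameCycle.refl _ _)))
  · intro f hf
    apply Subtype.ext
    funext x
    have hsc : σ.SameCycle x (rep (cls x)) := ((hcls _ _).mp (hrep (cls x))).symm
    obtain ⟨k, -, hk⟩ := hsc.exists_pow_eq'
    show f.1 (rep (cls x)) = f.1 x
    rw [← hk]
    have : ∀ k : ℕ, f.1 ((σ ^ k) x) = f.1 x := fun k => by
      induction k with
      | zero => rfl
      | succ k ih =>
        rw [pow_succ', Equiv.Perm.mul_apply]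
        exact (congrFun (Finset.mem_filter.mp hf).2 _).trans ih
    exact this k
  · intro g _
    funext q
    exact congrArg g (hrep q)

theorem isGeneralized_chr (b : Fin N → ℕ) :
    Cfsg.IsGeneralizedCharacter (Equiv.Perm (Fin n)) (chr n b) := by
  classical
  have h : chr n b = ∑ π : Equiv.Perm (Fin N),
      (((if (∀ i, ((π i : Fin N) : ℕ) ≤ b i) then (Equiv.Perm.sign π : ℤ) else 0 : ℤ)) : ℂ) •
        (wordRep n (b - fun i => ((π i : Fin N) : ℕ))).character := by
    funext σ
    simp only [chr, X_eq_sum, Finset.sum_apply, Pi.smul_apply, smul_eq_mul, Rat.cast_sum,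
      wordRep_character]
    refine Finset.sum_congr rfl fun π _ => ?_
    unfold shift
    split_ifs with h
    · rw [← card_fixed_words σ]
      push_cast
      ring
    · simp
  rw [h]
  exact CharCore.isGeneralized_sum _ _ fun π _ => CharCore.isGeneralized_intCast_smul
    (CharCore.IsCharacter.isGeneralized (CharCore.isCharacter_character _)) _

end Cfsg.Agent.Bead29
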