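import Cfsg.Agent.Bead29.Vdm
import Cfsg.Agent.Bead29.Alt
import Cfsg.Agent.S0908

/-!
# Heights in blocks of the symmetric groups
-/

set_option autoImplicit false

namespace Cfsg.Agent.Bead29

open Finset Function
open Cfsg.Agent.BlocksCore Cfsg.Agent.BlocksDefect

variable {N n p : ℕ}

/-- A configuration with prescribed runners. -/
theorem exists_config (hp : 0 < p) (T : Fin p → Finset ℕ) (hT : ∑ r, (T r).card = N) :
    ∃ b : Fin N → ℕ, StrictMono b ∧ ∀ r, run p b r = T r := by
  classical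
  set S := Finset.univ.biUnion fun r : Fin p => (T r).image fun q => (r : ℕ) + p * q with hS
  have hd : ((Finset.univ : Finset (Fin p)) : Set (Fin p)).PairwiseDisjoint
      fun r => (T r).image fun q => (r : ℕ) + p * q := by
    intro r _ r' _ hne
    refine Finset.disjoint_left.mpr fun x h1 h2 => hne ?_
    simp only [mem_image] at h1 h2
    obtain ⟨q, -, rfl⟩ := h1
    obtain ⟨q', -, hq⟩ := h2
    have := congrArg (· % p) hq
    simp only [Nat.add_mul_mod_self_left, Nat.mod_eq_of_lt r.2, Nat.mod_eq_of_lt r'.2] at this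
    exact Fin.ext this.symm
  have hc : S.card = N := by
    rw [hS, Finset.card_biUnion hd, ← hT]
    refine Finset.sum_congr rfl fun r _ => ?_
    rw [card_image_of_injective _ fun x y h => Nat.eq_of_mul_eq_mul_left hp (by simpa using h)]
  refine ⟨S.orderEmbOfFin hc, (S.orderEmbOfFin hc).strictMono, fun r => ?_⟩
  ext q
  rw [mem_run]
  constructor
  · rintro ⟨i, hi⟩
    have hm := Finset.orderEmbOfFin_mem S hc i
    rw [hi, hS, mem_biUnion] at hm
    obtain ⟨r', -, hq⟩ := hm
    obtain ⟨q', hq', e⟩ := mem_image.mp hq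
    have h1 := congrArg (· % p) e
    simp only [Nat.add_mul_mod_self_left, Nat.mod_eq_of_lt r.2, Nat.mod_eq_of_lt r'.2] at h1
    obtain rfl := Fin.ext h1
    rwa [Nat.eq_of_mul_eq_mul_left hp (Nat.add_left_cancel e)] at hq'
  · intro hq
    have hm : (r : ℕ) + p * q ∈ S :=
      mem_biUnion.mpr ⟨r, mem_univ r, mem_image.mpr ⟨q, hq, rfl⟩⟩
    rw [← Finset.image_orderEmbOfFin_univ S hc, mem_image] at hm
    obtain ⟨i, -, hi⟩ := hm
    exact ⟨i, hi⟩

/-- The excess of a runner. -/
def exc (p : ℕ) (b : Fin N → ℕ) (r : Fin p) : ℕ := (∑ q ∈ run p b r, q) - base (cnt p b r)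

theorem sum_run_eq {b : Fin N → ℕ} (hb : Injective b) (r : Fin p) :
    ∑ q ∈ run p b r, q = base (cnt p b r) + exc p b r :=
  (Nat.add_sub_cancel' (base_le_run hb r)).symm

theorem deg_eq_baseK (hp : 0 < p) {b : Fin N → ℕ} (hb : Injective b) :
    deg b = baseK (cnt p b) + p * ∑ r, exc p b r := by
  rw [deg_eq_sum_run hp hb, baseK, Finset.mul_sum, ← Finset.sum_add_distrib]
  exact Finset.sum_congr rfl fun r _ => by rw [sum_run_eq hb r, mul_add, add_assoc]

theorem hv_eq (hp : p.Prime) {b : Fin N → ℕ} (hb : Injective b) :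
    hv p (Finset.univ.image b) =
      (∑ r : Fin p, hv p (run p b r)) - ((∑ r, exc p b r : ℕ) : ℤ) := by
  rw [hv_eq_sum_run hp hb]
  push_cast
  rw [← Finset.sum_sub_distrib]
  refine Finset.sum_congr rfl fun r _ => ?_
  have h : (∑ q ∈ run p b r, (q : ℤ)) = ((base (cnt p b r) + exc p b r : ℕ) : ℤ) := by
    rw [← sum_run_eq hb r]; push_cast; rfl
  rw [h]; push_cast; ring

theorem hv_ge {T : Finset ℕ} {e : ℕ} (h : ∑ x ∈ T, x = base T.card + e) :
    -vp p e.factorial ≤ hv p T := by
  have hd : deg (T.orderEmbOfFin rfl) = base T.card + e := by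
    rw [← sum_image_eq_deg (T.orderEmbOfFin rfl).injective, Finset.image_orderEmbOfFin_univ, h]
  obtain ⟨d, -, -, hv'⟩ := exists_degree (p := p) hd (T.orderEmbOfFin rfl).strictMono
  rw [Finset.image_orderEmbOfFin_univ] at hv'
  have := vp_nonneg (p := p) d
  omega

theorem hv_eq_zero (hp : p.Prime) {T : Finset ℕ} {e : ℕ} (h : ∑ x ∈ T, x = base T.card + e)
    (he : e < p) : hv p T = 0 := by
  set b := T.orderEmbOfFin rfl with hb
  have hd : deg b = base T.card + e := by
    rw [← sum_image_eq_deg b.injective, Finset.image_orderEmbOfFin_univ, h]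
  have hle : base T.card ≤ baseK (cnt p b) := by
    rw [← deg_coreOf hp.pos]
    exact base_le_deg (coreOf_rs p hp.pos b).injective
  have hK := deg_eq_baseK (p := p) hp.pos (b := b) b.injective
  have hw : ∑ r, exc p b r = 0 := by
    by_contra hne
    have : p * 1 ≤ p * ∑ r, exc p b r := Nat.mul_le_mul_left p (Nat.one_le_iff_ne_zero.mpr hne)
    omega
  have hrun : ∀ r : Fin p, run p b r = range (cnt p b r) := by
    intro r
    have h0 : exc p b r = 0 := (Finset.sum_eq_zero_iff.mp hw) r (mem_univ r)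
    have hs := sum_run_eq b.injective r
    rw [h0, add_zero] at hs
    have hcr := card_run b.injective r
    set g := (run p b r).orderEmbOfFin hcr with hg
    have hdg : deg g = base (cnt p b r) := by
      rw [← sum_image_eq_deg g.injective, Finset.image_orderEmbOfFin_univ, hs]
    have hge := fun j => strictMono_le g.strictMono j
    have hsum : ∑ j : Fin (cnt p b r), ((j : ℕ)) = ∑ j, g j := hdg.symm
    have hid := fun j : Fin (cnt p b r) =>
      ((Finset.sum_eq_sum_iff_of_le fun j _ => hge j).mp hsum j (mem_univ j)).symm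
    rw [← Finset.image_orderEmbOfFin_univ _ hcr, ← hg]
    ext v
    simp only [mem_image, mem_univ, true_and, mem_range, hid]
    exact ⟨fun ⟨i, hi⟩ => hi ▸ i.2, fun hv => ⟨⟨v, hv⟩, rfl⟩⟩
  have h2 := hv_eq hp (b := b) b.injective
  rw [Finset.image_orderEmbOfFin_univ, hw] at h2
  rw [h2, Finset.sum_eq_zero fun r _ => by rw [hrun, hv_range]]
  simp

/-- The height of a configuration of weight `w`. -/
def ht (p w : ℕ) (b : Fin N → ℕ) : ℤ := vp p w.factorial + ∑ r : Fin p, hv p (run p b r)

theorem ht_nonneg {w : ℕ} {b : Fin N → ℕ} (hb : Injective b) (hw : ∑ r, exc p b r = w) :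
    0 ≤ ht p w b := by
  have h1 : ∀ r : Fin p, -vp p (exc p b r).factorial ≤ hv p (run p b r) := fun r =>
    hv_ge (by rw [card_run hb r]; exact sum_run_eq hb r)
  have h2 : ∑ r : Fin p, vp p (exc p b r).factorial ≤ vp p w.factorial := by
    rw [← vp_prod _ _ fun r _ => Nat.factorial_ne_zero _, vp, vp, ← hw, Int.ofNat_le]
    exact Finsupp.le_def.mp ((Nat.factorization_le_iff_dvd
      (Finset.prod_ne_zero_iff.mpr fun r _ => Nat.factorial_ne_zero _)
      (Nat.factorial_ne_zero _)).mpr (Nat.prod_factorial_dvd_factorial_sum Finset.univ _)) p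
  have h3 := Finset.sum_le_sum (s := (Finset.univ : Finset (Fin p))) fun r _ => h1 r
  rw [Finset.sum_neg_distrib] at h3
  unfold ht
  omega

theorem ht_lt {w : ℕ} (hp : p.Prime) (hwp : w < p) {b : Fin N → ℕ} (hb : Injective b)
    (hw : ∑ r, exc p b r = w) : ht p w b = 0 := by
  rw [ht, vp_factorial_lt hp hwp, zero_add]
  refine Finset.sum_eq_zero fun r _ => hv_eq_zero hp (by rw [card_run hb r]; exact sum_run_eq hb r) ?_
  have := Finset.single_le_sum (f := exc p b) (fun r _ => Nat.zero_le _) (mem_univ r)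
  omega

/-- The valuation of a degree in a block of weight `w`. -/
theorem charDegree_val (hp : p.Prime) {χ : Cfsg.IrrCharacter (Equiv.Perm (Fin n))}
    {b : Fin N → ℕ} (hb : b ∈ cfg N (base N + n))
    (eb : (χ : Equiv.Perm (Fin n) → ℂ) = chr n b) {w : ℕ} (hw : ∑ r, exc p b r = w) :
    vp p (Cfsg.charDegree (χ : Equiv.Perm (Fin n) → ℂ)) + w + vp p w.factorial =
      vp p n.factorial + ht p w b := by
  obtain ⟨hd, hs⟩ := mem_cfg.mp hb
  obtain ⟨d, -, hd1, hd2⟩ := exists_degree (p := p) hd hs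
  have e : Cfsg.charDegree (χ : Equiv.Perm (Fin n) → ℂ) = d := by
    rw [Cfsg.charDegree, eb]
    show ⌊((X N (typ (1 : Equiv.Perm (Fin n))) b : ℚ) : ℂ).re⌋₊ = d
    rw [← hd1, Rat.cast_natCast, Complex.natCast_re, Nat.floor_natCast]
  rw [e, hd2, hv_eq hp hs.injective, hw, ht]
  ring

/-- A configuration with prescribed runner sums. -/
theorem exists_of_sets (hp : 0 < p) (c e : Fin p → ℕ) (hc : ∑ r, c r = N) (T : Fin p → Finset ℕ)
    (hT1 : ∀ r, (T r).card = c r) (hT2 : ∀ r, ∑ q ∈ T r, q = base (c r) + e r) :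
    ∃ b : Fin N → ℕ, StrictMono b ∧ cnt p b = c ∧ (∀ r, run p b r = T r) ∧
      deg b = baseK c + p * ∑ r, e r ∧ (∀ r, exc p b r = e r) := by
  obtain ⟨b, hs, hrun⟩ := exists_config (N := N) hp T (by simp [hT1, hc])
  have hcnt : cnt p b = c := funext fun r => by rw [← card_run hs.injective, hrun, hT1]
  have hexc : ∀ r, exc p b r = e r := fun r => by rw [exc, hrun, hT2, hcnt]; omega
  exact ⟨b, hs, hcnt, hrun, by rw [deg_eq_baseK hp hs.injective, hcnt]; simp [hexc], hexc⟩

/-- Splittings with exactly one carry, odd prime. -/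
theorem exists_split_odd (hp : p.Prime) (hodd : p ≠ 2) : ∀ w, p ≤ w →
    ∃ x y z : ℕ, x + y + z = w ∧
      vp p w.factorial = 1 + vp p x.factorial + vp p y.factorial + vp p z.factorial := by
  intro w
  induction w using Nat.strong_induction_on with
  | _ w ih =>
    intro hw
    have hp2 := hp.two_le
    set m := w / p with hm
    set a := w % p with ha
    have hwa : a + p * m = w := Nat.mod_add_div w p
    have hap : a < p := Nat.mod_lt _ hp.pos
    have hm1 : 1 ≤ m := Nat.div_pos hw hp.pos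
    have hwf : vp p w.factorial = m + vp p m.factorial := by
      rw [← hwa, vp_factorial_mul_add hp m a hap]
    by_cases hdm : p ∣ m
    · have hmw : m < w := Nat.div_lt_self (by omega) hp2
      obtain ⟨x, y, z, hs, hv'⟩ := ih m hmw (Nat.le_of_dvd (by omega) hdm)
      refine ⟨a + p * x, 0 + p * y, 0 + p * z, ?_, ?_⟩
      · rw [← hwa, ← hs]; ring
      · rw [hwf, hv', vp_factorial_mul_add hp x a hap, vp_factorial_mul_add hp y 0 hp.pos,
          vp_factorial_mul_add hp z 0 hp.pos]
        omega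
    · have hodd' : p % 2 = 1 := Nat.odd_iff.mp (hp.odd_of_ne_two hodd)
      obtain ⟨x, y, z, hx, hy, hz, hxyz⟩ : ∃ x y z, x < p ∧ y < p ∧ z < p ∧ x + y + z = a + p :=
        ⟨p - 1, min (a + 1) (p - 1), a + 1 - min (a + 1) (p - 1), by omega, by omega, by omega,
          by omega⟩
      obtain ⟨m', hm'⟩ : ∃ m', m = m' + 1 := ⟨m - 1, by omega⟩
      refine ⟨x, y, z + p * m', ?_, ?_⟩
      · rw [← hwa, hm', Nat.mul_succ]; omega
      · rw [hwf, vp_factorial_lt hp hx, vp_factorial_lt hp hy, vp_factorial_mul_add hp m' z hz,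
          hm', Nat.factorial_succ, vp_mul (by omega) (Nat.factorial_ne_zero _),
          vp_eq_zero_of_not_dvd (by rwa [← hm'])]
        omega

/-- Splittings with exactly one carry, `p = 2`. -/
theorem exists_split_two : ∀ w, 2 ≤ w → (w % 2 = 0 ∨ (w / 2) % 2 = 0) →
    ∃ x y : ℕ, x + y = w ∧ 1 ≤ y ∧
      vp 2 w.factorial = 1 + vp 2 x.factorial + vp 2 y.factorial := by
  intro w
  induction w using Nat.strong_induction_on with
  | _ w ih =>
    intro hw hcase
    set m := w / 2 with hm
    set a := w % 2 with ha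
    have hwa : a + 2 * m = w := Nat.mod_add_div w 2
    have hap : a < 2 := Nat.mod_lt _ two_pos
    have hp : Nat.Prime 2 := Nat.prime_two
    have hwf : vp 2 w.factorial = m + vp 2 m.factorial := by
      rw [← hwa, vp_factorial_mul_add hp m a hap]
    by_cases hdm : 2 ∣ m
    · obtain ⟨x, y, hs, hy, hv'⟩ := ih m (by omega) (by omega) (Or.inl (by omega))
      refine ⟨a + 2 * x, 0 + 2 * y, by omega, by omega, ?_⟩
      rw [hwf, hv', vp_factorial_mul_add hp x a hap, vp_factorial_mul_add hp y 0 two_pos]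
      omega
    · have ha0 : a = 0 := by omega
      obtain ⟨m', hm'⟩ : ∃ m', m = m' + 1 := ⟨m - 1, by omega⟩
      refine ⟨1, 1 + 2 * m', by omega, by omega, ?_⟩
      rw [hwf, vp_factorial_mul_add hp m' 1 (by norm_num), hm', Nat.factorial_succ,
        vp_mul (by omega) (Nat.factorial_ne_zero _), vp_eq_zero_of_not_dvd (by rwa [← hm']),
        Nat.factorial_one, vp_one]
      omega

theorem exists_ht_zero (hp : p.Prime) (c : Fin p → ℕ) (hc : ∑ r, c r = N) (w : ℕ)
    (hw : ∀ r, w ≤ c r) :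
    ∃ b : Fin N → ℕ, StrictMono b ∧ cnt p b = c ∧ deg b = baseK c + p * w ∧
      ∑ r, exc p b r = w ∧ ht p w b = 0 ∧ exc p b ⟨0, hp.pos⟩ = w := by
  classical
  set r0 : Fin p := ⟨0, hp.pos⟩
  set e : Fin p → ℕ := fun r => if r = r0 then w else 0 with he
  have hsum : ∑ r, e r = w := by simp [he]
  have hle : ∀ r, e r ≤ c r := fun r => by simp only [he]; split_ifs <;> simp [hw r]
  obtain ⟨b, hs, hcnt, hrun, hdeg, hexc⟩ := exists_of_sets hp.pos c e hc
    (fun r => colSet (c r) (e r)) (fun r => card_colSet _ _) (fun r => sum_colSet (hle r))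
  refine ⟨b, hs, hcnt, by rw [hdeg, hsum], by simp [hexc, hsum], ?_, by rw [hexc]; simp [he]⟩
  have hh : ∀ r, hv p (run p b r) = -vp p (e r).factorial := fun r => by
    rw [hrun]
    obtain ⟨k, hk⟩ : ∃ k, c r = k + e r := ⟨c r - e r, by have := hle r; omega⟩
    rw [hk, hv_colSet]
  rw [ht, Finset.sum_eq_single r0 (fun r _ hr => by rw [hh]; simp [he, hr, vp_one]) (by simp), hh]
  simp [he]

theorem exists_ht_one_odd (hp : p.Prime) (hodd : p ≠ 2) (c : Fin p → ℕ) (hc : ∑ r, c r = N)
    (w : ℕ) (hw : ∀ r, w ≤ c r) (hpw : p ≤ w) :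
    ∃ b : Fin N → ℕ, StrictMono b ∧ cnt p b = c ∧ deg b = baseK c + p * w ∧
      ∑ r, exc p b r = w ∧ ht p w b = 1 := by
  classical
  obtain ⟨x, y, z, hxyz, hval⟩ := exists_split_odd hp hodd w hpw
  have hp2 := hp.two_le
  set r0 : Fin p := ⟨0, by omega⟩
  set r1 : Fin p := ⟨1, by omega⟩
  set r2 : Fin p := ⟨2, by omega⟩
  set e : Fin p → ℕ := fun r => if r = r0 then x else if r = r1 then y else if r = r2 then z else 0
    with he
  have h01 : r1 ≠ r0 := by simp [r0, r1, Fin.ext_iff]
  have h02 : r2 ≠ r0 := by simp [r0, r2, Fin.ext_iff]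
  have h12 : r2 ≠ r1 := by simp [r1, r2, Fin.ext_iff]
  have hsplit : ∀ F : ℕ → ℤ, F 0 = 0 → ∑ r, F (e r) = F x + F y + F z := by
    intro F hF
    rw [← Finset.sum_subset (subset_univ ({r0, r1, r2} : Finset (Fin p))) fun r _ hr => by
      simp only [mem_insert, mem_singleton, not_or] at hr
      simp [he, hr, hF]]
    rw [sum_insert (by simp [h01.symm, h02.symm]), sum_insert (by simp [h12.symm]), sum_singleton]
    simp [he, h01, h02, h12]
    ring
  have hsum : ∑ r, e r = w := by
    have := hsplit (fun a => (a : ℤ)) rfl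
    rw [← Nat.cast_sum] at this
    omega
  have hle : ∀ r, e r ≤ c r := fun r => by
    simp only [he]
    split_ifs <;> first | omega | (have := hw r; omega)
  obtain ⟨b, hs, hcnt, hrun, hdeg, hexc⟩ := exists_of_sets hp.pos c e hc
    (fun r => colSet (c r) (e r)) (fun r => card_colSet _ _) (fun r => sum_colSet (hle r))
  refine ⟨b, hs, hcnt, by rw [hdeg, hsum], by simp [hexc, hsum], ?_⟩
  have hh : ∀ r, hv p (run p b r) = -vp p (e r).factorial := fun r => by
    rw [hrun]
    obtain ⟨k, hk⟩ : ∃ k, c r = k + e r := ⟨c r - e r, by have := hle r; omega⟩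
    rw [hk, hv_colSet]
  rw [ht, Finset.sum_congr rfl fun r _ => hh r,
    hsplit (fun a => -vp p a.factorial) (by simp [vp_one])]
  omega

theorem exists_ht_one_two (hN : 2 ∣ N) (c : Fin 2 → ℕ) (hc : ∑ r, c r = N)
    (w : ℕ) (hw : ∀ r, w ≤ c r) (hw3 : 3 ≤ w) :
    ∃ b : Fin N → ℕ, StrictMono b ∧ cnt 2 b = c ∧ deg b = baseK c + 2 * w ∧
      ∑ r, exc 2 b r = w ∧ ht 2 w b = 1 ∧ ¬ Sym b := by
  classical
  obtain ⟨k2, hk2⟩ := hN
  have hL : 2 * N = 2 * (2 * k2) := by omega
  have hp : Nat.Prime 2 := Nat.prime_two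
  have hsymexc : ∀ b : Fin N → ℕ, StrictMono b → Sym b → exc 2 b 1 = exc 2 b 0 := by
    intro b hs hS
    obtain ⟨hlt, hmem⟩ := sym_reflect hL hS 0
    obtain ⟨-, h⟩ := sum_reflect hlt hmem
    rw [card_run hs.injective, card_run hs.injective] at h
    have e : Fin.rev (0 : Fin 2) = 1 := rfl
    rw [e] at h
    have h0 := sum_run_eq hs.injective (0 : Fin 2)
    have h1 := sum_run_eq hs.injective (1 : Fin 2)
    omega
  have h0 := hw 0
  have h1 := hw 1
  by_cases hcase : w % 2 = 0 ∨ (w / 2) % 2 = 0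
  · obtain ⟨x, y, hxy, hy, hval⟩ := exists_split_two w (by omega) hcase
    set e : Fin 2 → ℕ := ![x, y] with he
    have hsum : ∑ r, e r = w := by simp [he, Fin.sum_univ_two, hxy]
    have hcol0 : hv 2 (colSet (c 0) x) = -vp 2 x.factorial := by
      obtain ⟨k, hk⟩ : ∃ k, c 0 = k + x := ⟨c 0 - x, by omega⟩
      rw [hk, hv_colSet]
    have hcol1 : hv 2 (colSet (c 1) y) = -vp 2 y.factorial := by
      obtain ⟨k, hk⟩ : ∃ k, c 1 = k + y := ⟨c 1 - y, by omega⟩
      rw [hk, hv_colSet]
    obtain ⟨b, hs, hcnt, hrun, hdeg, hexc⟩ := exists_of_sets two_pos c e hc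
      ![colSet (c 0) x, colSet (c 1) y]
      (fun r => by fin_cases r <;> simp [card_colSet])
      (fun r => by fin_cases r <;> simp [he, sum_colSet, show x ≤ c 0 by omega, show y ≤ c 1 by omega])
    obtain ⟨b', hs', hcnt', hrun', hdeg', hexc'⟩ := exists_of_sets two_pos c e hc
      ![colSet (c 0) x, rowSet (c 1) y]
      (fun r => by fin_cases r <;> simp [card_colSet, card_rowSet, show 1 ≤ c 1 by omega])
      (fun r => by
        fin_cases r <;> simp [he, sum_colSet, sum_rowSet, show x ≤ c 0 by omega, show 1 ≤ c 1 by omega])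
    have hht : ht 2 w b = 1 := by
      rw [ht, Fin.sum_univ_two, hrun 0, hrun 1]
      simp [hcol0, hcol1]
      omega
    have hht' : ht 2 w b' = 1 := by
      rw [ht, Fin.sum_univ_two, hrun' 0, hrun' 1]
      simp [hcol0, hv_rowSet]
      omega
    by_cases hS : Sym b
    · refine ⟨b', hs', hcnt', by rw [hdeg', hsum], by simp [hexc', hsum], hht', fun hS' => ?_⟩
      -- the upper runner of a symmetrical configuration is determined by the lower one
      have heq : run 2 b 1 = run 2 b' 1 := by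
        ext q
        have h2 := (sym_reflect hL hS 0).2 q
        have h3 := (sym_reflect hL hS' 0).2 q
        rw [show Fin.rev (0 : Fin 2) = 1 from rfl] at h2 h3
        rw [h2, h3, hrun 0, hrun' 0]
        simp
      rw [hrun 1, hrun' 1] at heq
      simp only [Matrix.cons_val_one, Matrix.cons_val_zero] at heq
      have hxy' : x = y := by
        have := hsymexc b hs hS
        rw [hexc, hexc] at this
        simpa [he] using this.symm
      have hmem : c 1 - 1 + y ∈ colSet (c 1) y := by rw [heq]; simp [rowSet]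
      simp [colSet] at hmem
      omega
    · exact ⟨b, hs, hcnt, by rw [hdeg, hsum], by simp [hexc, hsum], hht, hS⟩
  · -- `w = 2 * m + 1` with `m` odd
    obtain ⟨m, hm⟩ : ∃ m, w = 2 * m + 3 := ⟨(w - 3) / 2, by omega⟩
    have hm2 : ¬ 2 ∣ m + 1 := by omega
    set e : Fin 2 → ℕ := ![3, 2 * m] with he
    have hsum : ∑ r, e r = w := by simp [he, Fin.sum_univ_two]; omega
    obtain ⟨b, hs, hcnt, hrun, hdeg, hexc⟩ := exists_of_sets two_pos c e hc
      ![hookSet (c 0), colSet (c 1) (2 * m)]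
      (fun r => by fin_cases r <;> simp [card_colSet, card_hookSet, show 2 ≤ c 0 by omega])
      (fun r => by
        fin_cases r <;> simp [he, sum_colSet, sum_hookSet, show 2 ≤ c 0 by omega, show 2 * m ≤ c 1 by omega])
    refine ⟨b, hs, hcnt, by rw [hdeg, hsum], by simp [hexc, hsum], ?_, fun hS => ?_⟩
    · have hcol1 : hv 2 (colSet (c 1) (2 * m)) = -vp 2 (2 * m).factorial := by
        obtain ⟨k, hk⟩ : ∃ k, c 1 = k + 2 * m := ⟨c 1 - 2 * m, by omega⟩
        rw [hk, hv_colSet]
      rw [ht, Fin.sum_univ_two, hrun 0, hrun 1]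
      simp [hcol1, hv_hookSet_two (show 2 ≤ c 0 by omega)]
      rw [hm, show 2 * m + 3 = 1 + 2 * (m + 1) by ring, vp_factorial_mul_add hp (m + 1) 1 (by norm_num),
        show 2 * m = 0 + 2 * m by ring, vp_factorial_mul_add hp m 0 two_pos, Nat.factorial_succ,
        vp_mul (by omega) (Nat.factorial_ne_zero _), vp_eq_zero_of_not_dvd hm2]
      push_cast
      omega
    · have := hsymexc b hs hS
      rw [hexc, hexc] at this
      simp [he] at this
      omega

end Cfsg.Agent.Bead29
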