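import Mathlib

/-!
# Bead operators

Functions on `N`-tuples of natural numbers, the operators `up k` (move one bead `k` steps up, the
multiplication by the `k`-th power sum) and `dn k` (its adjoint), and their commutation relation on
alternating functions.
-/

set_option autoImplicit false

namespace Cfsg.Agent.Bead29

open Finset Function

variable {N : ℕ}

/-- Functions on bead configurations. -/
abbrev Fn (N : ℕ) : Type := (Fin N → ℕ) → ℚ

/-- The degree of a tuple. -/
def deg (b : Fin N → ℕ) : ℕ := ∑ i, b i

/-- The least degree of an injective tuple. -/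
def base (N : ℕ) : ℕ := ∑ i : Fin N, (i : ℕ)

/-- The adjoint direction: some bead moves `k` steps up in the argument. -/
def dn (k : ℕ) : Fn N →ₗ[ℚ] Fn N where
  toFun A b := ∑ i, A (update b i (b i + k))
  map_add' A B := by funext b; simp [Finset.sum_add_distrib]
  map_smul' c A := by funext b; simp [Finset.mul_sum]

/-- Multiplication by a power sum. -/
def up (k : ℕ) : Fn N →ₗ[ℚ] Fn N where
  toFun A b := ∑ i, if k ≤ b i then A (update b i (b i - k)) else 0
  map_add' A B := by
    funext b
    simp only [Pi.add_apply, ← Finset.sum_add_distrib]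
    refine Finset.sum_congr rfl fun i _ => ?_
    split_ifs <;> simp
  map_smul' c A := by
    funext b
    simp only [Pi.smul_apply, smul_eq_mul, RingHom.id_apply, Finset.mul_sum]
    refine Finset.sum_congr rfl fun i _ => ?_
    split_ifs <;> simp

theorem up_apply (k : ℕ) (A : Fn N) (b : Fin N → ℕ) :
    up k A b = ∑ i, if k ≤ b i then A (update b i (b i - k)) else 0 := rfl

theorem dn_apply (k : ℕ) (A : Fn N) (b : Fin N → ℕ) :
    dn k A b = ∑ i, A (update b i (b i + k)) := rfl

theorem deg_update (b : Fin N → ℕ) (i : Fin N) (v : ℕ) :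
    deg (update b i v) + b i = deg b + v := by
  unfold deg
  rw [← Finset.add_sum_erase _ _ (mem_univ i), ← Finset.add_sum_erase _ _ (mem_univ i),
    update_self, Finset.sum_congr rfl fun l hl => update_of_ne (Finset.ne_of_mem_erase hl) v b]
  ring

theorem deg_comp_perm (b : Fin N → ℕ) (π : Equiv.Perm (Fin N)) : deg (b ∘ π) = deg b :=
  Equiv.sum_comp π b

theorem up_up_comm (j k : ℕ) (A : Fn N) : up j (up k A) = up k (up j A) := by
  funext b
  simp only [up_apply]
  have key : ∀ j k : ℕ, ∀ i l : Fin N,
      (if j ≤ b i then if k ≤ update b i (b i - j) l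
        then A (update (update b i (b i - j)) l (update b i (b i - j) l - k)) else 0 else 0) =
      if i = l then (if j + k ≤ b i then A (update b i (b i - (j + k))) else 0)
      else (if j ≤ b i ∧ k ≤ b l then A (update (update b i (b i - j)) l (b l - k)) else 0) := by
    intro j k i l
    by_cases hil : i = l
    · subst hil
      simp only [update_self, update_idem, if_true]
      by_cases h : j + k ≤ b i
      · rw [if_pos (by omega), if_pos (by omega), if_pos h, Nat.sub_sub]
      · rw [if_neg h]
        split_ifs <;> first | rfl | omega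
    · rw [if_neg hil, update_of_ne (Ne.symm hil)]
      by_cases h1 : j ≤ b i <;> by_cases h2 : k ≤ b l <;> simp [h1, h2]
  have hpush : ∀ j k : ℕ, ∀ i : Fin N,
      (if j ≤ b i then ∑ l, (if k ≤ update b i (b i - j) l
        then A (update (update b i (b i - j)) l (update b i (b i - j) l - k)) else 0) else 0) =
      ∑ l, if j ≤ b i then (if k ≤ update b i (b i - j) l
        then A (update (update b i (b i - j)) l (update b i (b i - j) l - k)) else 0) else 0 := by
    intro j k i
    split_ifs <;> simp
  simp only [hpush, key]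
  rw [Finset.sum_comm]
  refine Finset.sum_congr rfl fun i _ => Finset.sum_congr rfl fun l _ => ?_
  by_cases hil : i = l
  · subst hil; simp [add_comm]
  · rw [if_neg (Ne.symm hil), if_neg hil, update_comm hil]
    simp only [and_comm]

instance leftComm_up : LeftCommutative (fun (k : ℕ) (A : Fn N) => up k A) :=
  ⟨fun j k A => up_up_comm j k A⟩

/-- Multiplication by the product of the power sums of a multiset. -/
def upM (μ : Multiset ℕ) (A : Fn N) : Fn N := μ.foldr (fun k B => up k B) A

@[simp] theorem upM_zero (A : Fn N) : upM 0 A = A := Multiset.foldr_zero _ _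

@[simp] theorem upM_cons (k : ℕ) (μ : Multiset ℕ) (A : Fn N) :
    upM (k ::ₘ μ) A = up k (upM μ A) := Multiset.foldr_cons _ _ _ _

theorem upM_add (μ ν : Multiset ℕ) (A : Fn N) : upM (μ + ν) A = upM μ (upM ν A) := by
  induction μ using Multiset.induction with
  | empty => simp
  | cons k μ ih => rw [Multiset.cons_add, upM_cons, upM_cons, ih]

theorem upM_add' (μ : Multiset ℕ) (A B : Fn N) : upM μ (A + B) = upM μ A + upM μ B := by
  induction μ using Multiset.induction with
  | empty => simp
  | cons k μ ih => simp [ih]

theorem upM_smul (μ : Multiset ℕ) (c : ℚ) (A : Fn N) : upM μ (c • A) = c • upM μ A := by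
  induction μ using Multiset.induction with
  | empty => simp
  | cons k μ ih => simp [ih]

/-- `upM` as a linear map. -/
def upL (μ : Multiset ℕ) : Fn N →ₗ[ℚ] Fn N where
  toFun := upM μ
  map_add' := upM_add' μ
  map_smul' := upM_smul μ

/-- Alternating functions. -/
def Alt (A : Fn N) : Prop :=
  ∀ (π : Equiv.Perm (Fin N)) (b : Fin N → ℕ), A (b ∘ π) = (Equiv.Perm.sign π : ℤ) * A b

/-- Functions supported in one degree. -/
def Hom (A : Fn N) (E : ℕ) : Prop := ∀ b, deg b ≠ E → A b = 0

theorem update_comp_perm (b : Fin N → ℕ) (π : Equiv.Perm (Fin N)) (i : Fin N) (v : ℕ) :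
    update (b ∘ π) i v = update b (π i) v ∘ π := by
  funext l
  by_cases h : l = i
  · subst h; simp
  · simp [update_of_ne h, update_of_ne (π.injective.ne h)]

theorem Alt.up {A : Fn N} (hA : Alt A) (k : ℕ) : Alt (Bead29.up k A) := by
  intro π b
  rw [up_apply, up_apply, Finset.mul_sum]
  refine Fintype.sum_equiv π _ _ fun i => ?_
  rw [update_comp_perm, Function.comp_apply]
  split_ifs with h
  · exact hA π _
  · simp

theorem Alt.dn {A : Fn N} (hA : Alt A) (k : ℕ) : Alt (Bead29.dn k A) := by
  intro π b
  rw [dn_apply, dn_apply, Finset.mul_sum]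
  refine Fintype.sum_equiv π _ _ fun i => ?_
  rw [update_comp_perm, Function.comp_apply]
  exact hA π _

theorem Alt.upM {A : Fn N} (hA : Alt A) (μ : Multiset ℕ) : Alt (Bead29.upM μ A) := by
  induction μ using Multiset.induction with
  | empty => simpa using hA
  | cons k μ ih => simpa using ih.up k

theorem Alt.zero : Alt (0 : Fn N) := fun π b => by simp

theorem Alt.add {A B : Fn N} (hA : Alt A) (hB : Alt B) : Alt (A + B) := fun π b => by
  simp [hA π b, hB π b, mul_add]

theorem Alt.smul {A : Fn N} (hA : Alt A) (c : ℚ) : Alt (c • A) := fun π b => by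
  simp [hA π b]; ring

theorem Hom.up {A : Fn N} {E : ℕ} (hA : Hom A E) (k : ℕ) : Hom (Bead29.up k A) (E + k) := by
  intro b hb
  rw [up_apply]
  refine Finset.sum_eq_zero fun i _ => ?_
  split_ifs with h
  · refine hA _ fun he => hb ?_
    have := deg_update b i (b i - k)
    omega
  · rfl

theorem Hom.upM {A : Fn N} {E : ℕ} (hA : Hom A E) (μ : Multiset ℕ) :
    Hom (Bead29.upM μ A) (E + μ.sum) := by
  induction μ using Multiset.induction with
  | empty => simpa using hA
  | cons k μ ih =>
    rw [upM_cons, Multiset.sum_cons, show E + (k + μ.sum) = E + μ.sum + k by ring]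
    exact ih.up k

theorem Alt.eq_zero {A : Fn N} (hA : Alt A) {b : Fin N → ℕ} (hb : ¬ Injective b) : A b = 0 := by
  simp only [Injective, not_forall] at hb
  obtain ⟨i, l, hil, hne⟩ := hb
  have h := hA (Equiv.swap i l) b
  have hc : b ∘ Equiv.swap i l = b := by
    funext m
    rcases eq_or_ne m i with rfl | h1
    · simp [hil]
    rcases eq_or_ne m l with rfl | h2
    · simp [hil]
    simp [Equiv.swap_apply_of_ne_of_ne h1 h2]
  rw [hc, Equiv.Perm.sign_swap hne] at h
  simp only [Units.val_neg, Units.val_one, Int.cast_neg, Int.cast_one, neg_mul, one_mul] at h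
  linarith

theorem sum_range_card_le (S : Finset ℕ) : ∑ i ∈ range S.card, i ≤ ∑ x ∈ S, x := by
  induction S using Finset.induction_on_max with
  | empty => simp
  | insert a s hlt ih =>
    have hnm : a ∉ s := fun h => (hlt a h).false
    rw [card_insert_of_notMem hnm, sum_range_succ, sum_insert hnm]
    have : s.card ≤ a := by
      have h := card_le_card (s := s) (t := range a) fun x hx => mem_range.mpr (hlt x hx)
      simpa using h
    omega

theorem sum_image_eq_deg {b : Fin N → ℕ} (hb : Injective b) :
    ∑ x ∈ Finset.univ.image b, x = deg b :=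
  Finset.sum_image fun _ _ _ _ h => hb h

theorem base_eq_sum_range (N : ℕ) : base N = ∑ i ∈ range N, i := Fin.sum_univ_eq_sum_range id N

theorem base_le_deg {b : Fin N → ℕ} (hb : Injective b) : base N ≤ deg b := by
  have h := sum_range_card_le (Finset.univ.image b)
  rw [card_image_of_injective _ hb, card_univ, Fintype.card_fin, sum_image_eq_deg hb] at h
  rw [base_eq_sum_range]; exact h

/-- Values missed by an injective tuple cost degree. -/
theorem exists_eq_of_deg_le {b : Fin N → ℕ} (hb : Injective b) {m v : ℕ}
    (hd : deg b ≤ base N + m) (hv : v + m < N) : ∃ i, b i = v := by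
  by_contra hno
  push Not at hno
  have hvn : v ∉ Finset.univ.image b := by simp [hno]
  have h := sum_range_card_le (insert v (Finset.univ.image b))
  rw [card_insert_of_notMem hvn, sum_insert hvn, card_image_of_injective _ hb, card_univ,
    Fintype.card_fin, sum_image_eq_deg hb, sum_range_succ, ← base_eq_sum_range] at h
  omega

/-- Every value below `L` occurs in the support. -/
def Full (A : Fn N) (L : ℕ) : Prop := ∀ b, A b ≠ 0 → ∀ v < L, ∃ i, b i = v

theorem Alt.full {A : Fn N} (hA : Alt A) {m : ℕ} (hh : Hom A (base N + m)) :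
    Full A (N - m) := by
  intro b hb v hv
  have hi : Injective b := by
    by_contra h
    exact hb (hA.eq_zero h)
  have hd : deg b = base N + m := by
    by_contra h
    exact hb (hh b h)
  exact exists_eq_of_deg_le hi hd.le (by omega)

/-- The commutation relation. -/
theorem dn_up {A : Fn N} (hA : Alt A) {L j k : ℕ} (hF : Full A L) (hj : 0 < j) (hjL : j ≤ L)
    (hkL : k ≤ L) : dn j (up k A) = up k (dn j A) + if j = k then (k : ℚ) • A else 0 := by
  funext b
  have hR : Alt (if j = k then (k : ℚ) • A else 0) := by
    split_ifs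
    · exact hA.smul _
    · exact Alt.zero
  by_cases hb : Injective b
  swap
  · rw [Pi.add_apply, ((hA.up k).dn j).eq_zero hb, ((hA.dn j).up k).eq_zero hb, hR.eq_zero hb,
      add_zero]
  have hL : ∀ i l : Fin N,
      (if k ≤ update b i (b i + j) l
        then A (update (update b i (b i + j)) l (update b i (b i + j) l - k)) else 0) =
      (if k ≤ b l then A (update (update b l (b l - k)) i (update b l (b l - k) i + j)) else 0) +
        if i = l then (if b i < k ∧ k ≤ b i + j then A (update b i (b i + j - k)) else 0)
        else 0 := by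
    intro i l
    by_cases hil : i = l
    · subst hil
      simp only [update_self, update_idem, if_true]
      by_cases h : k ≤ b i
      · rw [if_pos (by omega), if_pos h, if_neg (by omega), add_zero,
          show b i + j - k = b i - k + j by omega]
      · by_cases h2 : k ≤ b i + j
        · rw [if_pos h2, if_neg h, if_pos ⟨by omega, h2⟩, zero_add]
        · rw [if_neg h2, if_neg h, if_neg (fun hh => h2 hh.2), add_zero]
    · rw [update_of_ne (Ne.symm hil), update_of_ne hil, if_neg hil, add_zero]
      simp [update_comm hil]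
  have hup : ∀ l : Fin N,
      (if k ≤ b l then dn j A (update b l (b l - k)) else 0) =
        ∑ i, if k ≤ b l then A (update (update b l (b l - k)) i (update b l (b l - k) i + j))
          else 0 := by
    intro l; rw [dn_apply]; split_ifs <;> simp
  rw [Pi.add_apply, dn_apply, up_apply, Finset.sum_congr rfl fun l _ => hup l, Finset.sum_comm]
  simp only [up_apply, hL, Finset.sum_add_distrib, Finset.sum_ite_eq, mem_univ, if_true]
  congr 1
  by_cases hjk : j = k
  · subst hjk
    rw [if_pos rfl, Pi.smul_apply, smul_eq_mul]
    have : ∀ i, (if b i < j ∧ j ≤ b i + j then A (update b i (b i + j - j)) else 0) =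
        if b i < j then A b else 0 := fun i => by simp
    rw [Finset.sum_congr rfl fun i _ => this i, ← Finset.sum_filter, Finset.sum_const,
      nsmul_eq_mul]
    by_cases hAb : A b = 0
    · simp [hAb]
    · congr 1
      have him : (Finset.univ.filter fun i => b i < j).image b = range j := by
        ext v
        simp only [mem_image, mem_filter, mem_univ, true_and, mem_range]
        refine ⟨?_, fun hv => ?_⟩
        · rintro ⟨i, hi, rfl⟩; exact hi
        · obtain ⟨i, hi⟩ := hF b hAb v (by omega)
          exact ⟨i, by omega, hi⟩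
      rw [← card_image_of_injective _ hb, him, card_range]
  · rw [if_neg hjk, Pi.zero_apply]
    refine Finset.sum_eq_zero fun i _ => ?_
    split_ifs with h
    · by_contra hne
      obtain ⟨l, hl⟩ := hF _ hne (b i) (by omega)
      rcases eq_or_ne l i with rfl | hli
      · rw [update_self] at hl; omega
      · rw [update_of_ne hli] at hl; exact hli (hb hl)
    · rfl

/-- `A` is killed by the lowering operators with step in `K`. -/
def Killed (K : Set ℕ) (A : Fn N) : Prop := ∀ j ∈ K, dn j A = 0

theorem dn_upM {K : Set ℕ} {r : Fn N} {m : ℕ} (hA : Alt r) (hh : Hom r (base N + m))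
    (hK : Killed K r) {j : ℕ} (hjK : j ∈ K) (hj : 0 < j) (μ : Multiset ℕ)
    (hN : m + μ.sum + j ≤ N) :
    dn j (upM μ r) =
      if j ∈ μ then ((j * μ.count j : ℕ) : ℚ) • upM (μ.erase j) r else 0 := by
  induction μ using Multiset.induction with
  | empty => simp [hK j hjK]
  | cons k μ ih =>
    rw [Multiset.sum_cons] at hN
    have hh' := hh.upM μ
    rw [show base N + m + μ.sum = base N + (m + μ.sum) by ring] at hh'
    rw [upM_cons, dn_up (hA.upM μ) ((hA.upM μ).full hh') hj (by omega) (by omega),
      ih (by omega)]
    by_cases hjk : j = k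
    · subst hjk
      rw [if_pos rfl, if_pos (Multiset.mem_cons_self _ _), Multiset.erase_cons_head,
        Multiset.count_cons_self]
      by_cases hm : j ∈ μ
      · rw [if_pos hm, map_smul, ← upM_cons, Multiset.cons_erase hm, ← add_smul]
        congr 1
        push_cast; ring
      · rw [if_neg hm, map_zero, zero_add, Multiset.count_eq_zero.mpr hm]
        simp
    · rw [if_neg hjk, add_zero, Multiset.erase_cons_tail _ (Ne.symm hjk),
        Multiset.count_cons_of_ne hjk]
      by_cases hm : j ∈ μ
      · rw [if_pos hm, if_pos (Multiset.mem_cons_of_mem hm), map_smul, upM_cons]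
      · rw [if_neg hm, map_zero, if_neg (by simp [hjk, hm])]

/-- The weight of a cycle type. -/
def zW (μ : Multiset ℕ) : ℕ := μ.prod * ∏ a ∈ μ.toFinset, (μ.count a).factorial

theorem zW_zero : zW 0 = 1 := by simp [zW]

theorem zW_cons (k : ℕ) (μ : Multiset ℕ) : zW (k ::ₘ μ) = k * (μ.count k + 1) * zW μ := by
  classical
  unfold zW
  have h1 : ∀ ν : Multiset ℕ, ∀ S : Finset ℕ, ν.toFinset ⊆ S →
      ∏ a ∈ ν.toFinset, (ν.count a).factorial = ∏ a ∈ S, (ν.count a).factorial := fun ν S hS =>
    Finset.prod_subset hS fun a _ ha => by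
      rw [Multiset.count_eq_zero.mpr fun h => ha (Multiset.mem_toFinset.mpr h)]; rfl
  set S := (k ::ₘ μ).toFinset
  have hkS : k ∈ S := by simp [S]
  rw [h1 μ S (by simp [S, Finset.subset_insert]), Multiset.prod_cons,
    ← Finset.mul_prod_erase _ _ hkS, ← Finset.mul_prod_erase _ _ hkS, Multiset.count_cons_self,
    Nat.factorial_succ, Finset.prod_congr rfl fun a ha => by
      rw [Multiset.count_cons_of_ne (Finset.ne_of_mem_erase ha)]]
  ring

theorem zW_pos {μ : Multiset ℕ} (h : ∀ a ∈ μ, 0 < a) : 0 < zW μ := by
  refine Nat.mul_pos (Multiset.prod_pos h) (Finset.prod_pos fun a _ => Nat.factorial_pos _)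

/-- The finset of tuples of one degree. -/
def slice (N E : ℕ) : Finset (Fin N → ℕ) := Finset.Nat.antidiagonalTuple N E

theorem mem_slice {E : ℕ} {b : Fin N → ℕ} : b ∈ slice N E ↔ deg b = E :=
  Finset.Nat.mem_antidiagonalTuple

/-- The inner product in degree `E`. -/
def ip (E : ℕ) (A B : Fn N) : ℚ := (∑ b ∈ slice N E, A b * B b) / (N.factorial : ℚ)

/-- `up` and `dn` are adjoint. -/
theorem ip_up (E k : ℕ) (A B : Fn N) : ip (E + k) (up k A) B = ip E A (dn k B) := by
  unfold ip
  congr 1
  simp only [up_apply, dn_apply, Finset.sum_mul, Finset.mul_sum]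
  rw [Finset.sum_comm]
  conv_rhs => rw [Finset.sum_comm]
  refine Finset.sum_congr rfl fun i _ => ?_
  simp only [ite_mul, zero_mul]
  rw [← Finset.sum_filter]
  refine Finset.sum_bij' (fun b _ => update b i (b i - k)) (fun c _ => update c i (c i + k))
    ?_ ?_ ?_ ?_ ?_
  · intro b hb
    simp only [mem_filter, mem_slice] at hb
    rw [mem_slice]
    have := deg_update b i (b i - k)
    omega
  · intro c hc
    rw [mem_slice] at hc
    simp only [mem_filter, mem_slice, update_self]
    have := deg_update c i (c i + k)
    omega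
  · intro b hb
    simp only [mem_filter, mem_slice] at hb
    rw [update_self, update_idem, show b i - k + k = b i by omega, update_eq_self]
  · intro c _
    rw [update_self, update_idem, show c i + k - k = c i by omega, update_eq_self]
  · intro b hb
    simp only [mem_filter, mem_slice] at hb
    rw [update_self, update_idem, show b i - k + k = b i by omega, update_eq_self]

/-- Orthogonality of the products of power sums over a killed vector. -/
theorem ip_upM {K : Set ℕ} {r r' : Fn N} {m : ℕ} (hr' : Alt r') (hh' : Hom r' (base N + m))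
    (hK : Killed K r') (μ ν : Multiset ℕ) (hμ : ∀ a ∈ μ, a ∈ K ∧ 0 < a) (hν : ∀ a ∈ ν, 0 < a)
    (hsum : μ.sum = ν.sum) (hN : m + μ.sum + μ.sum ≤ N) :
    ip (base N + m + μ.sum) (upM μ r) (upM ν r') =
      if μ = ν then (zW μ : ℚ) * ip (base N + m) r r' else 0 := by
  induction μ using Multiset.induction generalizing ν with
  | empty =>
    have hν0 : ν = 0 := by
      by_contra h
      obtain ⟨a, ha⟩ := Multiset.exists_mem_of_ne_zero h
      have h1 := Multiset.le_sum_of_mem ha
      have h2 := hν a ha
      simp only [Multiset.sum_zero] at hsum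
      omega
    subst hν0
    simp [zW_zero]
  | cons k μ ih =>
    have hk := hμ k (Multiset.mem_cons_self _ _)
    simp only [Multiset.sum_cons] at hsum hN ⊢
    rw [upM_cons, show base N + m + (k + μ.sum) = base N + m + μ.sum + k by ring, ip_up,
      dn_upM hr' hh' hK hk.1 hk.2 ν (by omega)]
    by_cases hm : k ∈ ν
    · rw [if_pos hm]
      have hsum' : μ.sum = (ν.erase k).sum := by
        have := Multiset.sum_erase hm
        omega
      have e := ih (ν.erase k) (fun a ha => hμ a (Multiset.mem_cons_of_mem ha))
        (fun a ha => hν a (Multiset.mem_of_mem_erase ha)) hsum' (by omega)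
      have hlin : ∀ (c : ℚ) (B : Fn N), ip (base N + m + μ.sum) (upM μ r) (c • B) =
          c * ip (base N + m + μ.sum) (upM μ r) B := by
        intro c B
        unfold ip
        rw [← mul_div_assoc, Finset.mul_sum]
        congr 1
        refine Finset.sum_congr rfl fun b _ => ?_
        simp only [Pi.smul_apply, smul_eq_mul]; ring
      rw [hlin, e]
      by_cases he : μ = ν.erase k
      · rw [if_pos he, if_pos (by rw [he, Multiset.cons_erase hm]), zW_cons,
          he, Multiset.count_erase_self]
        have : 1 ≤ ν.count k := Multiset.one_le_count_iff_mem.mpr hm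
        rw [show ν.count k - 1 + 1 = ν.count k by omega]
        push_cast; ring
      · rw [if_neg he, if_neg fun h => he (by rw [← h, Multiset.erase_cons_head]), mul_zero]
    · rw [if_neg hm, if_neg fun h : k ::ₘ μ = ν => hm (h ▸ Multiset.mem_cons_self _ _)]
      simp [ip]

/-- The vacuum: the coefficients of the Vandermonde product. -/
def vac (N : ℕ) : Fn N := fun b =>
  ∑ π : Equiv.Perm (Fin N), if b = (fun i => ((π i : Fin N) : ℕ)) then
    ((Equiv.Perm.sign π : ℤ) : ℚ) else 0

theorem vac_alt : Alt (vac N) := by
  intro ρ b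
  unfold vac
  rw [Finset.mul_sum]
  refine Fintype.sum_equiv (Equiv.mulRight ρ⁻¹) _ _ fun π => ?_
  rw [show Equiv.mulRight ρ⁻¹ π = π * ρ⁻¹ from rfl]
  by_cases h : b ∘ ⇑ρ = fun i => ((π i : Fin N) : ℕ)
  · have h' : b = fun i => (((π * ρ⁻¹) i : Fin N) : ℕ) := by
      funext i
      simpa [Equiv.Perm.mul_apply] using congrFun h (ρ⁻¹ i)
    simp only [if_pos h, if_pos h']
    rw [← Int.cast_mul, ← Units.val_mul, ← map_mul]
    rw [map_mul, map_mul, Equiv.Perm.sign_inv, mul_comm (Equiv.Perm.sign π), ← mul_assoc,
      Int.units_mul_self, one_mul]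
  · have h' : ¬ b = fun i => (((π * ρ⁻¹) i : Fin N) : ℕ) := fun e => h (by
      funext i; simp [e, Equiv.Perm.mul_apply])
    simp only [if_neg h, if_neg h', mul_zero]

theorem vac_hom : Hom (vac N) (base N) := by
  intro b hb
  refine Finset.sum_eq_zero fun π _ => if_neg fun h => hb ?_
  subst h
  exact Equiv.sum_comp π (fun i : Fin N => (i : ℕ))

theorem vac_killed : Killed {j | 0 < j} (vac N) := by
  intro j hj
  funext b
  by_cases hb : Injective b
  swap
  · exact (vac_alt.dn j).eq_zero hb
  rw [dn_apply]
  refine Finset.sum_eq_zero fun i _ => vac_hom _ fun h => ?_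
  have h1 := deg_update b i (b i + j)
  have h2 := base_le_deg hb
  simp only [Set.mem_ofPred_eq] at hj
  omega

theorem vac_perm (π : Equiv.Perm (Fin N)) :
    vac N (fun i => ((π i : Fin N) : ℕ)) = ((Equiv.Perm.sign π : ℤ) : ℚ) := by
  unfold vac
  rw [Finset.sum_eq_single π]
  · rw [if_pos rfl]
  · intro ρ _ hρ
    refine if_neg fun h => hρ (Equiv.ext fun i => Fin.ext (congrFun h i).symm)
  · simp

theorem ip_vac : ip (base N) (vac N) (vac N) = 1 := by
  classical
  let e : Equiv.Perm (Fin N) → (Fin N → ℕ) := fun π i => ((π i : Fin N) : ℕ)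
  have he : Injective e := fun π ρ h => Equiv.ext fun i => Fin.ext (congrFun h i)
  unfold ip
  rw [← Finset.sum_subset (s₁ := Finset.univ.image e) ?_ ?_]
  · rw [Finset.sum_image fun a _ b _ h => he h]
    simp only [e, vac_perm, ← Int.cast_mul, ← Units.val_mul, Int.units_mul_self, Units.val_one,
      Int.cast_one, Finset.sum_const, card_univ, Fintype.card_perm, Fintype.card_fin, nsmul_eq_mul,
      mul_one]
    exact div_self (Nat.cast_ne_zero.mpr (Nat.factorial_ne_zero N))
  · intro b hb
    obtain ⟨π, -, rfl⟩ := mem_image.mp hb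
    exact mem_slice.mpr (Equiv.sum_comp π (fun i : Fin N => (i : ℕ)))
  · intro b _ hb
    have : vac N b = 0 := Finset.sum_eq_zero fun π _ => if_neg fun h =>
      hb (mem_image.mpr ⟨π, mem_univ _, h.symm⟩)
    simp [this]

end Cfsg.Agent.Bead29
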