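import Cfsg.Agent.Bead29.SymCount
import Mathlib.LinearAlgebra.Vandermonde
import Mathlib.NumberTheory.Padics.PadicVal.Basic

/-!
# The valuation of degrees of characters of the symmetric groups

With `hv p T = ∑_{y < x in T} v (x - y) - ∑_{x in T} v (x!)`, the valuation of the degree attached
to a configuration `T` is `v (n!) + hv p T`, and `hv` decomposes along the runners.
-/

set_option autoImplicit false

namespace Cfsg.Agent.Bead29

open Finset Function

variable {N : ℕ} {p : ℕ}

/-- The exponent of `p`, as an integer. -/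
def vp (p n : ℕ) : ℤ := (n.factorization p : ℤ)

theorem vp_mul {a b : ℕ} (ha : a ≠ 0) (hb : b ≠ 0) : vp p (a * b) = vp p a + vp p b := by
  simp [vp, Nat.factorization_mul ha hb]

theorem vp_prod {ι : Type*} (s : Finset ι) (f : ι → ℕ) (h : ∀ i ∈ s, f i ≠ 0) :
    vp p (∏ i ∈ s, f i) = ∑ i ∈ s, vp p (f i) := by
  rw [vp, Nat.factorization_prod h, Finsupp.finsetSum_apply]
  simp [vp]

theorem vp_eq_zero_of_not_dvd {n : ℕ} (h : ¬ p ∣ n) : vp p n = 0 := by
  simp [vp, Nat.factorization_eq_zero_of_not_dvd h]

theorem vp_nonneg (n : ℕ) : 0 ≤ vp p n := Int.natCast_nonneg _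

theorem vp_one : vp p 1 = 0 := by simp [vp]

theorem vp_p_mul (hp : p.Prime) {n : ℕ} (hn : n ≠ 0) : vp p (p * n) = 1 + vp p n := by
  rw [vp_mul hp.ne_zero hn]
  simp [vp, hp.factorization_self]

theorem vp_factorial_mul_add (hp : p.Prime) (q r : ℕ) (hr : r < p) :
    vp p (r + p * q).factorial = q + vp p q.factorial := by
  have := Fact.mk hp
  have h1 : padicValNat p (p * q + r).factorial = padicValNat p (p * q).factorial :=
    padicValNat_factorial_mul_add q hr
  have h2 : padicValNat p (p * q).factorial = padicValNat p q.factorial + q :=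
    padicValNat_factorial_mul q
  simp only [vp, Nat.factorization_def _ hp]
  rw [add_comm r, h1, h2]
  push_cast
  ring

theorem vp_factorial_lt (hp : p.Prime) {k : ℕ} (hk : k < p) : vp p k.factorial = 0 :=
  vp_eq_zero_of_not_dvd fun h => by have := (Nat.Prime.dvd_factorial hp).mp h; omega

/-- The valuation attached to a finite set of natural numbers. -/
def hv (p : ℕ) (T : Finset ℕ) : ℤ :=
  ∑ x ∈ T, ((∑ y ∈ T.filter (fun y => y < x), vp p (x - y)) - vp p x.factorial)

theorem hv_insert_max {T : Finset ℕ} {x : ℕ} (h : ∀ y ∈ T, y < x) :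
    hv p (insert x T) = hv p T + ((∑ y ∈ T, vp p (x - y)) - vp p x.factorial) := by
  have hnm : x ∉ T := fun hx => lt_irrefl x (h x hx)
  unfold hv
  rw [sum_insert hnm, add_comm]
  congr 1
  · refine Finset.sum_congr rfl fun y hy => ?_
    rw [Finset.filter_insert, if_neg (lt_asymm (h y hy))]
  · rw [Finset.filter_insert, if_neg (lt_irrefl x), Finset.filter_true_of_mem h]

theorem sum_vp_sub (x : ℕ) : ∀ k, k ≤ x →
    (∑ y ∈ range k, vp p (x - y)) + vp p (x - k).factorial = vp p x.factorial
  | 0, _ => by simp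
  | k + 1, h => by
    have ih := sum_vp_sub x k (by omega)
    rw [sum_range_succ, ← ih, show x - k = x - (k + 1) + 1 by omega, Nat.factorial_succ,
      vp_mul (by omega) (Nat.factorial_ne_zero _)]
    ring

theorem hv_range : ∀ k, hv p (range k) = 0
  | 0 => by simp [hv]
  | k + 1 => by
    rw [Finset.range_add_one, hv_insert_max fun y hy => mem_range.mp hy, hv_range k]
    have := sum_vp_sub (p := p) k k le_rfl
    simp [vp_one] at this
    omega

/-- A configuration of one row. -/
def rowSet (c e : ℕ) : Finset ℕ := insert (c - 1 + e) (range (c - 1))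

/-- A configuration of one column. -/
def colSet (c e : ℕ) : Finset ℕ := (range (c + 1)).erase (c - e)

theorem card_rowSet {c e : ℕ} (hc : 1 ≤ c) : (rowSet c e).card = c := by
  rw [rowSet, card_insert_of_notMem (by simp), card_range]
  omega

theorem sum_rowSet {c e : ℕ} (hc : 1 ≤ c) : ∑ x ∈ rowSet c e, x = base c + e := by
  rw [rowSet, sum_insert (by simp), base_eq_sum_range]
  conv_rhs => rw [show c = c - 1 + 1 by omega, sum_range_succ]
  omega

theorem hv_rowSet (c e : ℕ) : hv p (rowSet c e) = -vp p e.factorial := by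
  rw [rowSet, hv_insert_max (fun y hy => by have := mem_range.mp hy; omega), hv_range]
  have := sum_vp_sub (p := p) (c - 1 + e) (c - 1) (by omega)
  rw [Nat.add_sub_cancel_left] at this
  omega

theorem card_colSet (c e : ℕ) : (colSet c e).card = c := by
  rw [colSet, card_erase_of_mem (by simp), card_range]
  omega

theorem sum_colSet {c e : ℕ} (h : e ≤ c) : ∑ x ∈ colSet c e, x = base c + e := by
  have h1 := Finset.add_sum_erase (range (c + 1)) (fun x => x) (a := c - e) (by simp)
  have h2 : ∑ x ∈ range (c + 1), x = base c + c := by rw [sum_range_succ, base_eq_sum_range]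
  rw [colSet]
  omega

theorem colSet_succ (k e : ℕ) :
    colSet (k + (e + 1)) (e + 1) = insert (k + (e + 1)) (colSet (k + e) e) := by
  ext x
  simp only [colSet, mem_erase, mem_range, mem_insert]
  omega

theorem hv_colSet (k : ℕ) : ∀ e, hv p (colSet (k + e) e) = -vp p e.factorial
  | 0 => by
    rw [show colSet (k + 0) 0 = range k by ext x; simp [colSet]; omega, hv_range]
    simp [vp_one]
  | e + 1 => by
    rw [colSet_succ, hv_insert_max (fun y hy => by simp [colSet] at hy; omega), hv_colSet k e]
    have h1 := Finset.add_sum_erase (range (k + e + 1)) (fun y => vp p (k + (e + 1) - y))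
      (a := k) (by simp)
    have h2 := sum_vp_sub (p := p) (k + (e + 1)) (k + e + 1) (by omega)
    have h3 : colSet (k + e) e = (range (k + e + 1)).erase k := by
      rw [colSet, Nat.add_sub_cancel]
    rw [h3]
    rw [show k + (e + 1) - (k + e + 1) = 0 by omega, Nat.factorial_zero, vp_one] at h2
    rw [show k + (e + 1) - k = e + 1 by omega] at h1
    rw [Nat.factorial_succ e, vp_mul (by omega) (Nat.factorial_ne_zero _)]
    omega

/-- The configuration of the partition `(2, 1)`. -/
def hookSet (c : ℕ) : Finset ℕ := insert (c + 1) (rowSet (c - 1) 1)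

theorem card_hookSet {c : ℕ} (hc : 2 ≤ c) : (hookSet c).card = c := by
  rw [hookSet, card_insert_of_notMem, card_rowSet (by omega)]
  · omega
  · simp [rowSet]; omega

theorem sum_hookSet {c : ℕ} (hc : 2 ≤ c) : ∑ x ∈ hookSet c, x = base c + 3 := by
  rw [hookSet, sum_insert (by simp [rowSet]; omega), sum_rowSet (by omega), base_eq_sum_range,
    base_eq_sum_range]
  conv_rhs => rw [show c = c - 1 + 1 by omega, sum_range_succ]
  omega

theorem hv_hookSet_two {c : ℕ} (hc : 2 ≤ c) : hv 2 (hookSet c) = 0 := by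
  rw [hookSet, hv_insert_max (fun y hy => by simp [rowSet] at hy; omega), hv_rowSet]
  have h2 := sum_vp_sub (p := 2) (c + 1) (c - 2) (by omega)
  rw [show c + 1 - (c - 2) = 3 by omega] at h2
  have h3 : vp 2 (Nat.factorial 3) = 1 := by
    rw [show Nat.factorial 3 = 2 * 3 from rfl, vp_p_mul Nat.prime_two (by norm_num),
      vp_eq_zero_of_not_dvd (by norm_num)]
    rfl
  have h4 : vp 2 2 = 1 := by
    rw [show (2 : ℕ) = 2 * 1 from rfl, vp_p_mul Nat.prime_two (by norm_num), vp_one]; rfl
  rw [rowSet, sum_insert (by simp), show c - 1 - 1 + 1 = c - 1 by omega, show c - 1 - 1 = c - 2 by omega,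
    show c + 1 - (c - 1) = 2 by omega, h4]
  simp only [Nat.factorial_one, vp_one]
  omega

/-! ### The runners -/

theorem sum_card_lt_nat (s : Finset ℕ) : ∑ i ∈ s, (s.filter fun l => l < i).card = base s.card := by
  rw [base_eq_sum_range]
  induction s using Finset.induction_on_max with
  | empty => simp
  | insert a s hlt ih =>
    have hnm : a ∉ s := fun h => lt_irrefl a (hlt a h)
    rw [card_insert_of_notMem hnm, sum_insert hnm, sum_range_succ, ← ih, add_comm]
    congr 1
    · refine Finset.sum_congr rfl fun i hi => ?_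
      rw [Finset.filter_insert, if_neg (lt_asymm (hlt i hi))]
    · rw [Finset.filter_insert, if_neg (lt_irrefl a), Finset.filter_true_of_mem hlt]

theorem sum_image_eq_sum_run {R : Type*} [AddCommMonoid R] (hp : 0 < p) {b : Fin N → ℕ}
    (hb : Injective b) (F : ℕ → R) :
    ∑ x ∈ Finset.univ.image b, F x = ∑ r : Fin p, ∑ q ∈ run p b r, F ((r : ℕ) + p * q) := by
  rw [Finset.sum_image (fun _ _ _ _ e => hb e),
    ← Finset.sum_fiberwise (s := Finset.univ) (fun i => (⟨b i % p, Nat.mod_lt _ hp⟩ : Fin p))]
  refine Finset.sum_congr rfl fun r _ => ?_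
  have hfib : (Finset.univ.filter fun i => (⟨b i % p, Nat.mod_lt _ hp⟩ : Fin p) = r) =
      Finset.univ.filter fun i => b i % p = (r : ℕ) := by
    refine Finset.filter_congr fun i _ => ?_
    simp [Fin.ext_iff]
  rw [hfib, run, Finset.sum_image]
  · refine Finset.sum_congr rfl fun i hi => ?_
    rw [← (Finset.mem_filter.mp hi).2, Nat.mod_add_div]
  · intro i hi l hl e
    simp only [coe_filter, mem_univ, true_and, Set.mem_setOf_eq] at hi hl
    have e' : b i / p = b l / p := e
    exact hb (by rw [← Nat.mod_add_div (b i) p, ← Nat.mod_add_div (b l) p, hi, hl, e'])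

theorem hv_eq_sum_run (hp : p.Prime) {b : Fin N → ℕ} (hb : Injective b) :
    hv p (Finset.univ.image b) =
      ∑ r : Fin p, (((base (cnt p b r) : ℕ) : ℤ) - ((∑ q ∈ run p b r, q : ℕ) : ℤ) + hv p (run p b r)) := by
  classical
  rw [hv, sum_image_eq_sum_run hp.pos hb]
  refine Finset.sum_congr rfl fun r _ => ?_
  have hmem : ∀ q, q ∈ run p b r ↔ (r : ℕ) + p * q ∈ Finset.univ.image b := fun q => by
    rw [mem_run]; simp [eq_comm]
  have hinner : ∀ q ∈ run p b r,
      (∑ y ∈ (Finset.univ.image b).filter (fun y => y < (r : ℕ) + p * q),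
        vp p ((r : ℕ) + p * q - y)) =
      ∑ q' ∈ (run p b r).filter (fun q' => q' < q), (1 + vp p (q - q')) := by
    intro q hq
    rw [← Finset.sum_filter_add_sum_filter_not ((Finset.univ.image b).filter
      (fun y => y < (r : ℕ) + p * q)) (fun y => y % p = (r : ℕ))]
    rw [Finset.sum_eq_zero (s := ((Finset.univ.image b).filter
      (fun y => y < (r : ℕ) + p * q)).filter (fun y => ¬ y % p = (r : ℕ))), add_zero]
    · refine Finset.sum_nbij' (fun y => y / p) (fun q' => (r : ℕ) + p * q') ?_ ?_ ?_ ?_ ?_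
      · intro y hy
        simp only [mem_filter] at hy ⊢
        have e : (r : ℕ) + p * (y / p) = y := by rw [← hy.2, Nat.mod_add_div]
        refine ⟨(hmem _).mpr (by rw [e]; exact hy.1.1), ?_⟩
        exact Nat.lt_of_mul_lt_mul_left (a := p) (by omega)
      · intro q' hq'
        simp only [mem_filter] at hq' ⊢
        refine ⟨⟨(hmem _).mp hq'.1, ?_⟩, ?_⟩
        · have := Nat.mul_lt_mul_of_pos_left hq'.2 hp.pos; omega
        · rw [Nat.add_mul_mod_self_left, Nat.mod_eq_of_lt r.2]
      · intro y hy
        simp only [mem_filter] at hy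
        simp only [← hy.2, Nat.mod_add_div]
      · intro q' _
        simp [Nat.add_mul_div_left _ _ hp.pos, Nat.div_eq_of_lt r.2]
      · intro y hy
        simp only [mem_filter] at hy
        have e : (r : ℕ) + p * (y / p) = y := by rw [← hy.2, Nat.mod_add_div]
        have hlt : y / p < q := Nat.lt_of_mul_lt_mul_left (a := p) (by omega)
        rw [show (r : ℕ) + p * q - y = p * (q - y / p) by rw [Nat.mul_sub]; omega,
          vp_p_mul hp (by omega)]
    · intro y hy
      simp only [mem_filter] at hy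
      refine vp_eq_zero_of_not_dvd fun hd => hy.2 ?_
      obtain ⟨k, hk⟩ := hd
      have e1 : ((r : ℕ) + p * q) % p = r := by rw [Nat.add_mul_mod_self_left, Nat.mod_eq_of_lt r.2]
      have e2 : (r : ℕ) + p * q = y + p * k := by omega
      rw [e2, Nat.add_mul_mod_self_left] at e1
      exact e1
  rw [hv, Finset.sum_congr rfl fun q hq => by rw [hinner q hq, vp_factorial_mul_add hp q r r.2]]
  rw [← card_run hb r, ← sum_card_lt_nat]
  push_cast
  rw [← Finset.sum_sub_distrib, ← Finset.sum_add_distrib]
  refine Finset.sum_congr rfl fun q _ => ?_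
  rw [Finset.sum_add_distrib, Finset.sum_const, nsmul_one]
  ring

/-! ### Degrees -/

theorem det_descFactorial {b : Fin N → ℕ} (hb : StrictMono b) :
    (Matrix.of fun i j : Fin N => (((b i).descFactorial j : ℕ) : ℚ)).det =
      ((∏ i : Fin N, ∏ j ∈ Ioi i, (b j - b i) : ℕ) : ℚ) := by
  have h := Matrix.det_eval_matrixOfPolynomials_eq_det_vandermonde (fun i => (b i : ℚ))
    (fun j : Fin N => descPochhammer ℚ j) (fun j => descPochhammer_natDegree ℚ j)
    (fun j => monic_descPochhammer ℚ j)
  simp only [descPochhammer_eval_eq_descFactorial] at h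
  rw [← h, Matrix.det_vandermonde, Nat.cast_prod]
  refine Finset.prod_congr rfl fun i _ => ?_
  rw [Nat.cast_prod]
  refine Finset.prod_congr rfl fun j hj => ?_
  rw [Nat.cast_sub (hb (Finset.mem_Ioi.mp hj)).le]

theorem X_one_eq_cst {n : ℕ} {b : Fin N → ℕ} (hd : deg b = base N + n) (hs : StrictMono b) :
    X N (typ (1 : Equiv.Perm (Fin n))) b = cst n b := by
  classical
  have h := sum_X_card_eq hd hs n
  have h2 : (contentPoly b).coeff n = 1 := by
    conv_lhs => rw [← contentPoly_natDegree hd hs]
    exact contentPoly_monic b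
  rw [h2] at h
  have hPL : (∑ σ : Equiv.Perm (Fin n), Polynomial.C (Bead29.X N (typ σ) b) *
      Polynomial.X ^ Multiset.card (typ σ)) =
      Polynomial.C (cst n b) * (contentPoly b).map (Int.castRingHom ℚ) := by
    refine Polynomial.eq_of_infinite_eval_eq _ _ (Set.infinite_of_injective_forall_mem
      (f := fun t : ℕ => ((t + 1 + N : ℕ) : ℚ)) (fun a c h => by simpa using h) fun t => ?_)
    show Polynomial.eval _ _ = Polynomial.eval _ _
    rw [Polynomial.eval_finsetSum]
    simp only [Polynomial.eval_mul, Polynomial.eval_C, Polynomial.eval_pow, Polynomial.eval_X]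
    rw [sum_X_pow hd hs (t + 1) (by omega), contentPoly]
    simp only [Polynomial.map_prod, Polynomial.map_add, Polynomial.map_X, Polynomial.map_C,
      Polynomial.eval_prod, Polynomial.eval_add, Polynomial.eval_X, Polynomial.eval_C]
    congr 1
    refine Finset.prod_congr rfl fun i _ => Finset.prod_congr rfl fun m _ => ?_
    simp only [eq_intCast]
    push_cast
    ring
  have h3 := congrArg (fun P : Polynomial ℚ => P.coeff n) hPL
  simp only [Polynomial.finsetSum_coeff, Polynomial.coeff_C_mul, Polynomial.coeff_X_pow,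
    Polynomial.coeff_map, h2, map_one, mul_one, mul_ite, mul_zero] at h3
  rw [← h3, Finset.sum_eq_single (1 : Equiv.Perm (Fin n))]
  · rw [if_pos ((typ_card_eq_iff _).mpr rfl).symm]
  · intro σ _ hσ
    exact if_neg fun (e : n = Multiset.card (typ σ)) => hσ ((typ_card_eq_iff σ).mp e.symm)
  · simp

/-- The degree as a natural number, and its valuation. -/
theorem exists_degree {n : ℕ} {b : Fin N → ℕ} (hd : deg b = base N + n) (hs : StrictMono b) :
    ∃ d : ℕ, 0 < d ∧ (d : ℚ) = X N (typ (1 : Equiv.Perm (Fin n))) b ∧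
      vp p d = vp p n.factorial + hv p (Finset.univ.image b) := by
  classical
  have hpos : 0 < X N (typ (1 : Equiv.Perm (Fin n))) b := by
    have : typ (1 : Equiv.Perm (Fin n)) = Multiset.replicate n 1 := by
      simp [typ, Equiv.Perm.parts_partition]
    rw [this]
    exact X_ones_pos hs hd
  obtain ⟨φ, ψ, hφ, hψ, hsub⟩ := isGeneralized_chr (n := n) b
  obtain ⟨d₁, hd₁⟩ := CharCore.IsCharacter.exists_degree hφ
  obtain ⟨d₂, hd₂⟩ := CharCore.IsCharacter.exists_degree hψ
  have hX : (((X N (typ (1 : Equiv.Perm (Fin n))) b : ℚ)) : ℂ) = (((d₁ : ℤ) - d₂ : ℤ) : ℂ) := by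
    have h0 := congrFun hsub 1
    simp only [chr, Pi.sub_apply, hd₁, hd₂] at h0
    push_cast
    exact h0
  have hXq : X N (typ (1 : Equiv.Perm (Fin n))) b = (((d₁ : ℤ) - d₂ : ℤ) : ℚ) :=
    Rat.cast_injective (α := ℂ) (by rw [hX]; push_cast; ring)
  have hz : 0 < (d₁ : ℤ) - d₂ := by rw [hXq] at hpos; exact_mod_cast hpos
  obtain ⟨d, hdd⟩ := Int.eq_ofNat_of_zero_le hz.le
  refine ⟨d, by omega, by rw [hXq, hdd]; simp, ?_⟩
  have hV0 : ∀ i ∈ (Finset.univ : Finset (Fin N)), ∏ j ∈ Ioi i, (b j - b i) ≠ 0 := fun i _ =>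
    Finset.prod_ne_zero_iff.mpr fun j hj => by
      have := hs (Finset.mem_Ioi.mp hj); omega
  have hkey : d * ∏ i, (b i).factorial = n.factorial * ∏ i : Fin N, ∏ j ∈ Ioi i, (b j - b i) := by
    have e : ((d : ℕ) : ℚ) = X N (typ (1 : Equiv.Perm (Fin n))) b := by rw [hXq, hdd]; simp
    have h1 := X_one_eq_cst hd hs
    rw [← e, cst, det_descFactorial hs] at h1
    have hne : (∏ i, ((b i).factorial : ℚ)) ≠ 0 :=
      Finset.prod_ne_zero_iff.mpr fun i _ => by exact_mod_cast Nat.factorial_ne_zero _
    rw [eq_div_iff hne] at h1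
    exact_mod_cast h1
  have h4 := congrArg (vp p) hkey
  rw [vp_mul (by omega) (Finset.prod_ne_zero_iff.mpr fun i _ => Nat.factorial_ne_zero _),
    vp_mul (Nat.factorial_ne_zero _) (Finset.prod_ne_zero_iff.mpr hV0),
    vp_prod _ _ (fun i _ => Nat.factorial_ne_zero _), vp_prod _ _ hV0] at h4
  rw [hv, Finset.sum_image (fun _ _ _ _ e => hs.injective e), Finset.sum_sub_distrib]
  have h5 : ∑ i : Fin N, vp p (∏ j ∈ Ioi i, (b j - b i)) =
      ∑ i : Fin N, ∑ y ∈ (Finset.univ.image b).filter (fun y => y < b i), vp p (b i - y) := by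
    rw [Finset.sum_congr rfl fun i _ => vp_prod _ _ (fun j hj => by
      have := hs (Finset.mem_Ioi.mp hj); omega)]
    rw [Finset.sum_comm' (t' := (Finset.univ : Finset (Fin N))) (s' := fun j => Finset.Iio j)]
    · refine Finset.sum_congr rfl fun j _ => ?_
      rw [Finset.filter_image, Finset.sum_image (fun _ _ _ _ e => hs.injective e)]
      refine Finset.sum_congr ?_ fun _ _ => rfl
      ext i; simp [hs.lt_iff_lt]
    · intro i j; simp
  rw [h5] at h4
  omega

end Cfsg.Agent.Bead29
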