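import Mathlib.GroupTheory.Sylow
import Mathlib.GroupTheory.SpecificGroups.Alternating
import Cfsg.Agent.Lib.PGroup.Basic
import Cfsg.Agent.Lib.CharCore.Linear
import Cfsg.Agent.Lib.CharCore.Complete
import Cfsg.Agent.Lib.CharClifford.Separation
import Cfsg.Agent.Lib.BlocksCore.DefectZero
import Cfsg.Agent.Bead29.Vdm

/-!
# A wreath product model of the Sylow subgroups of symmetric groups

For a Sylow `p`-subgroup `Q` of `Sym w`, the group of permutations `(i, x) ↦ (q i, x + f i)` of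
`Fin w × ZMod p` is a Sylow subgroup; it has an irreducible character of degree `p` for `w ≥ p`.
-/

set_option autoImplicit false

namespace Cfsg.Agent.Bead29

open Finset Function

/-- The permutation `(i, x) ↦ (q i, x + f i)`. -/
def shear {α β : Type*} [AddGroup β] (q : Equiv.Perm α) (f : α → β) : Equiv.Perm (α × β) :=
  Equiv.prodShear q fun i => Equiv.addRight (f i)

theorem shear_apply {α β : Type*} [AddGroup β] (q : Equiv.Perm α) (f : α → β) (i : α) (x : β) :
    shear q f (i, x) = (q i, x + f i) := rfl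

theorem shear_mul {α β : Type*} [AddCommGroup β] (q q' : Equiv.Perm α) (f f' : α → β) :
    shear q f * shear q' f' = shear (q * q') (fun i => f' i + f (q' i)) := by
  refine Equiv.ext fun x => ?_
  obtain ⟨i, x⟩ := x
  simp only [Equiv.Perm.mul_apply, shear_apply, add_assoc]

theorem shear_one {α β : Type*} [AddCommGroup β] :
    shear (1 : Equiv.Perm α) (0 : α → β) = 1 := by
  refine Equiv.ext fun x => ?_
  obtain ⟨i, x⟩ := x
  simp [shear_apply]

theorem shear_inj {α β : Type*} [AddGroup β] {q q' : Equiv.Perm α} {f f' : α → β}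
    (h : shear q f = shear q' f') : q = q' ∧ f = f' := by
  have h' : ∀ i, (q i, (0 : β) + f i) = (q' i, 0 + f' i) := fun i => by
    rw [← shear_apply q f, ← shear_apply q' f', h]
  exact ⟨Equiv.ext fun i => (Prod.ext_iff.mp (h' i)).1,
    funext fun i => by simpa using (Prod.ext_iff.mp (h' i)).2⟩

section Character

variable {H G' : Type*} [Group H] [Finite H] [Group G'] {p : ℕ} [Fact p.Prime]

/-- A noncommutative group has an irreducible character of degree different from one. -/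
theorem exists_degree_ne_one {G : Type*} [Group G] [Finite G] (a b : G) (hab : a * b ≠ b * a) :
    ∃ φ : Cfsg.IrrCharacter G, (φ : G → ℂ) 1 ≠ 1 := by
  by_contra hno
  push Not at hno
  refine hab ?_
  have h : IsConj (a * b * a⁻¹ * b⁻¹) 1 := by
    rw [CharCore.isConj_iff_forall_irr]
    intro φ
    obtain ⟨f, hf⟩ :=
      CharCore.IsCharacter.exists_hom_of_degree_one (CharCore.irr_isCharacter φ) (hno φ)
    simp [hf, mul_comm, mul_left_comm]
  rw [isConj_one_left] at h
  calc a * b = a * b * a⁻¹ * b⁻¹ * (b * a) := by group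
    _ = b * a := by rw [h, one_mul]

/-- A degree criterion. -/
theorem exists_charDegree_eq_prime (hH : IsPGroup p H) (Φ : H →* G') (A : Subgroup H)
    (hA : A.index ∣ p) (hcomm : ∀ a ∈ A, ∀ b ∈ A, Φ a * Φ b = Φ b * Φ a) (a b : H)
    (hab : Φ a * Φ b ≠ Φ b * Φ a) :
    ∃ φ : Cfsg.IrrCharacter H, Cfsg.charDegree (φ : H → ℂ) = p := by
  have hp := (Fact.out : p.Prime)
  have : Finite Φ.range := Finite.of_surjective Φ.rangeRestrict Φ.rangeRestrict_surjective
  obtain ⟨φ, hφ⟩ := exists_degree_ne_one (Φ.rangeRestrict a) (Φ.rangeRestrict b)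
    (fun h => hab (congrArg Subtype.val h))
  refine ⟨⟨_, CharCore.isIrrCharacter_comp_surjective φ.2 _ Φ.rangeRestrict_surjective⟩, ?_⟩
  have := Fintype.ofFinite Φ.range
  have hdvd := BlocksCore.charDegree_dvd_card φ
  obtain ⟨m, ρ, hρ, hρe⟩ := φ.2
  have hm1 : (φ : Φ.range → ℂ) 1 = (m : ℂ) := by rw [← hρe]; simp
  have hdeg : Cfsg.charDegree (φ : Φ.range → ℂ) = m := by
    rw [Cfsg.charDegree, hm1, Complex.natCast_re, Nat.floor_natCast]
  have hP : IsPGroup p Φ.range := hH.of_surjective _ Φ.rangeRestrict_surjective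
  obtain ⟨k, hk⟩ := IsPGroup.iff_card.mp hP
  rw [hdeg, hk] at hdvd
  obtain ⟨j, -, hj⟩ := (Nat.dvd_prime_pow hp).mp hdvd
  have hle : m ≤ p := by
    have h := CharClifford.finrank_le_index_of_commute ρ (A.map Φ.rangeRestrict) (by
      rintro _ ⟨x, hx, rfl⟩ _ ⟨y, hy, rfl⟩
      exact Subtype.ext (hcomm x hx y hy))
    rw [Module.finrank_fin_fun] at h
    exact h.trans (Nat.le_of_dvd hp.pos
      ((Subgroup.index_map_dvd A Φ.rangeRestrict_surjective).trans hA))
  have hj1 : j = 1 := by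
    rcases j with _ | _ | j
    · exact absurd (by rw [hm1, hj]; simp) hφ
    · rfl
    · exfalso
      have : p ^ 2 ≤ p ^ (j + 1 + 1) := Nat.pow_le_pow_right hp.pos (by omega)
      rw [pow_two] at this
      have := Nat.mul_le_mul_left p hp.two_le
      have := hp.two_le
      omega
  show ⌊((φ : Φ.range → ℂ) (Φ.rangeRestrict 1)).re⌋₊ = p
  rw [map_one, hm1, Complex.natCast_re, Nat.floor_natCast, hj, hj1, pow_one]

end Character

variable {w p : ℕ} [Fact p.Prime]

/-- The wreath model. -/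
def wr (Q : Subgroup (Equiv.Perm (Fin w))) (p : ℕ) : Subgroup (Equiv.Perm (Fin w × ZMod p)) where
  carrier := {σ | ∃ q ∈ Q, ∃ f : Fin w → ZMod p, σ = shear q f}
  one_mem' := ⟨1, Q.one_mem, 0, shear_one.symm⟩
  mul_mem' := by
    rintro _ _ ⟨q, hq, f, rfl⟩ ⟨q', hq', f', rfl⟩
    exact ⟨q * q', Q.mul_mem hq hq', _, shear_mul q q' f f'⟩
  inv_mem' := by
    rintro _ ⟨q, hq, f, rfl⟩
    refine ⟨q⁻¹, Q.inv_mem hq, fun i => -f (q⁻¹ i), inv_eq_of_mul_eq_one_right ?_⟩
    rw [shear_mul, mul_inv_cancel, ← shear_one]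
    congr 1
    funext i
    simp

theorem card_wr (Q : Subgroup (Equiv.Perm (Fin w))) :
    Nat.card (wr Q p) = Nat.card Q * p ^ w := by
  let F : ↥Q × (Fin w → ZMod p) → wr Q p := fun x => ⟨shear x.1 x.2, x.1, x.1.2, x.2, rfl⟩
  have hF : Bijective F := by
    refine ⟨fun x y h => ?_, ?_⟩
    · obtain ⟨h1, h2⟩ := shear_inj (congrArg Subtype.val h)
      exact Prod.ext (Subtype.ext h1) h2
    · rintro ⟨_, q, hq, f, rfl⟩
      exact ⟨(⟨q, hq⟩, f), rfl⟩
  rw [← Nat.card_eq_of_bijective F hF, Nat.card_prod, Nat.card_fun, Nat.card_zmod,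
    Nat.card_eq_fintype_card (α := Fin w), Fintype.card_fin]

theorem card_wr_sylow (Q : Sylow p (Equiv.Perm (Fin w))) :
    Nat.card (wr (Q : Subgroup (Equiv.Perm (Fin w))) p) = p ^ (w + w.factorial.factorization p) := by
  rw [card_wr, Sylow.card_eq_multiplicity, Nat.card_perm, Nat.card_eq_fintype_card,
    Fintype.card_fin, pow_add, mul_comm]

theorem isPGroup_wr (Q : Sylow p (Equiv.Perm (Fin w))) :
    IsPGroup p (wr (Q : Subgroup (Equiv.Perm (Fin w))) p) :=
  IsPGroup.of_card (card_wr_sylow Q)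

theorem wr_choose_eq {Q : Subgroup (Equiv.Perm (Fin w))} (σ : wr Q p) {q : Equiv.Perm (Fin w)}
    {f : Fin w → ZMod p} (h : (σ : Equiv.Perm (Fin w × ZMod p)) = shear q f) : σ.2.choose = q :=
  (shear_inj (σ.2.choose_spec.2.choose_spec.symm.trans h)).1

/-- The `Q`-component. -/
noncomputable def wrProj (Q : Subgroup (Equiv.Perm (Fin w))) : wr Q p →* Q where
  toFun σ := ⟨σ.2.choose, σ.2.choose_spec.1⟩
  map_one' := Subtype.ext (wr_choose_eq (f := (0 : Fin w → ZMod p)) 1 shear_one.symm)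
  map_mul' σ τ := Subtype.ext (wr_choose_eq
    (f := fun i => τ.2.choose_spec.2.choose i + σ.2.choose_spec.2.choose (τ.2.choose i)) (σ * τ) (by
      rw [Subgroup.coe_mul, Subgroup.coe_mul, ← shear_mul]
      exact congrArg₂ (· * ·) σ.2.choose_spec.2.choose_spec τ.2.choose_spec.2.choose_spec))

theorem wrProj_eq {Q : Subgroup (Equiv.Perm (Fin w))} (σ : wr Q p) {q : Equiv.Perm (Fin w)}
    {f : Fin w → ZMod p} (h : (σ : Equiv.Perm (Fin w × ZMod p)) = shear q f) :
    (wrProj Q σ : Equiv.Perm (Fin w)) = q :=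
  (shear_inj (σ.2.choose_spec.2.choose_spec.symm.trans h)).1

/-- The translation component. -/
def wrFun (σ : Equiv.Perm (Fin w × ZMod p)) : Fin w → ZMod p := fun i => (σ (i, 0)).2

theorem wrFun_shear (q : Equiv.Perm (Fin w)) (f : Fin w → ZMod p) : wrFun (shear q f) = f := by
  funext i; simp [wrFun, shear_apply]

theorem eq_shear {Q : Subgroup (Equiv.Perm (Fin w))} (σ : wr Q p) :
    (σ : Equiv.Perm (Fin w × ZMod p)) =
      shear (wrProj Q σ : Equiv.Perm (Fin w)) (wrFun (σ : Equiv.Perm (Fin w × ZMod p))) := by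
  obtain ⟨_, q, hq, f, rfl⟩ := σ
  rw [wrProj_eq _ rfl, wrFun_shear]

/-- An orbit with a map to `ZMod p` equivariant along a surjective homomorphism. -/
theorem exists_equivariant {Q : Subgroup (Equiv.Perm (Fin w))} (hQ : IsPGroup p Q) (hQ1 : Q ≠ ⊥) :
    ∃ (O : Finset (Fin w)) (ρ : Q →* Multiplicative (ZMod p)) (κ : Fin w → ZMod p),
      Surjective ρ ∧ (∀ (q : Q) i, (q : Equiv.Perm (Fin w)) i ∈ O ↔ i ∈ O) ∧
      (∀ (q : Q), ∀ i ∈ O, κ ((q : Equiv.Perm (Fin w)) i) = Multiplicative.toAdd (ρ q) + κ i) ∧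
      O.Nonempty := by
  classical
  obtain ⟨q0, hq0, hne⟩ := (Subgroup.bot_or_exists_ne_one Q).resolve_left hQ1
  obtain ⟨x0, hx0⟩ : ∃ x, q0 x ≠ x := by
    by_contra h
    push Not at h
    exact hne (Equiv.ext h)
  have hst : MulAction.stabilizer Q x0 ≠ ⊤ := fun h =>
    hx0 (show (⟨q0, hq0⟩ : Q) • x0 = x0 from MulAction.mem_stabilizer_iff.mp (h ▸ Subgroup.mem_top _))
  obtain ⟨M, hle, hMn, hMi⟩ := PGroup.exists_le_index_eq_prime hQ hst
  have hcard : Nat.card (Q ⧸ M) = Nat.card (Multiplicative (ZMod p)) := by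
    rw [← Subgroup.index_eq_card, hMi, Nat.card_congr Multiplicative.toAdd, Nat.card_zmod]
  have : IsCyclic (Q ⧸ M) := isCyclic_of_prime_card (p := p) (by rw [← Subgroup.index_eq_card, hMi])
  let e := mulEquivOfCyclicCardEq hcard
  let ρ : Q →* Multiplicative (ZMod p) := e.toMonoidHom.comp (QuotientGroup.mk' M)
  have hker : ∀ m ∈ M, ρ m = 1 := fun m hm => by
    show e (QuotientGroup.mk' M m) = 1
    rw [show QuotientGroup.mk' M m = 1 from (QuotientGroup.eq_one_iff m).mpr hm, map_one]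
  have hwd : ∀ q q' : Q, q • x0 = q' • x0 → ρ q = ρ q' := by
    intro q q' h
    have h' : ρ (q⁻¹ * q') = 1 := hker _ (hle (by
      rw [MulAction.mem_stabilizer_iff, mul_smul, ← h, inv_smul_smul]))
    rw [map_mul, map_inv, inv_mul_eq_one] at h'
    exact h'
  set O : Finset (Fin w) := Finset.univ.filter fun i => i ∈ MulAction.orbit Q x0 with hO
  let κ : Fin w → ZMod p := fun i =>
    if h : ∃ q : Q, q • x0 = i then Multiplicative.toAdd (ρ h.choose) else 0
  have hκ : ∀ q : Q, κ (q • x0) = Multiplicative.toAdd (ρ q) := fun q => by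
    have h : ∃ q' : Q, q' • x0 = q • x0 := ⟨q, rfl⟩
    simp only [κ, dif_pos h]
    rw [hwd _ _ h.choose_spec]
  have hmem : ∀ (q : Q) i, q • i ∈ O ↔ i ∈ O := fun q i => by
    simp only [hO, mem_filter, mem_univ, true_and]
    exact ⟨fun h => by simpa using MulAction.mem_orbit_of_mem_orbit q⁻¹ h,
      fun h => MulAction.mem_orbit_of_mem_orbit q h⟩
  refine ⟨O, ρ, κ, e.surjective.comp (QuotientGroup.mk'_surjective M), hmem, fun q i hi => ?_,
    ⟨x0, by simp [hO]⟩⟩
  simp only [hO, mem_filter, mem_univ, true_and] at hi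
  obtain ⟨q', rfl⟩ := hi
  show κ (q • q' • x0) = _
  rw [smul_smul, hκ, hκ, map_mul]
  rfl

/-- The criterion applied to a subgroup of the wreath model. -/
theorem exists_degree_prime_of_orbit {Q : Subgroup (Equiv.Perm (Fin w))} (hQ : IsPGroup p Q)
    (O : Finset (Fin w)) (ρ : Q →* Multiplicative (ZMod p)) (κ : Fin w → ZMod p)
    (hinv : ∀ (q : Q) i, (q : Equiv.Perm (Fin w)) i ∈ O ↔ i ∈ O)
    (heq : ∀ (q : Q), ∀ i ∈ O, κ ((q : Equiv.Perm (Fin w)) i) = Multiplicative.toAdd (ρ q) + κ i)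
    {H : Type*} [Group H] [Finite H] (hH : IsPGroup p H) (ι : H →* wr Q p) (a b : H)
    (ha : Multiplicative.toAdd (ρ (wrProj Q (ι a))) = 1)
    (ha' : wrFun ((ι a : wr Q p) : Equiv.Perm (Fin w × ZMod p)) = 0)
    (hb : wrProj Q (ι b) = 1)
    (hb' : ∑ i ∈ O.filter (fun i => κ i = 0), wrFun ((ι b : wr Q p) : Equiv.Perm (Fin w × ZMod p)) i ≠
      ∑ i ∈ O.filter (fun i => κ i = 1), wrFun ((ι b : wr Q p) : Equiv.Perm (Fin w × ZMod p)) i) :
    ∃ φ : Cfsg.IrrCharacter H, Cfsg.charDegree (φ : H → ℂ) = p := by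
  classical
  have hp := (Fact.out : p.Prime)
  have : NeZero p := ⟨hp.pos.ne'⟩
  let g : (Fin w → ZMod p) → ZMod p → ZMod p := fun f t => ∑ i ∈ O.filter (fun i => κ i = t), f i
  let s : H → ZMod p := fun h => Multiplicative.toAdd (ρ (wrProj Q (ι h)))
  let F : H → Equiv.Perm (ZMod p × ZMod p) := fun h =>
    shear (Equiv.addLeft (s h)) (g (wrFun ((ι h : wr Q p) : Equiv.Perm (Fin w × ZMod p))))
  have hs : ∀ x y, s (x * y) = s x + s y := fun x y => by simp [s]
  have hF : ∀ x y, F (x * y) = F x * F y := by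
    intro x y
    simp only [F, shear_mul]
    have e1 : (Equiv.addLeft (s (x * y)) : Equiv.Perm (ZMod p)) =
        Equiv.addLeft (s x) * Equiv.addLeft (s y) := by
      rw [hs]; ext t; simp [add_assoc]
    rw [e1]
    congr 1
    funext t
    set q := (wrProj Q (ι x) : Q) with hq
    set q' := (wrProj Q (ι y) : Q) with hq'
    have hfun : wrFun ((ι (x * y) : wr Q p) : Equiv.Perm (Fin w × ZMod p)) = fun i =>
        wrFun ((ι y : wr Q p) : Equiv.Perm (Fin w × ZMod p)) i +
          wrFun ((ι x : wr Q p) : Equiv.Perm (Fin w × ZMod p)) ((q' : Equiv.Perm (Fin w)) i) := by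
      rw [map_mul, Subgroup.coe_mul]
      conv_lhs => rw [eq_shear (ι x), eq_shear (ι y), shear_mul, wrFun_shear]
    simp only [g, hfun, Finset.sum_add_distrib, Equiv.coe_addLeft]
    congr 1
    refine Finset.sum_equiv (q' : Equiv.Perm (Fin w)) (fun i => ?_) fun i _ => rfl
    simp only [mem_filter]
    constructor
    · rintro ⟨h1, h2⟩
      exact ⟨(hinv q' i).mpr h1, by rw [heq q' i h1, h2]⟩
    · rintro ⟨h1, h2⟩
      have h1' := (hinv q' i).mp h1
      exact ⟨h1', by rw [heq q' i h1'] at h2; exact add_left_cancel h2⟩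
  let Φ : H →* Equiv.Perm (ZMod p × ZMod p) := MonoidHom.mk' F hF
  refine exists_charDegree_eq_prime hH Φ (ρ.comp ((wrProj Q).comp ι)).ker ?_ ?_ a b ?_
  · rw [Subgroup.index_ker]
    have hd := Subgroup.card_subgroup_dvd_card (ρ.comp ((wrProj Q).comp ι)).range
    rwa [Nat.card_congr Multiplicative.toAdd, Nat.card_zmod] at hd
  · intro x hx y hy
    have hx' : s x = 0 := by
      have := MonoidHom.mem_ker.mp hx
      simp only [MonoidHom.comp_apply] at this
      simp [s, this]
    have hy' : s y = 0 := by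
      have := MonoidHom.mem_ker.mp hy
      simp only [MonoidHom.comp_apply] at this
      simp [s, this]
    show F x * F y = F y * F x
    simp only [F, shear_mul, hx', hy']
    congr 1
    funext t
    simp [add_comm]
  · intro h
    refine hb' ?_
    have hsa : s a = 1 := ha
    have hsb : s b = 0 := by simp [s, hb]
    have h' : F a * F b = F b * F a := h
    simp only [F, shear_mul, hsa, hsb, ha'] at h'
    have := congrFun (shear_inj h').2 0
    simpa [g] using this

theorem sign_shear_two (q : Equiv.Perm (Fin w)) (f : Fin w → ZMod 2) :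
    Equiv.Perm.sign (shear q f) = ∏ i, Equiv.Perm.sign (Equiv.addRight (f i)) := by
  have h : shear q f = (Equiv.prodCongrLeft fun _ : ZMod 2 => q) *
      Equiv.prodCongrRight (fun i => Equiv.addRight (f i)) := by
    refine Equiv.ext fun x => ?_
    obtain ⟨i, x⟩ := x
    simp [shear_apply]
  rw [h, map_mul, Equiv.Perm.sign_prodCongrLeft, Equiv.Perm.sign_prodCongrRight,
    Finset.prod_const, Finset.card_univ, ZMod.card, pow_two, Int.units_mul_self, one_mul]

theorem ne_bot_of_le (Q : Sylow p (Equiv.Perm (Fin w))) (hw : p ≤ w) :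
    (Q : Subgroup (Equiv.Perm (Fin w))) ≠ ⊥ := by
  intro h
  have h1 := Sylow.card_eq_multiplicity Q
  rw [h, Subgroup.card_bot, Nat.card_perm, Nat.card_eq_fintype_card, Fintype.card_fin] at h1
  have hp := (Fact.out : p.Prime)
  have := hp.factorization_pos_of_dvd (Nat.factorial_ne_zero w) ((Nat.Prime.dvd_factorial hp).mpr hw)
  have := Nat.one_lt_pow this.ne' hp.one_lt
  omega

/-- The wreath model has an irreducible character of degree `p`. -/
theorem exists_degree_wr (Q : Sylow p (Equiv.Perm (Fin w))) (hw : p ≤ w) :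
    ∃ φ : Cfsg.IrrCharacter (wr (Q : Subgroup (Equiv.Perm (Fin w))) p),
      Cfsg.charDegree (φ : wr (Q : Subgroup (Equiv.Perm (Fin w))) p → ℂ) = p := by
  classical
  obtain ⟨O, ρ, κ, hsur, hinv, heq, i0, hi0⟩ := exists_equivariant Q.isPGroup' (ne_bot_of_le Q hw)
  obtain ⟨q1, hq1⟩ := hsur (Multiplicative.ofAdd 1)
  obtain ⟨q2, hq2⟩ := hsur (Multiplicative.ofAdd (-κ i0))
  set i1 := (q2 : Equiv.Perm (Fin w)) i0 with hi1
  have hκ1 : κ i1 = 0 := by rw [hi1, heq q2 i0 hi0, hq2, toAdd_ofAdd, neg_add_cancel]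
  refine exists_degree_prime_of_orbit Q.isPGroup' O ρ κ hinv heq (isPGroup_wr Q) (MonoidHom.id _)
    ⟨shear q1 0, q1, q1.2, 0, rfl⟩
    ⟨shear 1 (Pi.single i1 1), 1, Subgroup.one_mem _, _, rfl⟩ ?_ ?_ ?_ ?_
  · rw [MonoidHom.id_apply]
    rw [show wrProj _ (⟨shear q1 0, q1, q1.2, 0, rfl⟩ : wr (Q : Subgroup (Equiv.Perm (Fin w))) p) = q1
      from Subtype.ext (wrProj_eq _ rfl), hq1]
    rfl
  · simp [wrFun_shear]
  · exact Subtype.ext (wrProj_eq _ rfl)
  · simp only [MonoidHom.id_apply, wrFun_shear]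
    rw [Finset.sum_eq_single i1 (fun i _ hi => by simp [hi]) (fun h => absurd (mem_filter.mpr
      ⟨(hinv q2 i0).mpr hi0, hκ1⟩) h), Finset.sum_eq_zero (fun i hi => by
        obtain ⟨-, h1⟩ := mem_filter.mp hi
        have : i ≠ i1 := by
          rintro rfl
          rw [hκ1] at h1
          exact zero_ne_one h1
        simp [this])]
    simp

theorem mulEquiv_degree {G H : Type*} [Group G] [Group H] [Finite G] [Finite H] (e : H ≃* G)
    {d : ℕ} (h : ∃ φ : Cfsg.IrrCharacter G, Cfsg.charDegree (φ : G → ℂ) = d) :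
    ∃ φ : Cfsg.IrrCharacter H, Cfsg.charDegree (φ : H → ℂ) = d := by
  obtain ⟨φ, hφ⟩ := h
  refine ⟨⟨_, CharCore.isIrrCharacter_comp_surjective φ.2 e.toMonoidHom e.surjective⟩, ?_⟩
  show ⌊((φ : G → ℂ) (e 1)).re⌋₊ = d
  rw [map_one]
  exact hφ

/-- The even part of the wreath model, `p = 2`. -/
theorem exists_degree_wr_alt (Q : Sylow 2 (Equiv.Perm (Fin w))) (hw : 3 ≤ w) :
    ∃ φ : Cfsg.IrrCharacter
      ↥(wr (Q : Subgroup (Equiv.Perm (Fin w))) 2 ⊓ alternatingGroup (Fin w × ZMod 2) :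
        Subgroup _),
      Cfsg.charDegree (φ : ↥(wr (Q : Subgroup (Equiv.Perm (Fin w))) 2 ⊓
        alternatingGroup (Fin w × ZMod 2) : Subgroup _) → ℂ) = 2 := by
  classical
  set E := wr (Q : Subgroup (Equiv.Perm (Fin w))) 2 ⊓ alternatingGroup (Fin w × ZMod 2) with hE
  have hEp : IsPGroup 2 E := (isPGroup_wr Q).to_le inf_le_left
  let ι : E →* wr (Q : Subgroup (Equiv.Perm (Fin w))) 2 := Subgroup.inclusion inf_le_left
  have heven : ∀ q : (Q : Subgroup (Equiv.Perm (Fin w))),
      shear (q : Equiv.Perm (Fin w)) (0 : Fin w → ZMod 2) ∈ E := fun q =>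
    ⟨⟨q, q.2, 0, rfl⟩, by
      show Equiv.Perm.sign _ = 1
      rw [sign_shear_two]
      refine Finset.prod_eq_one fun i _ => ?_
      rw [Pi.zero_apply, Equiv.addRight_zero]
      exact map_one _⟩
  obtain ⟨O, ρ, κ, hsur, hinv, heq, i0, hi0⟩ :=
    exists_equivariant Q.isPGroup' (ne_bot_of_le Q (by omega))
  obtain ⟨q1, hq1⟩ := hsur (Multiplicative.ofAdd 1)
  obtain ⟨q2, hq2⟩ := hsur (Multiplicative.ofAdd (-κ i0))
  set i1 := (q2 : Equiv.Perm (Fin w)) i0 with hi1
  have hκ1 : κ i1 = 0 := by rw [hi1, heq q2 i0 hi0, hq2, toAdd_ofAdd, neg_add_cancel]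
  have hi1O : i1 ∈ O := (hinv q2 i0).mpr hi0
  by_cases hO : ∃ j, j ∉ O
  · obtain ⟨j, hj⟩ := hO
    have hji : j ≠ i1 := fun h => hj (h ▸ hi1O)
    set f : Fin w → ZMod 2 := fun i => if i = i1 ∨ i = j then 1 else 0 with hf
    have hfE : shear (1 : Equiv.Perm (Fin w)) f ∈ E := ⟨⟨1, Subgroup.one_mem _, f, rfl⟩, by
      show Equiv.Perm.sign _ = 1
      rw [sign_shear_two, ← Finset.prod_subset (subset_univ ({i1, j} : Finset (Fin w))) fun i _ hi => by
        simp only [mem_insert, mem_singleton] at hi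
        rw [show f i = 0 by simp [hf, hi], Equiv.addRight_zero]
        exact map_one _, Finset.prod_pair hji.symm, show f i1 = 1 by simp [hf],
        show f j = 1 by simp [hf], Int.units_mul_self]⟩
    refine exists_degree_prime_of_orbit Q.isPGroup' O ρ κ hinv heq hEp ι
      ⟨shear q1 0, heven q1⟩ ⟨shear 1 f, hfE⟩ ?_ ?_ ?_ ?_
    · rw [show wrProj _ (ι ⟨shear q1 0, heven q1⟩) = q1 from Subtype.ext (wrProj_eq _ rfl), hq1]
      rfl
    · exact wrFun_shear _ _
    · exact Subtype.ext (wrProj_eq _ rfl)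
    · have e : wrFun ((ι ⟨shear 1 f, hfE⟩ : wr (Q : Subgroup (Equiv.Perm (Fin w))) 2) :
          Equiv.Perm (Fin w × ZMod 2)) = f := wrFun_shear _ _
      rw [e, Finset.sum_eq_single i1 (fun i hi hne => by
        obtain ⟨h1, -⟩ := mem_filter.mp hi
        have : i ≠ j := fun h => hj (h ▸ h1)
        simp [hf, hne, this]) (fun h => absurd (mem_filter.mpr ⟨hi1O, hκ1⟩) h),
        Finset.sum_eq_zero (fun i hi => by
        obtain ⟨h1, h2⟩ := mem_filter.mp hi
        have h3 : i ≠ j := fun h => hj (h ▸ h1)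
        have h4 : i ≠ i1 := by rintro rfl; rw [hκ1] at h2; exact zero_ne_one h2
        simp [hf, h3, h4])]
      simp [hf]
  · -- `Q` is transitive, so `w` is even and `Q` itself is a wreath product
    push Not at hO
    have hw2 : 2 ∣ w := by
      have hcard : (O.filter fun i => κ i = 0).card = (O.filter fun i => κ i = 1).card :=
        Finset.card_equiv (q1 : Equiv.Perm (Fin w)) fun i => by
          simp only [mem_filter, hO, true_and]
          rw [heq q1 i (hO i), hq1]
          simp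
      have hz : ∀ z : ZMod 2, z = 0 ∨ z = 1 := by decide
      have h : (O.filter fun i => κ i = 0).card + (O.filter fun i => ¬ κ i = 0).card = w := by
        rw [Finset.card_filter_add_card_filter_not, Finset.eq_univ_of_forall hO, card_univ,
          Fintype.card_fin]
      rw [show (O.filter fun i => ¬ κ i = 0) = O.filter fun i => κ i = 1 from
        Finset.filter_congr fun i _ => by rcases hz (κ i) with h | h <;> simp [h]] at h
      omega
    obtain ⟨m, rfl⟩ := hw2
    let e : Fin m × ZMod 2 ≃ Fin (2 * m) := Fintype.equivFinOfCardEq (by simp [mul_comm])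
    obtain ⟨Q'⟩ : Nonempty (Sylow 2 (Equiv.Perm (Fin m))) := inferInstance
    let E' := (wr (Q' : Subgroup (Equiv.Perm (Fin m))) 2).map e.permCongrHom.toMonoidHom
    let eK : wr (Q' : Subgroup (Equiv.Perm (Fin m))) 2 ≃* E' :=
      Subgroup.equivMapOfInjective _ _ e.permCongrHom.injective
    have hE' : Nat.card E' = 2 ^ (Nat.card (Equiv.Perm (Fin (2 * m)))).factorization 2 := by
      rw [← Nat.card_congr eK.toEquiv, card_wr_sylow, Nat.card_perm, Nat.card_eq_fintype_card,
        Fintype.card_fin]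
      congr 1
      have h := vp_factorial_mul_add (p := 2) Nat.prime_two m 0 two_pos
      simp only [vp, zero_add] at h
      omega
    let S := Sylow.ofCard E' hE'
    let eQ : (Q : Subgroup (Equiv.Perm (Fin (2 * m)))) ≃* E' := Sylow.equiv Q S
    obtain ⟨φ, hφ⟩ := mulEquiv_degree (eQ.trans eK.symm) (exists_degree_wr Q' (by omega))
    let π : E →* (Q : Subgroup (Equiv.Perm (Fin (2 * m)))) := (wrProj _).comp ι
    have hπ : Surjective π := fun q => ⟨⟨shear q 0, heven q⟩, Subtype.ext (wrProj_eq _ rfl)⟩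
    refine ⟨⟨_, CharCore.isIrrCharacter_comp_surjective φ.2 π hπ⟩, ?_⟩
    show ⌊((φ : _ → ℂ) (π 1)).re⌋₊ = 2
    rw [map_one]
    exact hφ

/-- For `w < p` the wreath model is commutative. -/
theorem commute_wr (Q : Sylow p (Equiv.Perm (Fin w))) (hw : w < p) :
    ∀ a ∈ wr (Q : Subgroup (Equiv.Perm (Fin w))) p, ∀ b ∈ wr (Q : Subgroup (Equiv.Perm (Fin w))) p,
      a * b = b * a := by
  have hp := (Fact.out : p.Prime)
  have hQ : (Q : Subgroup (Equiv.Perm (Fin w))) = ⊥ := by
    apply Subgroup.eq_bot_of_card_eq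
    rw [Sylow.card_eq_multiplicity, Nat.card_perm, Nat.card_eq_fintype_card, Fintype.card_fin,
      Nat.factorization_eq_zero_of_not_dvd fun h => by
        have := (Nat.Prime.dvd_factorial hp).mp h; omega, pow_zero]
  rintro _ ⟨q, hq, f, rfl⟩ _ ⟨q', hq', f', rfl⟩
  rw [hQ, Subgroup.mem_bot] at hq hq'
  subst hq hq'
  rw [shear_mul, shear_mul]
  congr 1
  funext i
  exact add_comm _ _

end Cfsg.Agent.Bead29
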