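import Cfsg.Agent.Bead29.Heights
import Cfsg.Agent.Bead29.Wreath
import Cfsg.Agent.BC85.Pairs.Idem
import Cfsg.Agent.S0924

/-!
# Characters with equal runner counts lie in one block

The blocks of weight `w` with a given defect group are counted by the idempotents they leave on the
symmetric group of the fixed points, which are sums of characters of defect zero, and those are
parametrised by the configurations of weight `0`.
-/

set_option autoImplicit false

namespace Cfsg.Agent.Bead29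

open Finset Function
open Cfsg.Agent.BlocksCore Cfsg.Agent.BlocksDefect

variable {N n p : ℕ} {M : Ideal Cfsg.AlgInt}

theorem hv_le_zero (hp : p.Prime) : ∀ (e : ℕ) (T : Finset ℕ), ∑ x ∈ T, x = base T.card + e →
    hv p T ≤ 0 := by
  intro e
  induction e using Nat.strong_induction_on with
  | _ e ih =>
    intro T hT
    set b := T.orderEmbOfFin rfl with hb
    have hd : deg b = base T.card + e := by
      rw [← sum_image_eq_deg b.injective, Finset.image_orderEmbOfFin_univ, hT]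
    have hle : base T.card ≤ baseK (cnt p b) := by
      rw [← deg_coreOf hp.pos]
      exact base_le_deg (coreOf_rs p hp.pos b).injective
    have hK := deg_eq_baseK (p := p) hp.pos (b := b) b.injective
    rcases Nat.eq_zero_or_pos e with rfl | he
    · exact (hv_eq_zero hp hT hp.pos).le
    have h2 := hv_eq hp (b := b) b.injective
    rw [Finset.image_orderEmbOfFin_univ] at h2
    have h2e : 2 * ∑ r, exc p b r ≤ p * ∑ r, exc p b r := Nat.mul_le_mul_right _ hp.two_le
    have hle0 : ∑ r : Fin p, hv p (run p b r) ≤ 0 := Finset.sum_nonpos fun r _ => by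
      have h1 := Finset.single_le_sum (f := exc p b) (fun r _ => Nat.zero_le _) (mem_univ r)
      exact ih (exc p b r) (by omega) _ (by rw [card_run b.injective r]; exact sum_run_eq b.injective r)
    rw [h2]
    have : (0 : ℤ) ≤ ((∑ r, exc p b r : ℕ) : ℤ) := Int.natCast_nonneg _
    omega

theorem ht_le (hp : p.Prime) {w : ℕ} {b : Fin N → ℕ} (hb : Injective b) :
    ht p w b ≤ vp p w.factorial := by
  have h : ∑ r : Fin p, hv p (run p b r) ≤ 0 := Finset.sum_nonpos fun r _ =>
    hv_le_zero hp (exc p b r) _ (by rw [card_run hb r]; exact sum_run_eq hb r)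
  unfold ht
  omega

theorem sum_exc_eq (hp : 0 < p) {b x : Fin N → ℕ} (hb : b ∈ cfg N (base N + n))
    (hx : x ∈ cfg N (base N + n)) (h : cnt p x = cnt p b) : ∑ r, exc p x r = ∑ r, exc p b r := by
  obtain ⟨hdb, hsb⟩ := mem_cfg.mp hb
  obtain ⟨hdx, hsx⟩ := mem_cfg.mp hx
  have h1 := deg_eq_baseK hp hsb.injective
  have h2 := deg_eq_baseK hp hsx.injective
  rw [hdb] at h1
  rw [hdx, h] at h2
  exact Nat.eq_of_mul_eq_mul_left hp (by omega)

/-- The defect groups of a block of weight `w`, and a character of height zero. -/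
theorem exists_defect [Fact p.Prime] (hM : Cfsg.IsPModular p M) (hN : n + n ≤ N)
    {C : Set (Cfsg.IrrCharacter (Equiv.Perm (Fin n)))} (hC : Cfsg.IsPBlock M C)
    {P : Subgroup (Equiv.Perm (Fin n))} (hP : Cfsg.IsDefectGroup p M C P)
    {χ : Cfsg.IrrCharacter (Equiv.Perm (Fin n))} (hχ : χ ∈ C) {b : Fin N → ℕ}
    (hb : b ∈ cfg N (base N + n)) (eb : (χ : Equiv.Perm (Fin n) → ℂ) = chr n b)
    {w : ℕ} (hwdef : ∑ r, exc p b r = w) (Q : Sylow p (Equiv.Perm (Fin w))) :
    (∃ (ι : Fin w × ZMod p ↪ Fin n) (g : Equiv.Perm (Fin n)),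
      P = ((wr (Q : Subgroup (Equiv.Perm (Fin w))) p).map
        (Equiv.Perm.viaEmbeddingHom ι)).map (MulAut.conj g).toMonoidHom) ∧
    ∃ χ₁ ∈ C, ∃ b₁ ∈ cfg N (base N + n),
      (χ₁ : Equiv.Perm (Fin n) → ℂ) = chr n b₁ ∧ ht p w b₁ = 0 := by
  classical
  have hp := (Fact.out : p.Prime)
  have : NeZero p := ⟨hp.pos.ne'⟩
  have := BlocksCore.isPrime hM
  obtain ⟨hd, hs⟩ := mem_cfg.mp hb
  have hw : deg b = baseK (cnt p b) + p * w := hwdef ▸ deg_eq_baseK hp.pos hs.injective
  obtain ⟨w', σ, hw', hsupp, hord, hne⟩ := exists_pElement (p := p) hN hb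
  rw [show w' = w from Nat.eq_of_mul_eq_mul_left hp.pos (by omega)] at hsupp
  have hpart : Cfsg.IsPPart p σ σ := by
    obtain h | h := (Nat.dvd_prime hp).mp hord
    · exact ⟨1, mul_one _, Commute.one_right _, ⟨0, by rw [h, pow_zero]⟩, by simp [hp.one_lt.ne']⟩
    · exact ⟨1, mul_one _, Commute.one_right _, ⟨1, by rw [h, pow_one]⟩, by simp [hp.one_lt.ne']⟩
  obtain rfl := isPBlock_eq_blockOf hC hχ
  obtain ⟨D', hD', hσD'⟩ : ∃ D' : Subgroup (Equiv.Perm (Fin n)),
      Cfsg.IsDefectGroup p M (Cfsg.blockOf M (χ : Equiv.Perm (Fin n) → ℂ)) D' ∧ σ ∈ D' := by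
    by_contra h
    push Not at h
    exact hne (by rw [← eb]; exact Cfsg.Agent.S0924.result p M hM χ σ σ hpart h)
  obtain ⟨g₀, hg₀⟩ := isConj_defectGroup hM hC hD' hP
  have hσP : g₀ * σ * g₀⁻¹ ∈ P := hg₀ ▸ Subgroup.mem_map_of_mem _ hσD'
  have hle : p * w ≤ Nat.card ↥(moved P) := by
    rw [← hsupp, ← Equiv.Perm.sum_cycleType, ← Equiv.Perm.cycleType_conj (τ := g₀),
      Equiv.Perm.sum_cycleType, ← Nat.card_eq_finsetCard]
    exact Nat.card_le_card_of_injective
      (fun x => (⟨x.1, ⟨_, hσP, Equiv.Perm.mem_support.mp x.2⟩⟩ : ↥(moved P)))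
      fun a c e => Subtype.ext (congrArg (fun z : ↥(moved P) => (z : Fin n)) e)
  have hcard : Fintype.card (Fin w × ZMod p) ≤ Fintype.card ↥(moved P) := by
    rw [← Nat.card_eq_fintype_card (α := ↥(moved P))]
    simpa [mul_comm] using hle
  obtain ⟨emb⟩ := Function.Embedding.nonempty_of_card_le hcard
  let ι : (Fin w × ZMod p) ↪ Fin n := emb.trans (Function.Embedding.subtype _)
  set K := wr (Q : Subgroup (Equiv.Perm (Fin w))) p with hK
  set E := K.map (Equiv.Perm.viaEmbeddingHom ι) with hE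
  have hEp : IsPGroup p E := (isPGroup_wr Q).map _
  obtain ⟨g, hg⟩ := defect_structure hM hC hP hEp (by
    rintro _ ⟨f, -, rfl⟩ x hx
    by_contra hn
    refine hx (Equiv.Perm.viaEmbedding_apply_of_notMem _ ι x ?_)
    rintro ⟨y, rfl⟩
    exact hn (emb y).2)
  have hEcard : Nat.card (E.map (MulAut.conj g).toMonoidHom) = p ^ (w + w.factorial.factorization p) := by
    rw [Subgroup.card_map_of_injective (MulAut.conj g).injective, hE,
      Subgroup.card_map_of_injective (Equiv.Perm.viaEmbeddingHom_injective ι), hK, card_wr_sylow]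
  set B := Cfsg.blockOf M (χ : Equiv.Perm (Fin n) → ℂ) with hB
  have hval : ∀ χ' ∈ B, ∃ b' ∈ cfg N (base N + n), (χ' : Equiv.Perm (Fin n) → ℂ) = chr n b' ∧
      vp p (Cfsg.charDegree (χ' : Equiv.Perm (Fin n) → ℂ)) + w + vp p w.factorial =
        vp p n.factorial + ht p w b' ∧ 0 ≤ ht p w b' ∧ (w < p → ht p w b' = 0) := by
    intro χ' hχ'
    obtain ⟨b', hb', eb'⟩ := exists_chr_eq hN χ'
    have hsum : ∑ r, exc p b' r = w :=
      (sum_exc_eq hp.pos hb hb' (cnt_eq_of_mem hM hC hχ' hχ hb' hb eb' eb)).trans hwdef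
    exact ⟨b', hb', eb', charDegree_val hp hb' eb' hsum,
      ht_nonneg (mem_cfg.mp hb').2.injective hsum,
      fun h => ht_lt hp h (mem_cfg.mp hb').2.injective hsum⟩
  have hfac : (Nat.card (Equiv.Perm (Fin n))).factorization p = n.factorial.factorization p := by
    rw [Nat.card_perm, Nat.card_eq_fintype_card, Fintype.card_fin]
  obtain ⟨χm, hχm, hmin⟩ := Nat.sInf_mem (s := (fun χ : Cfsg.IrrCharacter (Equiv.Perm (Fin n)) =>
    (Cfsg.charDegree (χ : Equiv.Perm (Fin n) → ℂ)).factorization p) '' B) ⟨_, χ, hχ, rfl⟩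
  have hPcard := Cfsg.Agent.S0908.result p M hM B hC P hP
  rw [Cfsg.blockDefect, hfac, ← hmin] at hPcard
  beta_reduce at hPcard
  obtain ⟨bm, hbm, ebm, hv1, hv2, hv3⟩ := hval χm hχm
  simp only [vp] at hv1 hv2
  have hdle : w + w.factorial.factorization p ≤ n.factorial.factorization p -
      (Cfsg.charDegree (χm : Equiv.Perm (Fin n) → ℂ)).factorization p := by
    have h1 : p ^ (w + w.factorial.factorization p) ∣ Nat.card P :=
      hEcard ▸ Subgroup.card_dvd_of_le hg
    rw [hPcard] at h1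
    exact (Nat.pow_dvd_pow_iff_le_right hp.one_lt).mp h1
  refine ⟨⟨ι, g, (Subgroup.eq_of_le_of_card_ge hg ?_).symm⟩, ?_⟩
  · rw [hEcard, hPcard]
    exact Nat.pow_le_pow_right hp.pos (by omega)
  · refine ⟨χm, hχm, bm, hbm, ebm, ?_⟩
    rcases Nat.eq_zero_or_pos w with h0 | hpos
    · exact hv3 (h0 ▸ hp.pos)
    · omega

theorem via_conj {α β : Type*} (ι ι' : α ↪ β) (τ : Equiv.Perm β) (h : ∀ a, τ (ι a) = ι' a)
    (s : Equiv.Perm α) : τ * s.viaEmbedding ι * τ⁻¹ = s.viaEmbedding ι' := by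
  refine Equiv.ext fun x => ?_
  simp only [Equiv.Perm.mul_apply]
  by_cases hx : x ∈ Set.range ι'
  · obtain ⟨a, rfl⟩ := hx
    rw [Equiv.Perm.inv_eq_iff_eq.mpr (h a).symm, Equiv.Perm.viaEmbedding_apply, h,
      Equiv.Perm.viaEmbedding_apply]
  · rw [Equiv.Perm.viaEmbedding_apply_of_notMem _ ι (τ⁻¹ x) ?_,
      Equiv.Perm.viaEmbedding_apply_of_notMem _ ι' x hx]
    · exact Equiv.apply_symm_apply τ x
    · rintro ⟨a, ha⟩
      exact hx ⟨a, by rw [← h, ha]; exact Equiv.apply_symm_apply τ x⟩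

theorem conj_perm_conjTo {α β : Type*} [Finite β] (ι ι' : α ↪ β) :
    ∃ τ : Equiv.Perm β, ∀ a, τ (ι a) = ι' a := by
  classical
  have := Fintype.ofFinite β
  have : Finite α := Finite.of_injective ι ι.injective
  let e : {x // x ∈ Set.range ι} ≃ {x // x ∈ Set.range ι'} :=
    (Equiv.ofInjective ι ι.injective).symm.trans (Equiv.ofInjective ι' ι'.injective)
  refine ⟨e.extendSubtype, fun a => ?_⟩
  rw [Equiv.extendSubtype_apply_of_mem e _ ⟨a, rfl⟩]
  show ((Equiv.ofInjective ι' ι'.injective) ((Equiv.ofInjective ι ι.injective).symm ⟨ι a, a, rfl⟩) : β) = _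
  rw [Equiv.ofInjective_symm_apply]
  rfl

/-- Fixed-point embedding: regular elements centralizing the wreath model live on the other points. -/
theorem exists_preimage {w r : ℕ} [Fact p.Prime] (ι : Fin w × ZMod p ↪ Fin n) (j : Fin r ↪ Fin n)
    (hj : ∀ x, x ∉ Set.range ι ↔ x ∈ Set.range j)
    (Q : Subgroup (Equiv.Perm (Fin w))) {y : Equiv.Perm (Fin n)}
    (hy : y ∈ Subgroup.centralizer
      (((wr Q p).map (Equiv.Perm.viaEmbeddingHom ι) : Subgroup _) : Set (Equiv.Perm (Fin n))))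
    (hreg : ¬ p ∣ orderOf y) : ∃ h : Equiv.Perm (Fin r), h.viaEmbedding j = y := by
  classical
  have hp := (Fact.out : p.Prime)
  have : NeZero p := ⟨hp.pos.ne'⟩
  have hfix : ∀ a, y (ι a) = ι a := by
    intro a
    obtain ⟨i, x⟩ := a
    let t : Equiv.Perm (Fin n) :=
      (shear (1 : Equiv.Perm (Fin w)) (Pi.single i (1 : ZMod p))).viaEmbedding ι
    have ht : t ∈ (wr Q p).map (Equiv.Perm.viaEmbeddingHom ι) :=
      ⟨_, ⟨1, Q.one_mem, _, rfl⟩, rfl⟩
    have hcomm : ∀ z, t (y z) = y (t z) := fun z => by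
      have := congrArg (fun f : Equiv.Perm (Fin n) => f z) (Subgroup.mem_centralizer_iff.mp hy t ht)
      simpa using this
    have ht1 : ∀ l z, t (ι (l, z)) = ι (l, z + (Pi.single i (1 : ZMod p) : Fin w → ZMod p) l) := fun l z => by
      show (Equiv.Perm.viaEmbedding _ ι) (ι (l, z)) = _
      rw [Equiv.Perm.viaEmbedding_apply, shear_apply]; rfl
    have hmem : ∀ z, t z ≠ z → ∃ c, z = ι (i, c) := by
      intro z hz
      by_cases hzr : z ∈ Set.range ι
      · obtain ⟨⟨l, c⟩, rfl⟩ := hzr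
        rw [ht1] at hz
        by_cases hl : l = i
        · exact ⟨c, by rw [hl]⟩
        · simp [hl] at hz
      · exact absurd (Equiv.Perm.viaEmbedding_apply_of_notMem _ ι z hzr) hz
    have hmove : ∀ c, t (ι (i, c)) = ι (i, c + 1) := fun c => by rw [ht1]; simp
    have hmove' : ∀ c, t (ι (i, c)) ≠ ι (i, c) := fun c h => by
      rw [hmove] at h
      simpa using (Prod.ext_iff.mp (ι.injective h)).2
    obtain ⟨c, hc⟩ := hmem (y (ι (i, 0))) (fun h => hmove' 0 (y.injective (by rw [← hcomm, h])))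
    have hnat : ∀ k : ℕ, y (ι (i, (k : ZMod p))) = ι (i, c + k) := by
      intro k
      induction k with
      | zero => simpa using hc
      | succ k ih =>
        rw [Nat.cast_succ, ← hmove, ← hcomm, ih, hmove]
        congr 2
        ring
    have hall : ∀ z : ZMod p, y (ι (i, z)) = ι (i, c + z) := fun z => by
      rw [← ZMod.natCast_zmod_val z]; exact hnat _
    have hpow : ∀ (k : ℕ) (z : ZMod p), (y ^ k) (ι (i, z)) = ι (i, z + k * c) := by
      intro k
      induction k with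
      | zero => simp
      | succ k ih =>
        intro z
        rw [pow_succ', Equiv.Perm.mul_apply, ih, hall]
        congr 2
        push_cast; ring
    obtain ⟨k, hk⟩ := exists_pow_eq_self_of_coprime (x := y) (n := p)
      ((Nat.Prime.coprime_iff_not_dvd hp).mpr hreg)
    conv_lhs => rw [← hk]
    rw [← pow_mul, hpow]
    simp
  have hout : ∀ z, y z ∈ Set.range j ↔ z ∈ Set.range j := by
    intro z
    rw [← hj, ← hj]
    constructor
    · rintro h ⟨a, rfl⟩
      exact h ⟨a, (hfix a).symm⟩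
    · rintro h ⟨a, ha⟩
      exact h ⟨a, y.injective (by rw [hfix, ha])⟩
  refine ⟨(Equiv.ofInjective j j.injective).symm.permCongr (y.subtypePerm hout), Equiv.ext fun z => ?_⟩
  by_cases hz : z ∈ Set.range j
  · obtain ⟨a, rfl⟩ := hz
    rw [Equiv.Perm.viaEmbedding_apply, Equiv.permCongr_apply, Equiv.symm_symm]
    exact congrArg Subtype.val (Equiv.apply_symm_apply (Equiv.ofInjective j j.injective) _)
  · rw [Equiv.Perm.viaEmbedding_apply_of_notMem _ j z hz]
    have hz' : z ∈ Set.range ι := by_contra fun h => hz ((hj z).mp h)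
    obtain ⟨a, rfl⟩ := hz'
    exact (hfix a).symm

/-- The weight-zero configuration is determined by its counts. -/
theorem eq_of_exc_eq_zero {x x' : Fin N → ℕ} (hp : 0 < p) (hx : StrictMono x) (hx' : StrictMono x')
    (h : cnt p x = cnt p x') (h0 : ∑ r, exc p x r = 0) (h0' : ∑ r, exc p x' r = 0) : x = x' := by
  have hrange : ∀ (b : Fin N → ℕ), StrictMono b → ∑ r, exc p b r = 0 →
      ∀ r, run p b r = range (cnt p b r) := by
    intro b hb hz r
    have hz' : exc p b r = 0 := (Finset.sum_eq_zero_iff.mp hz) r (mem_univ r)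
    have hs := sum_run_eq hb.injective r
    rw [hz', add_zero] at hs
    have hcr := card_run hb.injective r
    set g := (run p b r).orderEmbOfFin hcr with hg
    have hdg : deg g = base (cnt p b r) := by
      rw [← sum_image_eq_deg g.injective, Finset.image_orderEmbOfFin_univ, hs]
    have hge := fun j => strictMono_le g.strictMono j
    have hsum : ∑ j : Fin (cnt p b r), ((j : ℕ)) = ∑ j, g j := hdg.symm
    have hid := fun j : Fin (cnt p b r) =>
      ((Finset.sum_eq_sum_iff_of_le fun j _ => hge j).mp hsum j (mem_univ j)).symm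
    rw [← Finset.image_orderEmbOfFin_univ _ hcr, ← hg]
    ext v
    simp only [mem_image, mem_univ, true_and, mem_range, hid]
    exact ⟨fun ⟨i, hi⟩ => hi ▸ i.2, fun hv => ⟨⟨v, hv⟩, rfl⟩⟩
  refine (hx.range_inj hx').mp (Set.ext fun v => ?_)
  have key : ∀ b : Fin N → ℕ, v ∈ Set.range b ↔ v / p ∈ run p b ⟨v % p, Nat.mod_lt _ hp⟩ := fun b => by
    rw [mem_run]; simp [Nat.mod_add_div]
  rw [key, key, hrange x hx h0, hrange x' hx' h0', h]

theorem model_conj [Fact p.Prime] {v w : ℕ} (hvw : v = w) (Q : Sylow p (Equiv.Perm (Fin w)))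
    (ι : Fin w × ZMod p ↪ Fin n) (Q' : Sylow p (Equiv.Perm (Fin v)))
    (ι' : Fin v × ZMod p ↪ Fin n) :
    ∃ h : Equiv.Perm (Fin n), ((wr (Q' : Subgroup (Equiv.Perm (Fin v))) p).map
      (Equiv.Perm.viaEmbeddingHom ι')).map (MulAut.conj h).toMonoidHom =
      (wr (Q : Subgroup (Equiv.Perm (Fin w))) p).map (Equiv.Perm.viaEmbeddingHom ι) := by
  classical
  subst hvw
  have : NeZero p := ⟨(Fact.out : p.Prime).pos.ne'⟩
  obtain ⟨τ, hτ⟩ := conj_perm_conjTo ι' ι
  obtain ⟨q, hq⟩ := MulAction.exists_smul_eq (Equiv.Perm (Fin v)) Q' Q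
  refine ⟨(shear q (0 : Fin v → ZMod p)).viaEmbedding ι * τ, ?_⟩
  rw [Subgroup.map_map]
  have hmap : (wr (Q' : Subgroup (Equiv.Perm (Fin v))) p).map
      (MulAut.conj (shear q (0 : Fin v → ZMod p))).toMonoidHom =
      wr (Q : Subgroup (Equiv.Perm (Fin v))) p := by
    refine Subgroup.eq_of_le_of_card_ge ?_ ?_
    · rintro _ ⟨_, ⟨q', hq', f, rfl⟩, rfl⟩
      refine ⟨q * q' * q⁻¹, ?_, fun i => f (q⁻¹ i), ?_⟩
      · rw [← hq]
        exact ⟨q', hq', rfl⟩
      · show shear q 0 * shear q' f * (shear q 0)⁻¹ = _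
        rw [mul_inv_eq_iff_eq_mul, shear_mul, shear_mul]
        congr 1
        · group
        · funext i; simp
    · rw [Subgroup.card_map_of_injective (MulAut.conj _).injective, card_wr_sylow, card_wr_sylow]
  rw [← hmap, Subgroup.map_map]
  congr 1
  ext1 s
  simp only [MonoidHom.comp_apply, MulEquiv.coe_toMonoidHom, MulAut.conj_apply, map_mul, map_inv,
    MulAut.mul_apply, Equiv.Perm.viaEmbeddingHom_apply, ← via_conj ι' ι τ hτ s]
  group

set_option maxHeartbeats 1000000 in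
/-- Characters with the same runner counts lie in the same block. -/
theorem mem_of_cnt [Fact p.Prime] (hM : Cfsg.IsPModular p M) (hN : n + n ≤ N) (hpN : p * n + n ≤ N)
    {C : Set (Cfsg.IrrCharacter (Equiv.Perm (Fin n)))} (hC : Cfsg.IsPBlock M C)
    {χ χ' : Cfsg.IrrCharacter (Equiv.Perm (Fin n))} (hχ : χ ∈ C) {b b' : Fin N → ℕ}
    (hb : b ∈ cfg N (base N + n)) (hb' : b' ∈ cfg N (base N + n))
    (eb : (χ : Equiv.Perm (Fin n) → ℂ) = chr n b) (eb' : (χ' : Equiv.Perm (Fin n) → ℂ) = chr n b')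
    (hc : cnt p b' = cnt p b) : χ' ∈ C := by
  classical
  have hp := (Fact.out : p.Prime)
  have : NeZero p := ⟨hp.pos.ne'⟩
  have := BlocksCore.isPrime hM
  set w := ∑ r, exc p b r with hwdef
  obtain ⟨Q⟩ : Nonempty (Sylow p (Equiv.Perm (Fin w))) := inferInstance
  obtain ⟨P, hP⟩ := exists_isDefectGroup hM hC
  obtain ⟨⟨ι, g, hPeq⟩, -⟩ := exists_defect hM hN hC hP hχ hb eb rfl Q
  set P0 := (wr (Q : Subgroup (Equiv.Perm (Fin w))) p).map (Equiv.Perm.viaEmbeddingHom ι) with hP0
  set r := n - p * w with hrdef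
  have hwn : p * w ≤ n := by
    have := Fintype.card_le_of_embedding ι
    simpa [mul_comm] using this
  have hcompl : Fintype.card {x // x ∉ Set.range ι} = r := by
    rw [Fintype.card_subtype_compl]
    rw [show Fintype.card {x // x ∈ Set.range ι} = p * w by
      rw [← Fintype.card_congr (Equiv.ofInjective ι ι.injective), Fintype.card_prod, Fintype.card_fin,
        ZMod.card, mul_comm]]
    simp [hrdef]
  let j : Fin r ↪ Fin n :=
    (Fintype.equivFinOfCardEq hcompl).symm.toEmbedding.trans (Function.Embedding.subtype _)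
  have hj : ∀ x, x ∉ Set.range ι ↔ x ∈ Set.range j := fun x => by
    constructor
    · intro hx
      exact ⟨Fintype.equivFinOfCardEq hcompl ⟨x, hx⟩, by simp [j]⟩
    · rintro ⟨a, rfl⟩
      exact ((Fintype.equivFinOfCardEq hcompl).symm a).2
  set ψ := Equiv.Perm.viaEmbeddingHom j with hψdef
  have hψcomm : ∀ h, ψ h ∈ Subgroup.centralizer (P0 : Set (Equiv.Perm (Fin n))) := by
    intro h
    rw [Subgroup.mem_centralizer_iff]
    rintro _ ⟨s, -, rfl⟩
    refine (Equiv.Perm.Disjoint.commute fun x => ?_).eq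
    by_cases hx : x ∈ Set.range ι
    · exact Or.inr (Equiv.Perm.viaEmbedding_apply_of_notMem _ j x fun h' => (hj x).mpr h' hx)
    · exact Or.inl (Equiv.Perm.viaEmbedding_apply_of_notMem _ ι x hx)
  -- the blocks with defect group `P0`
  let Bl := {B : Set (Cfsg.IrrCharacter (Equiv.Perm (Fin n))) //
    Cfsg.IsPBlock M B ∧ Cfsg.IsDefectGroup p M B P0}
  have : Finite (Cfsg.IrrCharacter (Equiv.Perm (Fin n))) := BlocksCore.finite_irr
  have : Finite Bl := Subtype.finite
  let Γ := (cfg N (base N + r)).filter fun x => ∑ l, exc p x l = 0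
  have hΓ : ∀ {x}, x ∈ Γ → deg x = base N + r ∧ StrictMono x ∧ deg x = baseK (cnt p x) := fun hx => by
    obtain ⟨h1, h2⟩ := mem_filter.mp hx
    obtain ⟨hd, hs⟩ := mem_cfg.mp h1
    refine ⟨hd, hs, ?_⟩
    rw [deg_eq_baseK hp.pos hs.injective, h2, mul_zero, add_zero]
  -- an upper bound through the fixed points
  have hNr : r + r ≤ N := by omega
  let a : Bl → Equiv.Perm (Fin r) → ℂ := fun B h => blockCoeff B.1 (ψ h)
  have haI : ∀ B, IsIntClassFun M (a B) := fun B => by
    have hf := isIntClassFun_blockCoeff hM B.2.1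
    exact ⟨fun x y => by simp only [a, map_mul, map_inv]; exact hf.1 _ _, fun x => hf.2 _⟩
  have hconv : ∀ (B B' : Bl) h, MemLocalIdeal M
      (conv (blockCoeff B.1) (blockCoeff B'.1) (ψ h) - conv (a B) (a B') h) := by
    intro B B' h
    set H := Subgroup.centralizer (P0 : Set (Equiv.Perm (Fin n))) with hH
    have hcore := conv_brRes_sub hM (P := P0) (H := H) ((isPGroup_wr Q).map _) le_rfl
      (Subgroup.centralizer_le_normalizer _)
      (isIntClassFun_blockCoeff hM B.2.1) (isIntClassFun_blockCoeff hM B'.2.1) ⟨ψ h, hψcomm h⟩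
    rw [brRes_of_mem _ (hψcomm h)] at hcore
    have e : conv (brRes P0 H (blockCoeff B.1)) (brRes P0 H (blockCoeff B'.1)) ⟨ψ h, hψcomm h⟩ =
        conv (a B) (a B') h := by
      rw [conv_apply, conv_apply]
      refine (Fintype.sum_of_injective (fun u : Equiv.Perm (Fin r) => (⟨ψ u, hψcomm u⟩ : H))
        (fun u v e => Equiv.Perm.viaEmbeddingHom_injective j (congrArg Subtype.val e)) _ _
        (fun y hy => ?_) fun u => ?_).symm
      · have hsing : p ∣ orderOf (y : Equiv.Perm (Fin n)) := by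
          by_contra hreg
          obtain ⟨u, hu⟩ := exists_preimage ι j hj _ y.2 hreg
          exact hy ⟨u, Subtype.ext hu⟩
        rw [brRes_of_mem _ y.2, blockCoeff_eq_zero_of_dvd_orderOf hM B.2.1 hsing, zero_mul]
      · rw [brRes_of_mem _ (hψcomm u), brRes_of_mem _ (by
          show ((⟨ψ u, hψcomm u⟩⁻¹ * ⟨ψ h, hψcomm h⟩ : H) : Equiv.Perm (Fin n)) ∈ H
          exact Subtype.coe_prop _)]
        simp [a, map_mul, map_inv]
    rwa [e] at hcore
  have hex : ∀ B : Bl, ∃ ξ : Cfsg.IrrCharacter (Equiv.Perm (Fin r)), ∃ x ∈ Γ,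
      (ξ : Equiv.Perm (Fin r) → ℂ) = chr r x ∧
      ¬ MemLocalIdeal M (omega (ξ : Equiv.Perm (Fin r) → ℂ) (a B)) := by
    intro B
    obtain ⟨g₁, hg₁, hS⟩ := isDefectGroup_iff.mp B.2.2
    have hg₁C : g₁ ∈ Subgroup.centralizer (P0 : Set (Equiv.Perm (Fin n))) := hS.mem_centralizer
    have hg₁r : ¬ p ∣ orderOf g₁ := fun hd => hg₁.2.1 (by
      rw [blockCoeff_eq_zero_of_dvd_orderOf hM B.2.1 hd]; exact memLocalIdeal_zero)
    obtain ⟨u₁, hu₁⟩ := exists_preimage ι j hj _ hg₁C hg₁r
    obtain ⟨ξ, hξ⟩ := exists_omega_unit_of_idem hM (haI B) (fun h => by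
      have := hconv B B h
      rwa [conv_blockCoeff_self] at this) ⟨u₁, by
        show ¬ MemLocalIdeal M (blockCoeff B.1 (ψ u₁))
        rw [hψdef, Equiv.Perm.viaEmbeddingHom_apply, hu₁]
        exact hg₁.2.1⟩
    obtain ⟨h, hh1, hh2⟩ := exists_unit_class hM ξ (haI B) hξ
    obtain ⟨x, hx, ex⟩ := exists_chr_eq hNr ξ
    refine ⟨ξ, x, mem_filter.mpr ⟨hx, ?_⟩, ex, hξ⟩
    -- the centralizer of `h` has order prime to `p`
    have hnd : ¬ p ∣ Nat.card (Subgroup.centralizer ({h} : Set (Equiv.Perm (Fin r)))) := by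
      intro hdvd
      obtain ⟨⟨u, hu⟩, huo⟩ := exists_prime_orderOf_dvd_card' p hdvd
      have huo' : orderOf u = p := by rw [← huo, Subgroup.orderOf_mk]
      set U := (Subgroup.zpowers u).map ψ with hU
      have hUC : ∀ v ∈ U, v ∈ Subgroup.centralizer (P0 : Set (Equiv.Perm (Fin n))) := by
        rintro _ ⟨v, -, rfl⟩; exact hψcomm v
      have hUp : IsPGroup p U := (IsPGroup.of_card (n := 1) (by
        rw [Nat.card_zpowers, huo', pow_one])).map _
      have hP0p : IsPGroup p P0 := (isPGroup_wr Q).map _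
      have hQp : IsPGroup p (P0 ⊔ U : Subgroup (Equiv.Perm (Fin n))) := hP0p.to_sup_of_normal_left' hUp (by
        intro v hv
        exact Subgroup.centralizer_le_normalizer _ (hUC v hv))
      have hhC : ψ h ∈ Subgroup.centralizer
          ((P0 ⊔ U : Subgroup (Equiv.Perm (Fin n))) : Set (Equiv.Perm (Fin n))) := by
        have hle : P0 ⊔ U ≤ Subgroup.centralizer {ψ h} := by
          refine sup_le (fun v hv => ?_) ?_
          · rw [mem_centralizer_singleton]
            exact Subgroup.mem_centralizer_iff.mp (hψcomm h) v hv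
          · rintro _ ⟨v, hv, rfl⟩
            rw [mem_centralizer_singleton, ← map_mul, ← map_mul]
            congr 1
            obtain ⟨k, rfl⟩ := Subgroup.mem_zpowers_iff.mp hv
            exact ((show Commute u h from mem_centralizer_singleton.mp hu).zpow_left k).eq
        rw [Subgroup.mem_centralizer_iff]
        exact fun v hv => mem_centralizer_singleton.mp (hle hv)
      have hsc := subConj_defectGroup_of_coeff hM B.2.1 B.2.2 hQp hhC hh1
      have heq : P0 ⊔ U = P0 :=
        (Subgroup.eq_of_le_of_card_ge le_sup_left (Nat.le_of_dvd Nat.card_pos hsc.card_dvd)).symm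
      have hUP : ψ u ∈ P0 := heq ▸ Subgroup.mem_sup_right ⟨u, Subgroup.mem_zpowers u, rfl⟩
      obtain ⟨s, -, hs⟩ := hUP
      have h1 : u = 1 := by
        refine Equiv.ext fun z => j.injective ?_
        have h2 := congrArg (fun f : Equiv.Perm (Fin n) => f (j z)) hs
        simp only [hψdef, Equiv.Perm.viaEmbeddingHom_apply, Equiv.Perm.viaEmbedding_apply] at h2
        rw [← h2, Equiv.Perm.viaEmbedding_apply_of_notMem _ ι _ ((hj _).mpr ⟨z, rfl⟩)]
        simp
      rw [h1, orderOf_one] at huo'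
      exact hp.one_lt.ne huo'
    have hfr : (Nat.card (Equiv.Perm (Fin r))).factorization p = r.factorial.factorization p := by
      rw [Nat.card_perm, Nat.card_eq_fintype_card, Fintype.card_fin]
    obtain ⟨hdx, hsx⟩ := mem_cfg.mp hx
    have hv := charDegree_val hp hx ex (w := ∑ l, exc p x l) rfl
    have hle := ht_le hp (w := ∑ l, exc p x l) hsx.injective
    -- the class of `h` has size divisible by the `p`-part of `r!`
    have hidx : (Subgroup.centralizer ({h} : Set (Equiv.Perm (Fin r)))).index.factorization p =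
        r.factorial.factorization p := by
      rw [← hfr, ← Subgroup.card_mul_index (Subgroup.centralizer ({h} : Set (Equiv.Perm (Fin r)))),
        Nat.factorization_mul Nat.card_pos.ne' Subgroup.index_ne_zero_of_finite, Finsupp.add_apply,
        Nat.factorization_eq_zero_of_not_dvd hnd, zero_add]
    have hdeg : r.factorial.factorization p ≤
        (Cfsg.charDegree (ξ : Equiv.Perm (Fin r) → ℂ)).factorization p := by
      by_contra hlt
      refine hh2 ?_
      set d := Cfsg.charDegree (ξ : Equiv.Perm (Fin r) → ℂ) with hddef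
      have hd0 : (ξ : Equiv.Perm (Fin r) → ℂ) 1 = (d : ℂ) := by
        have := BlocksCore.irr_one_eq ξ
        exact this
      set idx := (Subgroup.centralizer ({h} : Set (Equiv.Perm (Fin r)))).index with hidxdef
      set e := d.factorization p with hedef
      have hdne : d ≠ 0 := fun h0 => irr_one_ne_zero ξ (by rw [hd0, h0, Nat.cast_zero])
      obtain ⟨k, hk⟩ : p ^ (e + 1) ∣ idx :=
        (Nat.Prime.pow_dvd_iff_le_factorization hp Subgroup.index_ne_zero_of_finite).mpr (by
          rw [hidx]; omega)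
      set d' := d / p ^ e with hd'
      have hdd' : p ^ e * d' = d := Nat.ordProj_mul_ordCompl_eq_self d p
      have hd'p : ¬ p ∣ d' := Nat.not_dvd_ordCompl hp hdne
      have e1 : centralChar (ξ : Equiv.Perm (Fin r) → ℂ) h =
          ((p * k : ℕ) : ℂ) * (((ξ : Equiv.Perm (Fin r) → ℂ) h) / (d' : ℂ)) := by
        rw [centralChar, hd0, ← hidxdef, hk]
        conv_lhs => rw [← hdd']
        have : (p : ℂ) ≠ 0 := Nat.cast_ne_zero.mpr hp.ne_zero
        have : (d' : ℂ) ≠ 0 := Nat.cast_ne_zero.mpr fun h0 => hd'p (h0 ▸ dvd_zero p)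
        push_cast
        field_simp
        ring
      rw [e1]
      refine memLocalIdeal_mul_right ?_ ?_
      · have := (memLocalIdeal_intCast_iff hM ((p * k : ℕ) : ℤ)).mpr (by push_cast; exact dvd_mul_right _ _)
        exact_mod_cast this
      · have hnu : ¬ MemLocalIdeal M ((d' : ℕ) : ℂ) := fun hm => hd'p (by
          have := (memLocalIdeal_intCast_iff hM ((d' : ℕ) : ℤ)).mp (by exact_mod_cast hm)
          exact_mod_cast this)
        obtain ⟨-, hinv⟩ := memLocalRing_inv (memLocalRing_of_isIntegral (isIntegral_natCast d')) hnu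
        exact (localRing M).mul_mem (memLocalRing_of_isIntegral (isIntegral_irr ξ h)) hinv
    simp only [vp] at hv hle
    omega
  choose ξ x hx hξx hξ using hex
  have hxinj : ∀ B B' : Bl, cnt p (x B) = cnt p (x B') → B = B' := by
    intro B B' he
    obtain ⟨-, hs1, -⟩ := hΓ (hx B)
    obtain ⟨-, hs2, -⟩ := hΓ (hx B')
    have hxx : x B = x B' := eq_of_exc_eq_zero hp.pos hs1 hs2 he (mem_filter.mp (hx B)).2
      (mem_filter.mp (hx B')).2
    have hξξ : ξ B = ξ B' := Subtype.ext (by rw [hξx, hξx, hxx])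
    by_contra hne
    have hz : conv (blockCoeff B.1) (blockCoeff B'.1) = 0 := by
      refine eq_of_omega_eq (isClassFunction_conv (isClassFunction_blockCoeff _)
        (isClassFunction_blockCoeff _)) (fun _ _ => rfl) fun φ => ?_
      rw [omega_conv φ (isClassFunction_blockCoeff _) (isClassFunction_blockCoeff _),
        omega_blockCoeff, omega_blockCoeff]
      by_cases h1 : φ ∈ B.1
      · by_cases h2 : φ ∈ B'.1
        · exact absurd (Subtype.ext (isPBlock_eq_of_mem B.2.1 B'.2.1 h1 h2)) hne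
        · rw [Set.indicator_of_notMem h2, mul_zero]; simp [omega_eq_sum]
      · rw [Set.indicator_of_notMem h1, zero_mul]; simp [omega_eq_sum]
    have h1 := hξ B
    have h2 := hξ B'
    rw [← hξξ] at h2
    have h3 : MemLocalIdeal M (omega (ξ B : Equiv.Perm (Fin r) → ℂ) (a B) *
        omega (ξ B : Equiv.Perm (Fin r) → ℂ) (a B')) := by
      rw [← omega_conv (ξ B) (haI B).1 (haI B').1]
      have h4 := BC85.omega_congr (ξ B) (isIntClassFun_conv (haI B) (haI B')).1
        (fun _ _ => rfl : IsClassFunction (Equiv.Perm (Fin r)) (0 : Equiv.Perm (Fin r) → ℂ)) (fun h => by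
        have := hconv B B' h
        rw [hz, Pi.zero_apply, zero_sub] at this
        simpa using memLocalIdeal_neg this)
      simpa [omega_eq_sum] using h4
    obtain ⟨hne0, hinv⟩ := memLocalRing_inv (omega_memLocalRing (ξ B) (haI B)) h1
    exact h2 (by
      have := memLocalIdeal_mul_left hinv h3
      rwa [← mul_assoc, inv_mul_cancel₀ hne0, one_mul] at this)
  -- every admissible count occurs
  have hlow : ∀ y ∈ Γ, ∃ B : Bl, ∀ φ ∈ B.1, ∀ z ∈ cfg N (base N + n),
      (φ : Equiv.Perm (Fin n) → ℂ) = chr n z → cnt p z = cnt p y := by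
    intro y hy
    obtain ⟨hdy, hsy, hKy⟩ := hΓ hy
    have hwc : ∀ l, w ≤ cnt p y l := fun l => by
      have h1 := le_cnt (n := n) hp.pos hpN hsy.injective (by omega) l
      have := Nat.le_mul_of_pos_left w hp.pos
      omega
    obtain ⟨z, hzs, hzc, hzd, hzw, -, -⟩ := exists_ht_zero hp (cnt p y) (sum_cnt hp.pos y) w hwc
    have hz : z ∈ cfg N (base N + n) := mem_cfg.mpr ⟨by rw [hzd, ← hKy, hdy]; omega, hzs⟩
    set φ : Cfsg.IrrCharacter (Equiv.Perm (Fin n)) := ⟨chr n z, isIrr_chr hN hz⟩ with hφ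
    have hB := isPBlock_blockOf (M := M) φ
    have hφB := mem_blockOf_self (M := M) φ
    obtain ⟨P', hP'⟩ := exists_isDefectGroup hM hB
    obtain ⟨⟨ι', g', hP'eq⟩, -⟩ := exists_defect hM hN hB hP' hφB hz rfl hzw Q
    obtain ⟨h, hh⟩ := model_conj rfl Q ι Q ι'
    have hP0' : P0 = P'.map (MulAut.conj (h * g'⁻¹)).toMonoidHom := by
      rw [hP'eq, hP0, ← hh, Subgroup.map_map, Subgroup.map_map, Subgroup.map_map]
      congr 1
      ext1 s
      show h * s.viaEmbedding ι' * h⁻¹ = h * g'⁻¹ * (g' * s.viaEmbedding ι' * g'⁻¹) * (h * g'⁻¹)⁻¹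
      group
    refine ⟨⟨_, hB, by rw [hP0']; exact isDefectGroup_map_conj hM hB hP' _⟩, fun φ' hφ' z' hz' e' => ?_⟩
    rw [cnt_eq_of_mem hM hB hφ' hφB hz' hz e' rfl, hzc]
  choose G hG using hlow
  have hGinj : ∀ y₁ (h₁ : y₁ ∈ Γ) y₂ (h₂ : y₂ ∈ Γ), G y₁ h₁ = G y₂ h₂ → y₁ = y₂ := by
    intro y₁ h₁ y₂ h₂ e
    obtain ⟨φ, hφ⟩ := isPBlock_nonempty (G y₁ h₁).2.1
    obtain ⟨z, hz, ez⟩ := exists_chr_eq hN φ
    obtain ⟨-, hs1, -⟩ := hΓ h₁
    obtain ⟨-, hs2, -⟩ := hΓ h₂
    refine eq_of_exc_eq_zero hp.pos hs1 hs2 ?_ (mem_filter.mp h₁).2 (mem_filter.mp h₂).2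
    rw [← hG y₁ h₁ φ hφ z hz ez, ← hG y₂ h₂ φ (e ▸ hφ) z hz ez]
  have hsurj : Surjective fun y : ↥Γ => G y.1 y.2 := by
    have h1 : Nat.card Bl ≤ Nat.card ↥Γ :=
      Nat.card_le_card_of_injective (fun B => (⟨x B, hx B⟩ : ↥Γ)) fun B B' e =>
        hxinj B B' (congrArg (fun y : ↥Γ => cnt p (y : Fin N → ℕ)) e)
    exact (Function.Injective.bijective_of_nat_card_le (fun y y' e =>
      Subtype.ext (hGinj _ y.2 _ y'.2 e)) h1).2
  have hP0C : Cfsg.IsDefectGroup p M C P0 := by
    have := isDefectGroup_map_conj hM hC hP g⁻¹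
    rwa [show P.map (MulAut.conj g⁻¹).toMonoidHom = P0 by
      rw [hPeq, Subgroup.map_map]
      conv_rhs => rw [← Subgroup.map_id P0]
      congr 1
      ext1 s
      show g⁻¹ * (g * s * g⁻¹) * g⁻¹⁻¹ = s
      group] at this
  -- conclude
  have hB' := isPBlock_blockOf (M := M) χ'
  have hχ'B := mem_blockOf_self (M := M) χ'
  have hsame : ∀ (φ : Cfsg.IrrCharacter (Equiv.Perm (Fin n))) (B : Set _),
      Cfsg.IsPBlock M B → Cfsg.IsDefectGroup p M B P0 → φ ∈ B → ∀ z ∈ cfg N (base N + n),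
      (φ : Equiv.Perm (Fin n) → ℂ) = chr n z → ∃ y : ↥Γ, (G y.1 y.2).1 = B ∧ cnt p y.1 = cnt p z := by
    intro φ B hB hBP hφ z hz ez
    obtain ⟨y, hy⟩ := hsurj ⟨B, hB, hBP⟩
    have e : (G y.1 y.2).1 = B := congrArg Subtype.val hy
    exact ⟨y, e, (hG y.1 y.2 φ (by rw [e]; exact hφ) z hz ez).symm⟩
  obtain ⟨y, hy, hyc⟩ := hsame χ C hC hP0C hχ b hb eb
  obtain ⟨P', hP'⟩ := exists_isDefectGroup hM hB'
  have hwb' : ∑ l, exc p b' l = w := sum_exc_eq hp.pos hb hb' hc
  have hP0B' : Cfsg.IsDefectGroup p M (Cfsg.blockOf M (χ' : Equiv.Perm (Fin n) → ℂ)) P0 := by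
    obtain ⟨⟨ι', g', hP'eq⟩, -⟩ := exists_defect hM hN hB' hP' hχ'B hb' eb' hwb' Q
    obtain ⟨h, hh⟩ := model_conj rfl Q ι Q ι'
    have h2 := isDefectGroup_map_conj hM hB' hP' (h * g'⁻¹)
    rwa [show P'.map (MulAut.conj (h * g'⁻¹)).toMonoidHom = P0 by
      rw [hP'eq, hP0, ← hh, Subgroup.map_map]
      congr 1
      ext1 s
      show h * g'⁻¹ * (g' * s * g'⁻¹) * (h * g'⁻¹)⁻¹ = h * s * h⁻¹
      group] at h2
  obtain ⟨y', hy', hyc'⟩ := hsame χ' _ hB' hP0B' hχ'B b' hb' eb'
  have heq : y = y' := Subtype.ext (eq_of_exc_eq_zero hp.pos (hΓ y.2).2.1 (hΓ y'.2).2.1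
    (by rw [hyc, hyc', hc]) (mem_filter.mp y.2).2 (mem_filter.mp y'.2).2)
  subst heq
  rw [hy] at hy'
  rw [hy']
  exact hχ'B

end Cfsg.Agent.Bead29
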