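import Cfsg.Agent.Bead29.Frobenius

/-!
# Runner-sorted tuples and their cores
-/

set_option autoImplicit false

namespace Cfsg.Agent.Bead29

open Finset Function

variable {N : ℕ} {p : ℕ}

/-- Increasing along each residue class. -/
def RS (p : ℕ) (b : Fin N → ℕ) : Prop := ∀ i l, i < l → b i % p = b l % p → b i < b l

theorem RS.injective {b : Fin N → ℕ} (h : RS p b) : Injective b := by
  intro i l e
  rcases lt_trichotomy i l with hl | hl | hl
  · exact absurd e (h i l hl (by rw [e])).ne
  · exact hl
  · exact absurd e.symm (h l i hl (by rw [e])).ne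

theorem RS.of_strictMono {b : Fin N → ℕ} (h : StrictMono b) : RS p b := fun _ _ hl _ => h hl

/-- No bead can move down. -/
def IsCore (p : ℕ) (b : Fin N → ℕ) : Prop := ∀ i, p ≤ b i → ∃ l, b l = b i - p

/-- The core with the same residues. -/
def coreOf (p : ℕ) (b : Fin N → ℕ) : Fin N → ℕ := fun i =>
  b i % p + p * (Finset.univ.filter fun l => l < i ∧ b l % p = b i % p).card

theorem coreOf_mod (p : ℕ) (b : Fin N → ℕ) (i : Fin N) : coreOf p b i % p = b i % p := by
  simp [coreOf, Nat.add_mul_mod_self_left, Nat.mod_mod]

theorem coreOf_congr {b c : Fin N → ℕ} (h : ∀ i, b i % p = c i % p) : coreOf p b = coreOf p c := by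
  funext i
  simp only [coreOf, h]

theorem IsCore.eq_coreOf (hp : 0 < p) {b : Fin N → ℕ} (hc : IsCore p b) (hs : RS p b) :
    b = coreOf p b := by
  funext i
  have hex : ∀ d, d ≤ b i / p → ∃ l, b l = b i - p * d := by
    intro d
    induction d with
    | zero => intro; exact ⟨i, by simp⟩
    | succ d ih =>
      intro hd
      obtain ⟨l, hl⟩ := ih (by omega)
      have h1 : p * (d + 1) ≤ b i := (Nat.mul_le_mul_left p hd).trans (Nat.mul_div_le (b i) p)
      rw [Nat.mul_add, mul_one] at h1
      obtain ⟨l', hl'⟩ := hc l (by omega)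
      exact ⟨l', by rw [hl', hl, Nat.mul_add, mul_one]; omega⟩
  have hset : (Finset.univ.filter fun l => l < i ∧ b l % p = b i % p) =
      Finset.univ.filter fun l => b l < b i ∧ b l % p = b i % p := by
    refine Finset.filter_congr fun l _ => and_congr_left fun h => ⟨fun hl => hs l i hl h, fun hl => ?_⟩
    rcases lt_trichotomy l i with h1 | h1 | h1
    · exact h1
    · subst h1; omega
    · exact absurd hl (not_lt.mpr (hs i l h1 h.symm).le)
  have hcard : (Finset.univ.filter fun l => b l < b i ∧ b l % p = b i % p).card = b i / p := by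
    have him : (Finset.univ.filter fun l => b l < b i ∧ b l % p = b i % p).image (fun l => b l / p) =
        range (b i / p) := by
      ext q
      simp only [mem_image, mem_filter, mem_univ, true_and, mem_range]
      constructor
      · rintro ⟨l, ⟨h1, h2⟩, rfl⟩
        have h3 := Nat.div_add_mod (b l) p
        have h4 := Nat.div_add_mod (b i) p
        have h5 : p * (b l / p) < p * (b i / p) := by omega
        exact Nat.lt_of_mul_lt_mul_left h5
      · intro hq
        obtain ⟨l, hl⟩ := hex (b i / p - q) (Nat.sub_le _ _)
        have h4 := Nat.div_add_mod (b i) p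
        have h7 : b l = b i % p + p * q := by
          rw [hl, Nat.mul_sub]
          have : p * q ≤ p * (b i / p) := Nat.mul_le_mul_left p hq.le
          omega
        have h8 : b l % p = b i % p := by rw [h7, Nat.add_mul_mod_self_left, Nat.mod_mod]
        have h9 : p * q < p * (b i / p) := Nat.mul_lt_mul_of_pos_left hq hp
        refine ⟨l, ⟨by omega, h8⟩, ?_⟩
        rw [h7, Nat.add_mul_div_left _ _ hp, Nat.div_eq_of_lt (Nat.mod_lt _ hp), zero_add]
    rw [← card_range (b i / p), ← him, card_image_of_injOn]
    intro l hl l' hl' e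
    simp only [coe_filter, Set.mem_ofPred_eq, mem_univ, true_and] at hl hl'
    refine hs.injective ?_
    have h3 := Nat.div_add_mod (b l) p
    have h4 := Nat.div_add_mod (b l') p
    simp only at e
    rw [e, hl.2] at h3
    rw [hl'.2] at h4
    omega
  show b i = b i % p + p * _
  rw [hset, hcard, Nat.mod_add_div]

/-- The weight of a runner-sorted tuple and the number of ways down to its core. -/
theorem exists_weight (hp : 0 < p) : ∀ {b : Fin N → ℕ}, RS p b →
    ∃ (w : ℕ) (c : ℚ), 0 < c ∧ deg b = deg (coreOf p b) + p * w ∧
      ∀ A : Fn N, Alt A → upM (Multiset.replicate w p) A b = c * A (coreOf p b) := by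
  suffices H : ∀ d : ℕ, ∀ {b : Fin N → ℕ}, deg b = d → RS p b →
      ∃ (w : ℕ) (c : ℚ), 0 < c ∧ deg b = deg (coreOf p b) + p * w ∧
        ∀ A : Fn N, Alt A → upM (Multiset.replicate w p) A b = c * A (coreOf p b) by
    intro b hb; exact H _ rfl hb
  intro d
  induction d using Nat.strong_induction_on with
  | _ d ih =>
    intro b hd hs
    classical
    by_cases hcore : IsCore p b
    · refine ⟨0, 1, one_pos, ?_, fun A _ => ?_⟩
      · rw [← hcore.eq_coreOf hp hs]; simp
      · rw [Multiset.replicate_zero, upM_zero, one_mul, ← hcore.eq_coreOf hp hs]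
    · let mv : Fin N → (Fin N → ℕ) := fun i => update b i (b i - p)
      let V := Finset.univ.filter fun i => p ≤ b i ∧ ∀ l, b l ≠ b i - p
      have hV : V.Nonempty := by
        simp only [IsCore, not_forall, not_exists] at hcore
        obtain ⟨i, hi, hl⟩ := hcore
        exact ⟨i, Finset.mem_filter.mpr ⟨mem_univ _, hi, hl⟩⟩
      have hmod : ∀ i ∈ V, ∀ l, mv i l % p = b l % p := by
        intro i hi l
        obtain ⟨hle, -⟩ := (Finset.mem_filter.mp hi).2
        rcases eq_or_ne l i with rfl | hne
        · simp only [mv, update_self]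
          conv_rhs => rw [← Nat.sub_add_cancel hle, Nat.add_mod_right]
        · simp [mv, update_of_ne hne]
      have hRS : ∀ i ∈ V, RS p (mv i) := by
        intro i hi a l hal he
        obtain ⟨hle, hno⟩ := (Finset.mem_filter.mp hi).2
        rw [hmod i hi, hmod i hi] at he
        have h := hs a l hal he
        rcases eq_or_ne a i with rfl | ha
        · rw [show mv a a = b a - p from update_self .., show mv a l = b l from
            update_of_ne hal.ne' ..]
          omega
        rcases eq_or_ne l i with rfl | hl
        · rw [show mv l l = b l - p from update_self .., show mv l a = b a from update_of_ne ha ..]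
          have h2 := hno a
          have h3 := Nat.div_add_mod (b a) p
          have h4 := Nat.div_add_mod (b l) p
          have h5 : b a / p < b l / p := by
            by_contra hh
            push Not at hh
            have := Nat.mul_le_mul_left p hh
            omega
          have h6 := Nat.mul_le_mul_left p (Nat.succ_le_of_lt h5)
          rw [Nat.succ_eq_add_one, Nat.mul_add, mul_one] at h6
          omega
        · simpa [mv, update_of_ne ha, update_of_ne hl] using h
      have hdeg : ∀ i ∈ V, deg (mv i) + p = deg b := by
        intro i hi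
        have h1 := deg_update b i (b i - p)
        have h2 := (Finset.mem_filter.mp hi).2.1
        show deg (update b i (b i - p)) + p = deg b
        omega
      have hcongr : ∀ i ∈ V, coreOf p (mv i) = coreOf p b := fun i hi => coreOf_congr (hmod i hi)
      have hI : ∀ i ∈ V, ∃ (w : ℕ) (c : ℚ), 0 < c ∧ deg (mv i) = deg (coreOf p b) + p * w ∧
          ∀ A : Fn N, Alt A → upM (Multiset.replicate w p) A (mv i) = c * A (coreOf p b) := by
        intro i hi
        have := hdeg i hi
        obtain ⟨w, c, h1, h2, h3⟩ := ih (deg (mv i)) (by omega) rfl (hRS i hi)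
        rw [hcongr i hi] at h2 h3
        exact ⟨w, c, h1, h2, h3⟩
      choose w c hc hw hA using hI
      obtain ⟨i₀, hi₀⟩ := hV
      have hweq : ∀ i (hi : i ∈ V), w i hi = w i₀ hi₀ := by
        intro i hi
        have h1 := hw i hi
        have h2 := hw i₀ hi₀
        have h3 := hdeg i hi
        have h4 := hdeg i₀ hi₀
        exact Nat.eq_of_mul_eq_mul_left hp (by omega)
      refine ⟨w i₀ hi₀ + 1, ∑ i : V, c i.1 i.2, ?_, ?_, fun A hAlt => ?_⟩
      · exact Finset.sum_pos (fun i _ => hc _ _) ⟨⟨i₀, hi₀⟩, mem_univ _⟩
      · have h2 := hw i₀ hi₀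
        have h4 := hdeg i₀ hi₀
        rw [Nat.mul_add, mul_one]
        omega
      · rw [Multiset.replicate_succ, upM_cons, up_apply]
        have hterm : ∀ i, (if p ≤ b i then upM (Multiset.replicate (w i₀ hi₀) p) A
            (update b i (b i - p)) else 0) =
            if hi : i ∈ V then c i hi * A (coreOf p b) else 0 := by
          intro i
          by_cases hi : i ∈ V
          · rw [if_pos (Finset.mem_filter.mp hi).2.1, dif_pos hi, ← hweq i hi]
            exact hA i hi A hAlt
          · rw [dif_neg hi]
            split_ifs with hle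
            · refine (hAlt.upM _).eq_zero fun hinj => ?_
              simp only [V, Finset.mem_filter, mem_univ, true_and, not_and, not_forall,
                not_not] at hi
              obtain ⟨l, hl⟩ := hi hle
              have hli : l ≠ i := by
                rintro rfl; omega
              exact hli (hinj (by rw [update_of_ne hli, update_self, hl]))
            · rfl
        rw [Finset.sum_congr rfl fun i _ => hterm i, Finset.sum_mul]
        rw [← Finset.sum_subset (Finset.subset_univ V) (fun i _ hi => by rw [dif_neg hi]),
          ← Finset.sum_coe_sort V]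
        exact Finset.sum_congr rfl fun i _ => by rw [dif_pos i.2]

theorem coreOf_one (b : Fin N → ℕ) : coreOf 1 b = fun i : Fin N => (i : ℕ) := by
  funext i
  simp only [coreOf, Nat.mod_one, and_true, one_mul, zero_add]
  rw [show (Finset.univ.filter fun l => l < i) = Finset.Iio i by ext; simp, Fin.card_Iio]

theorem vac_id : vac N (fun i : Fin N => (i : ℕ)) = 1 := by
  have := vac_perm (N := N) 1
  simpa using this

/-- The degrees are positive. -/
theorem X_ones_pos {b : Fin N → ℕ} {m : ℕ} (hb : StrictMono b) (hd : deg b = base N + m) :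
    0 < X N (Multiset.replicate m 1) b := by
  obtain ⟨w, c, hc, hw, hA⟩ := exists_weight one_pos (RS.of_strictMono (p := 1) hb)
  rw [coreOf_one] at hw hA
  have hdd : deg (fun i : Fin N => (i : ℕ)) = base N := rfl
  obtain rfl : w = m := by omega
  rw [X, hA _ vac_alt, vac_id, mul_one]
  exact hc

theorem X_ones_ne_zero {b : Fin N → ℕ} {m : ℕ} (hb : Injective b) (hd : deg b = base N + m) :
    X N (Multiset.replicate m 1) b ≠ 0 := by
  have hs : StrictMono (b ∘ Tuple.sort b) :=
    (Tuple.monotone_sort b).strictMono_of_injective (hb.comp (Tuple.sort b).injective)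
  have hpos := X_ones_pos hs (by rw [deg_comp_perm, hd])
  intro h0
  have h := vac_alt.upM (Multiset.replicate m 1) (Tuple.sort b) b
  rw [X] at hpos h0
  rw [h, h0, mul_zero] at hpos
  exact lt_irrefl _ hpos

theorem coreOf_rs (p : ℕ) (hp : 0 < p) (b : Fin N → ℕ) : RS p (coreOf p b) := by
  intro i l hil he
  rw [coreOf_mod, coreOf_mod] at he
  simp only [coreOf, he]
  refine Nat.add_lt_add_left (Nat.mul_lt_mul_of_pos_left (Finset.card_lt_card ?_) hp) _
  rw [Finset.ssubset_iff_of_subset]
  · exact ⟨i, by simp [hil, he], by simp⟩
  · intro a ha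
    simp only [mem_filter, mem_univ, true_and] at ha ⊢
    exact ⟨ha.1.trans hil, ha.2⟩

/-- A `p`-element on which the character does not vanish. -/
theorem exists_X_ne_zero (hp : 0 < p) {b : Fin N → ℕ} {n : ℕ} (hb : StrictMono b)
    (hd : deg b = base N + n) :
    ∃ w, deg b = deg (coreOf p b) + p * w ∧ p * w ≤ n ∧
      X N (Multiset.replicate w p + Multiset.replicate (n - p * w) 1) b ≠ 0 := by
  obtain ⟨w, c, hc, hw, hA⟩ := exists_weight hp (RS.of_strictMono (p := p) hb)
  have hinj := (coreOf_rs p hp b).injective
  have hbase := base_le_deg hinj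
  refine ⟨w, hw, by omega, ?_⟩
  rw [X, upM_add, hA _ (vac_alt.upM _)]
  exact mul_ne_zero hc.ne' (X_ones_ne_zero hinj (by omega))

end Cfsg.Agent.Bead29
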